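import Cfsg.Agent.Lib.StdR2.Gen
import Cfsg.Agent.Lib.Chev.Units
import Cfsg.Agent.Lib.Chev.CertG2
import Cfsg.Agent.Lib.Co1Rec.Quad
import Cfsg.Agent.Lib.ExtraTwo.Classify

/-! Standard subgroups `A ≅ G₂(4)` whose centraliser has 2-rank at least 2 (plans/G2C2.md):
definitions and the interfaces between the packages. -/

set_option autoImplicit false
set_option linter.unusedSectionVars false

namespace CfsgLib.G2C

open Subgroup Cfsg CfsgLib.Tech CfsgLib.StdR2 CfsgLib.Chev CfsgLib.OrthE CfsgLib.ExtraTwo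
  CfsgLib.Co1Rec QuadraticMap
open scoped commutatorElement

/-! ### The Chevalley group and its image -/

/-- the Chevalley group of type `G₂` -/
abbrev Γ (F : Type*) [Field F] := ↥(Lie.chevG2.group F)

variable {F : Type*} [Field F]

/-- root elements -/
noncomputable def xg (r : ℕ) (t : F) : Γ F := ⟨xU Lie.chevG2 F r t, xU_mem_group r t⟩

/-- diagonal elements -/
noncomputable def hg (r : ℕ) (t : F) : Γ F := ⟨hU Lie.chevG2 F r t, hU_mem_group r t⟩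

/-- monomial elements -/
noncomputable def ng (r : ℕ) (t : F) : Γ F := ⟨nU Lie.chevG2 F r t, nU_mem_group r t⟩

variable {G : Type*} [Group G]

/-- the image of `x_r(t)`; roots `0 … 11` are `-(3a+2b), -(3a+b), -(2a+b), -(a+b), -a, -b, b, a,
a+b, 2a+b, 3a+b, 3a+2b` (`a` short) -/
noncomputable def x (ι : Γ F →* G) (r : ℕ) (t : F) : G := ι (xg r t)

theorem x_add (ι : Γ F →* G) (r : ℕ) (t u : F) : x ι r (t + u) = x ι r t * x ι r u := by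
  rw [x, x, x, ← map_mul]; exact congrArg ι (Subtype.ext (xU_add r t u))

theorem x_zero (ι : Γ F →* G) (r : ℕ) : x ι r 0 = 1 := by
  rw [x, ← map_one ι]; exact congrArg ι (Subtype.ext (xU_zero r))

theorem x_inv (ι : Γ F →* G) (r : ℕ) (t : F) : (x ι r t)⁻¹ = x ι r (-t) := by
  rw [x, x, ← map_inv]; exact congrArg ι (Subtype.ext (xU_inv r t))

/-- root subgroups -/
def XX (ι : Γ F →* G) (r : ℕ) : Subgroup G where
  carrier := {g | ∃ t, g = x ι r t}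
  one_mem' := ⟨0, (x_zero ι r).symm⟩
  mul_mem' := by rintro _ _ ⟨t, rfl⟩ ⟨u, rfl⟩; exact ⟨t + u, (x_add ι r t u).symm⟩
  inv_mem' := by rintro _ ⟨t, rfl⟩; exact ⟨-t, x_inv ι r t⟩

theorem mem_XX {ι : Γ F →* G} {r : ℕ} {g : G} : g ∈ XX ι r ↔ ∃ t, g = x ι r t := Iff.rfl

theorem x_mem (ι : Γ F →* G) (r : ℕ) (t : F) : x ι r t ∈ XX ι r := ⟨t, rfl⟩

/-- `A` -/
abbrev AA (ι : Γ F →* G) : Subgroup G := ι.range

/-- `K = C(A)` -/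
abbrev KK (ι : Γ F →* G) : Subgroup G := centralizer (AA ι : Set G)

/-- `H = N(K)` -/
abbrev HH (ι : Γ F →* G) : Subgroup G := normalizer (KK ι : Set G)

/-- the long root group `Z` -/
def ZZ (ι : Γ F →* G) : Subgroup G := XX ι 11

/-- the involution `z` -/
noncomputable def zz (ι : Γ F →* G) : G := x ι 11 1

/-- `R_A = O₂(C_A(z))`, of order `2^10` -/
def RA (ι : Γ F →* G) : Subgroup G := XX ι 6 ⊔ XX ι 8 ⊔ XX ι 9 ⊔ XX ι 10 ⊔ XX ι 11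

/-- the short root `A₅` -/
def A2 (ι : Γ F →* G) : Subgroup G := XX ι 7 ⊔ XX ι 4

/-- the long root `A₅` that centralises `A2` -/
def A1 (ι : Γ F →* G) : Subgroup G := XX ι 11 ⊔ XX ι 0

/-- `L = C_A(z)` -/
def LL (ι : Γ F →* G) : Subgroup G := RA ι ⊔ A2 ι

/-- long root involutions -/
def Long (ι : Γ F →* G) (a : G) : Prop := ∃ b ∈ AA ι, a = b * zz ι * b⁻¹

/-- short root involutions -/
def Short (ι : Γ F →* G) (a : G) : Prop := ∃ b ∈ AA ι, a = b * x ι 9 1 * b⁻¹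

/-- the involutions that are conjugate into `K` -/
def DD (ι : Γ F →* G) : Set G := {d | orderOf d = 2 ∧ ∃ g, d ∈ cj g (KK ι)}

/-- the conjugate embedding -/
def cι (g : G) (ι : Γ F →* G) : Γ F →* G := (MulAut.conj g).toMonoidHom.comp ι

section
variable {ι : Γ F →* G}

theorem XX_le (r : ℕ) : XX ι r ≤ AA ι := fun _ ⟨_, e⟩ => ⟨_, e.symm⟩

theorem ZZ_le_RA : ZZ ι ≤ RA ι := le_sup_right

theorem RA_le_LL : RA ι ≤ LL ι := le_sup_left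

theorem A2_le_LL : A2 ι ≤ LL ι := le_sup_right

theorem ZZ_le_LL : ZZ ι ≤ LL ι := ZZ_le_RA.trans RA_le_LL

theorem ZZ_le_A1 : ZZ ι ≤ A1 ι := le_sup_left

theorem LL_le : LL ι ≤ AA ι :=
  sup_le (sup_le (sup_le (sup_le (sup_le (XX_le _) (XX_le _)) (XX_le _)) (XX_le _)) (XX_le _))
    (sup_le (XX_le _) (XX_le _))

theorem A1_le : A1 ι ≤ AA ι := sup_le (XX_le _) (XX_le _)

theorem zz_mem : zz ι ∈ ZZ ι := x_mem ι 11 1

theorem mem_KK {k : G} : k ∈ KK ι ↔ ∀ a ∈ AA ι, Commute k a :=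
  ⟨fun h a ha => (h a ha).symm, fun h a ha => (h a ha).eq.symm⟩

theorem comm_KA {k a : G} (hk : k ∈ KK ι) (ha : a ∈ AA ι) : Commute k a := mem_KK.1 hk a ha

theorem cι_apply (g : G) (a : Γ F) : cι g ι a = g * ι a * g⁻¹ := rfl

theorem cι_cι (g h : G) : cι g (cι h ι) = cι (g * h) ι := by
  ext a; simp [cι_apply, mul_assoc]

theorem x_cι (g : G) (r : ℕ) (t : F) : x (cι g ι) r t = g * x ι r t * g⁻¹ := rfl

theorem zz_cι (g : G) : zz (cι g ι) = g * zz ι * g⁻¹ := rfl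

theorem XX_cι (g : G) (r : ℕ) : XX (cι g ι) r = cj g (XX ι r) := by
  ext y
  rw [mem_cj, mem_XX, mem_XX]
  exact exists_congr fun t => by rw [x_cι]; exact ⟨fun e => by rw [e]; group, fun e => by rw [← e]; group⟩

theorem AA_cι (g : G) : AA (cι g ι) = cj g (AA ι) := by rw [AA, cι, MonoidHom.range_comp]

theorem KK_cι (g : G) : KK (cι g ι) = cj g (KK ι) := by rw [KK, AA_cι, cj_centralizer]

theorem HH_cι (g : G) : HH (cι g ι) = cj g (HH ι) := by rw [HH, KK_cι, cj_normalizer]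

theorem ZZ_cι (g : G) : ZZ (cι g ι) = cj g (ZZ ι) := XX_cι g 11

theorem RA_cι (g : G) : RA (cι g ι) = cj g (RA ι) := by simp only [RA, XX_cι, cj_sup]

theorem A2_cι (g : G) : A2 (cι g ι) = cj g (A2 ι) := by simp only [A2, XX_cι, cj_sup]

theorem A1_cι (g : G) : A1 (cι g ι) = cj g (A1 ι) := by simp only [A1, XX_cι, cj_sup]

theorem LL_cι (g : G) : LL (cι g ι) = cj g (LL ι) := by rw [LL, RA_cι, A2_cι, LL, cj_sup]

theorem Long_cι (g a : G) : Long (cι g ι) (g * a * g⁻¹) ↔ Long ι a := by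
  simp only [Long, AA_cι, zz_cι]
  exact ⟨fun ⟨b, h, e⟩ => ⟨_, mem_cj.1 h, by
      rw [show a = g⁻¹ * (g * a * g⁻¹) * g by group, e]; group⟩,
    fun ⟨b, h, e⟩ => ⟨_, conj_mem_cj.2 h, by rw [e]; group⟩⟩

theorem Short_cι (g a : G) : Short (cι g ι) (g * a * g⁻¹) ↔ Short ι a := by
  simp only [Short, AA_cι, x_cι]
  exact ⟨fun ⟨b, h, e⟩ => ⟨_, mem_cj.1 h, by
      rw [show a = g⁻¹ * (g * a * g⁻¹) * g by group, e]; group⟩,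
    fun ⟨b, h, e⟩ => ⟨_, conj_mem_cj.2 h, by rw [e]; group⟩⟩

theorem DD_conj {d : G} (hd : d ∈ DD ι) (g : G) : g * d * g⁻¹ ∈ DD ι := by
  obtain ⟨h1, k, h2⟩ := hd
  exact ⟨(MulEquiv.orderOf_eq (MulAut.conj g) d).trans h1, g * k, by rw [cj_mul]; exact conj_mem_cj.2 h2⟩

theorem DD_cι (g : G) : DD (cι g ι) = DD ι := by
  ext d
  simp only [DD, KK_cι, ← cj_mul, Set.mem_ofPred_eq]
  exact and_congr_right fun _ => ⟨fun ⟨k, h⟩ => ⟨_, h⟩, fun ⟨k, h⟩ => ⟨k * g⁻¹, by simpa using h⟩⟩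

end

variable [Fintype F]

/-- an embedding of `G₂(4)` -/
structure Emb (ι : Γ F →* G) : Prop where
  hF : Fintype.card F = 4
  inj : Function.Injective ι

theorem Emb.cι {ι : Γ F →* G} (h : Emb ι) (g : G) : Emb (cι g ι) :=
  ⟨h.hF, (MulAut.conj g).injective.comp h.inj⟩

/-- an element of order 3 of `N_{A1}(Z)` -/
structure Tau (ι : Γ F →* G) (τ : G) : Prop where
  mem : τ ∈ A1 ι
  cube : τ ^ 3 = 1
  nZ : τ ∈ normalizer (ZZ ι : Set G)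
  nR : τ ∈ normalizer (RA ι : Set G)
  n10 : τ ∈ normalizer (XX ι 10 : Set G)
  c2 : ∀ a ∈ A2 ι, Commute τ a
  fZ : ∀ ζ ∈ ZZ ι, Commute τ ζ → ζ = 1
  fR : ∀ r ∈ RA ι, ⁅τ, r⁆ ∈ ZZ ι → r ∈ ZZ ι
  gen : ∀ a ∈ AA ι, a ∈ normalizer (ZZ ι : Set G) → ∃ l ∈ LL ι, ∃ i : ℕ, a = l * τ ^ i

/-- an element of order 5 of `A2` -/
structure Five (ι : Γ F →* G) (f : G) : Prop where
  mem : f ∈ A2 ι
  pow : f ^ 5 = 1
  fR : ∀ r ∈ RA ι, ⁅f, r⁆ ∈ ZZ ι → r ∈ ZZ ι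

/-- The hypothesis after the reduction: `A` is standard and lies in the simple group `F*(G)`. -/
structure Std (ι : Γ F →* G) : Prop extends Emb ι where
  ti : IsTightlyEmbedded (KK ι)
  norm : normalizer (AA ι : Set G) = HH ι
  nc : ∀ g, g ∉ HH ι → ¬ AA ι ≤ cj g (KK ι)
  four : ∃ v ∈ KK ι, ∃ w ∈ KK ι, orderOf v = 2 ∧ orderOf w = 2 ∧ v ≠ w ∧ Commute v w
  nn : HH ι ≠ ⊤
  lay : ∃ X : Subgroup G, X.Normal ∧ IsSimpleGroup X ∧ centralizer (X : Set G) = ⊥ ∧ AA ι ≤ X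

theorem Std.cι [Finite G] {ι : Γ F →* G} (h : Std ι) (g : G) : Std (cι g ι) where
  toEmb := h.toEmb.cι g
  ti := by
    rw [KK_cι]
    refine ⟨by rw [card_cj]; exact h.ti.1, fun k hk => ?_⟩
    have := h.ti.2 (g⁻¹ * k * g) (by rwa [← cj_normalizer, mem_cj] at hk)
    rw [← card_cj g, cj_inf] at this
    have e : cj g (cj (g⁻¹ * k * g) (KK ι)) = cj k (cj g (KK ι)) := by
      rw [← cj_mul, ← cj_mul]; congr 1; group
    exact (congrArg (fun Y => Odd (Nat.card (cj g (KK ι) ⊓ Y : Subgroup G))) e).mp this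
  norm := by rw [AA_cι, ← cj_normalizer, h.norm, HH_cι]
  nc := fun k hk e => by
    rw [HH_cι, mem_cj] at hk
    refine h.nc _ hk ((cj_le_cj_iff g).1 ?_)
    rw [AA_cι, KK_cι, ← cj_mul] at e
    rwa [← cj_mul, show g * (g⁻¹ * k * g) = k * g by group]
  four := by
    obtain ⟨v, h1, w, h2, h3, h4, h5, h6⟩ := h.four
    rw [KK_cι]
    exact ⟨_, conj_mem_cj.2 h1, _, conj_mem_cj.2 h2, (MulEquiv.orderOf_eq (MulAut.conj g) v).trans h3,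
      (MulEquiv.orderOf_eq (MulAut.conj g) w).trans h4, fun e => h5 (by simpa using e),
      h6.map (MulAut.conj g).toMonoidHom⟩
  nn := fun e => h.nn (cj_injective g (by rw [← HH_cι, e, cj_top]))
  lay := by
    obtain ⟨X, h1, h2, h3, h4⟩ := h.lay
    exact ⟨X, h1, h2, h3, by rw [AA_cι, ← cj_eq_of_normal g X]; exact cj_mono g h4⟩

/-! ### The stages -/

/-- `E = V × Z` -/
abbrev EE (ι : Γ F →* G) (V : Subgroup G) : Subgroup G := V ⊔ ZZ ι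

/-- `O* = ⋂ K^g`, `g ∈ N(E)` -/
def Os (ι : Γ F →* G) (V : Subgroup G) : Subgroup G :=
  ⨅ g ∈ normalizer (EE ι V : Set G), cj g (KK ι)

/-- Stage 0: the four-group `V` is Sylow in `K`, `C_K(V) = V × O`, and `n ∈ N(E)` moves `V`. -/
structure S0 (ι : Γ F →* G) (V O : Subgroup G) (n : G) : Prop extends Std ι where
  syl : IsSylowIn 2 V (KK ι)
  cardV : Nat.card V = 4
  sqV : ∀ v ∈ V, v * v = 1
  nD : ∀ g, zz ι ∉ cj g (KK ι)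
  nH : n ∉ HH ι
  nE : n ∈ normalizer (EE ι V : Set G)
  nZ : n ∈ normalizer (ZZ ι : Set G)
  nL : n ∈ normalizer (LL ι : Set G)
  OK : O ≤ KK ι
  odd : Odd (Nat.card O)
  OV : ∀ o ∈ O, ∀ v ∈ V, Commute o v
  cV : ∀ k ∈ KK ι, (∀ v ∈ V, Commute k v) → ∃ v ∈ V, ∃ o ∈ O, k = v * o

/-- `R = S R_A`, of order `2^14` -/
abbrev RR (ι : Γ F →* G) (S : Subgroup G) : Subgroup G := S ⊔ RA ι

/-- Stage 1: the group `S` of order 64. -/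
structure S1 (ι : Γ F →* G) (V O : Subgroup G) (n τ : G) (S : Subgroup G) : Prop
    extends S0 ι V O n where
  tau : Tau ι τ
  twoS : IsPGroup 2 S
  cardS : Nat.card S = 64
  leS : EE ι V ≤ S
  SL : ∀ c ∈ S, ∀ l ∈ LL ι, Commute c l
  SO : ∀ c ∈ S, ∀ o ∈ O, Commute c o
  commS : ∀ c ∈ S, ∀ d ∈ S, ⁅c, d⁆ ∈ ZZ ι
  sqS : ∀ c ∈ S, c * c ∈ ZZ ι
  cenS : ∀ c ∈ S, c ∉ EE ι V → ∀ e ∈ EE ι V, Commute c e → e ∈ ZZ ι
  trans : ∀ v ∈ V, v ≠ 1 → ∀ ζ ∈ ZZ ι, ∃ c ∈ S, c * v * c⁻¹ = v * ζ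
  τS : τ ∈ normalizer (S : Set G)
  τf : ∀ c ∈ S, ⁅τ, c⁆ ∈ EE ι V → c ∈ EE ι V
  NE : normalizer (EE ι V : Set G) ≤ normalizer (RR ι S : Set G)
  OsS : ∀ c ∈ S, ∃ e ∈ EE ι V, ∀ o ∈ Os ι V, Commute (c * e) o
  max : ∀ Y : Subgroup G, IsPGroup 2 Y → Y ≤ normalizer (EE ι V : Set G) →
    (∀ y ∈ Y, ∀ a ∈ A2 ι, Commute y a) → Nat.card Y ≤ 64
  cS : ∀ g, (∀ c ∈ S, Commute g c) → ∃ o ∈ O, ∃ l ∈ LL ι, g = o * l
  SRA : S ⊓ RA ι = ZZ ι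
  cardR : Nat.card (RR ι S) = 2 ^ 14

/-- Stage 2: the extraspecial group `Q₁ = O₂(C_J(z))` of `J = J₂ ≤ C(A2)`. -/
structure S2 (ι : Γ F →* G) (V O : Subgroup G) (n τ : G) (S Q1 : Subgroup G) (φ : G) : Prop
    extends S1 ι V O n τ S where
  es1 : ES Q1 (zz ι)
  card1 : Nat.card Q1 = 32
  Q1A : ∀ q ∈ Q1, ∀ a ∈ A2 ι, Commute q a
  norm1 : ∀ g, (∀ a ∈ A2 ι, Commute g a) → Commute g (zz ι) → g ∈ normalizer (Q1 : Set G)
  ZQ1 : ZZ ι ≤ Q1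
  cardSQ : Nat.card (S ⊓ Q1 : Subgroup G) = 16
  φA : ∀ a ∈ A2 ι, Commute φ a
  φz : Commute φ (zz ι)
  φ5 : ∀ q ∈ Q1, Commute (φ ^ 5) q
  φne : ∃ q ∈ Q1, ¬ Commute φ q

/-- Stage 2b: the centraliser of `Q₁`. -/
structure S2b (ι : Γ F →* G) (V O : Subgroup G) (n τ : G) (S Q1 : Subgroup G) (φ : G)
    (Q2 : Subgroup G) : Prop extends S2 ι V O n τ S Q1 φ where
  cK : ∀ v ∈ V, v ≠ 1 → ∀ k ∈ KK ι, Commute k v → ∃ w ∈ V, ∃ o ∈ O, k = w * o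
  min1 : MinusType Q1 (zz ι) 1
  min2 : MinusType Q2 (zz ι) 1
  φs : ∀ s ∈ ZZ ι, s ≠ 1 → s ≠ zz ι → ¬ Commute s (φ * s * φ⁻¹)
  EQ1 : ∀ e ∈ EE ι V, e ∈ Q1 → e ∈ ZZ ι
  Q2R : Q2 ≤ RA ι
  A2Q : A2 ι ≤ normalizer (Q2 : Set G)
  RQ : ∀ r ∈ RA ι, ∀ q ∈ Q1, ⁅r, q⁆ ∈ Q1 ⊔ Q2
  ne2 : ∀ a ∈ A2 ι, (∀ u ∈ Q2, ⁅a, u⁆ ∈ ZZ ι) → a = 1
  cQ1 : ∀ g, (∀ q ∈ Q1, Commute g q) ↔ ∃ o ∈ O, ∃ u ∈ Q2, ∃ a ∈ A2 ι, g = o * u * a

/-- An extraspecial group `Q = 2^{1+8}_+` with `C(Q) = ⟨z⟩ × O` whose normaliser induces at least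
`Ω₈⁺(2)`. -/
structure QX0 (Q O : Subgroup G) (z : G) (π : G → V8) (ρ : G → OrthE.O q8) : Prop where
  co : Coord Q z q8 π
  act : ∀ g ∈ normalizer (Q : Set G), ∀ u ∈ Q, (ρ g).1 (π u) = π (g * u * g⁻¹)
  surj : ∀ e ∈ OrthE.E q8, ∃ g ∈ normalizer (Q : Set G), ρ g = e
  oddO : Odd (Nat.card O)
  cQ : ∀ g, (∀ u ∈ Q, Commute g u) ↔ ∃ o ∈ O, g = o ∨ g = z * o

/-- The normaliser induces `Ω₈⁺(2)`. -/
structure QX (Q O : Subgroup G) (z : G) (π : G → V8) (ρ : G → OrthE.O q8) : Prop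
    extends QX0 Q O z π ρ where
  memE : ∀ g ∈ normalizer (Q : Set G), ρ g ∈ OrthE.E q8

/-- Stage 3: the extraspecial group `Q`. -/
structure S3 (ι : Γ F →* G) (V O : Subgroup G) (n τ : G) (S Q : Subgroup G) (π : G → V8)
    (ρ : G → OrthE.O q8) : Prop extends S1 ι V O n τ S where
  qx : QX0 Q O (zz ι) π ρ
  cK : ∀ v ∈ V, v ≠ 1 → ∀ k ∈ KK ι, Commute k v → ∃ w ∈ V, ∃ o ∈ O, k = w * o
  ZQ : ZZ ι ≤ Q
  RN : RR ι S ≤ normalizer (Q : Set G)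
  LN : LL ι ≤ normalizer (Q : Set G)
  QR : ∀ u ∈ Q, u ∈ RR ι S ↔ u ∈ centralizer (ZZ ι : Set G)
  ρR : ∀ r ∈ RR ι S, ∃ w, polar q8 (π (τ * zz ι * τ⁻¹)) w = 0 ∧ ρ r = eich q8 (π (τ * zz ι * τ⁻¹)) w
  Rρ : ∀ w, polar q8 (π (τ * zz ι * τ⁻¹)) w = 0 → ∃ r ∈ RR ι S, ρ r = eich q8 (π (τ * zz ι * τ⁻¹)) w
  cnt : ∃ v ∈ V, v ≠ 1 ∧ Nat.card {u : G // u ∈ Q ∧ v * u * (v * u) = 1} ≤ 48

/-- Stage 4: the normaliser of `R`. -/
structure S4 (ι : Γ F →* G) (V O : Subgroup G) (n τ : G) (S Q : Subgroup G) (π : G → V8)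
    (ρ : G → OrthE.O q8) : Prop extends S3 ι V O n τ S Q π ρ where
  memE : ∀ g ∈ normalizer (Q : Set G), ρ g ∈ OrthE.E q8
  NRQ : ∀ g ∈ normalizer (RR ι S : Set G), Commute g (zz ι) → g ∈ normalizer (Q : Set G)
  NQR : ∀ g ∈ normalizer (Q : Set G), g ∈ normalizer (ZZ ι : Set G) →
    g ∈ normalizer (RR ι S : Set G)
  DN : ∀ c ∈ centralizer (ZZ ι : Set G), ∀ r ∈ RR ι S, r ∈ DD ι → c * r * c⁻¹ ∈ RR ι S →
    c ∈ normalizer (RR ι S : Set G)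
  Dc2 : ∀ r ∈ RR ι S, ∀ w, polar q8 (π (τ * zz ι * τ⁻¹)) w = 0 →
    ρ r = eich q8 (π (τ * zz ι * τ⁻¹)) w → (r ∈ DD ι ↔ r * r = 1 ∧ q8 w = 1)

theorem S4.qx' {ι : Γ F →* G} {V O : Subgroup G} {n τ : G} {S Q : Subgroup G} {π : G → V8}
    {ρ : G → OrthE.O q8} (h : S4 ι V O n τ S Q π ρ) : QX Q O (zz ι) π ρ := ⟨h.qx, h.memE⟩

/-- the natural module of `Ω₆⁺(2)` -/
abbrev V6 : Type := Fin 3 ⊕ Fin 3 → ZMod 2

/-- its quadratic form -/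
abbrev q6 : QuadraticForm (ZMod 2) V6 := qPlus (ZMod 2) 3

/-- The tensor model of `R = 2^{2+12}`: `R / Z = U ⊕ U`, and `N(R) ∩ C(Z)` acts diagonally. -/
structure RM (D : Set G) (Z R : Subgroup G) (z1 z2 : G) (p : G → V6 × V6) (ν : G → OrthE.O q6) :
    Prop where
  Dconj : ∀ d ∈ D, ∀ g, g * d * g⁻¹ ∈ D
  memZ : ∀ ζ, ζ ∈ Z ↔ ζ = 1 ∨ ζ = z1 ∨ ζ = z2 ∨ ζ = z1 * z2
  o1 : orderOf z1 = 2
  o2 : orderOf z2 = 2
  ne : z1 ≠ z2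
  ZR : Z ≤ R
  cen : R ≤ centralizer (Z : Set G)
  mul : ∀ r ∈ R, ∀ s ∈ R, p (r * s) = p r + p s
  surj : ∀ v, ∃ r ∈ R, p r = v
  ker : ∀ r ∈ R, p r = 0 ↔ r ∈ Z
  sq : ∀ r ∈ R, r * r = z1 ^ (q6 (p r).1 + polar q6 (p r).1 (p r).2).val *
    z2 ^ (q6 (p r).2 + polar q6 (p r).1 (p r).2).val
  act : ∀ g ∈ normalizer (R : Set G), g ∈ centralizer (Z : Set G) → ∀ r ∈ R,
    p (g * r * g⁻¹) = ((ν g).1 (p r).1, (ν g).1 (p r).2)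
  memE : ∀ g ∈ normalizer (R : Set G), g ∈ centralizer (Z : Set G) → ν g ∈ OrthE.E q6
  ker2 : ∀ g ∈ normalizer (R : Set G), g ∈ centralizer (Z : Set G) → ν g = 1 → g ^ 4 = 1 → g ∈ R
  memD : ∀ r ∈ R, r ∈ D ↔ q6 (p r).1 = 1 ∧ q6 (p r).2 = 1 ∧ polar q6 (p r).1 (p r).2 = 1
  DN : ∀ c ∈ centralizer (Z : Set G), ∀ r ∈ R, r ∈ D → c * r * c⁻¹ ∈ R → c ∈ normalizer (R : Set G)

end CfsgLib.G2C
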