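import Cfsg.Agent.Lib.G2C.Rel
import Cfsg.Agent.Lib.SL2.Basic
import Cfsg.Agent.Lib.Coprime.SchurZassenhaus
import Cfsg.Agent.S1055
import Cfsg.Agent.S1059
import Cfsg.Agent.S2177
import Cfsg.Agent.S2180
import Cfsg.Agent.S1030
import Cfsg.Agent.S0252

/-! Package FA: the centraliser of a long root element (plans/G2C2.md) -/

set_option autoImplicit false
set_option linter.unusedSectionVars false

namespace CfsgLib.G2C

open Subgroup Cfsg CfsgLib.Tech CfsgLib.StdR2 CfsgLib.Chev CfsgLib.OrthE CfsgLib.ExtraTwo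
  CfsgLib.Co1Rec QuadraticMap
open scoped commutatorElement

variable {F : Type*} [Field F] [Fintype F] {G : Type*} [Group G] [Finite G] {ι : Γ F →* G}

/-- transport of a matrix group along `ι` -/
def trG (ι : Γ F →* G) (M : Subgroup (GL Lie.chevG2.Idx F)) : Subgroup G :=
  (M.subgroupOf (Lie.chevG2.group F)).map ι

theorem root_le (r : ℕ) : Lie.chevG2.rootSubgroup F r ≤ Lie.chevG2.group F := fun _ hg => by
  obtain ⟨t, rfl⟩ := mem_rootSubgroup_iff.1 hg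
  exact xU_mem_group r t

theorem trG_root (r : ℕ) : trG ι (Lie.chevG2.rootSubgroup F r) = XX ι r := by
  ext g
  constructor
  · rintro ⟨y, hy, rfl⟩
    obtain ⟨t, ht⟩ := mem_rootSubgroup_iff.1 (mem_subgroupOf.1 hy)
    exact ⟨t, congrArg ι (Subtype.ext ht)⟩
  · rintro ⟨t, rfl⟩
    exact ⟨xg r t, mem_subgroupOf.2 (mem_rootSubgroup_iff.2 ⟨t, rfl⟩), rfl⟩

theorem trG_sup {M M' : Subgroup (GL Lie.chevG2.Idx F)} (h1 : M ≤ Lie.chevG2.group F)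
    (h2 : M' ≤ Lie.chevG2.group F) : trG ι (M ⊔ M') = trG ι M ⊔ trG ι M' := by
  rw [trG, subgroupOf_sup h1 h2, Subgroup.map_sup]; rfl

theorem pos_le : Lie.chevG2.posUnipotent F ≤ Lie.chevG2.group F := by
  rw [posUnipotent_eq, closure_le]
  rintro _ ⟨r, t, -, rfl⟩
  exact xU_mem_group r t

theorem X6_le : XX ι 6 ≤ RA ι := le_sup_of_le_left (le_sup_of_le_left (le_sup_of_le_left le_sup_left))
theorem X8_le : XX ι 8 ≤ RA ι := le_sup_of_le_left (le_sup_of_le_left (le_sup_of_le_left le_sup_right))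
theorem X9_le : XX ι 9 ≤ RA ι := le_sup_of_le_left (le_sup_of_le_left le_sup_right)
theorem X10_le : XX ι 10 ≤ RA ι := le_sup_of_le_left le_sup_right
theorem X7_le : XX ι 7 ≤ A2 ι := le_sup_left
theorem X4_le : XX ι 4 ≤ A2 ι := le_sup_right

theorem RA_le {M : Subgroup G} (h6 : XX ι 6 ≤ M) (h8 : XX ι 8 ≤ M) (h9 : XX ι 9 ≤ M)
    (h10 : XX ι 10 ≤ M) (h11 : XX ι 11 ≤ M) : RA ι ≤ M :=
  sup_le (sup_le (sup_le (sup_le h6 h8) h9) h10) h11

theorem trG_pos : trG ι (Lie.chevG2.posUnipotent F) ≤ LL ι := by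
  have key : ∀ r, Lie.chevG2.IsPosRoot r → r = 6 ∨ r = 7 ∨ r = 8 ∨ r = 9 ∨ r = 10 ∨ r = 11 := by
    intro r hr
    have h12 : r < 12 := hr.1
    have := hr.2
    interval_cases r <;> first | omega | exact absurd this (by decide)
  rintro _ ⟨⟨y, hy⟩, hy', rfl⟩
  have h1 : y ∈ Lie.chevG2.posUnipotent F := mem_subgroupOf.1 hy'
  rw [posUnipotent_eq] at h1
  have : ∀ y ∈ closure {g | ∃ r t, Lie.chevG2.IsPosRoot r ∧ g = xU Lie.chevG2 F r t},
      ∃ hy : y ∈ Lie.chevG2.group F, ι ⟨y, hy⟩ ∈ LL ι := by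
    intro y h1
    induction h1 using closure_induction with
    | mem g hg =>
      obtain ⟨r, t, hr, rfl⟩ := hg
      refine ⟨xU_mem_group r t, ?_⟩
      have := x_mem ι r t
      rcases key r hr with rfl | rfl | rfl | rfl | rfl | rfl
      exacts [RA_le_LL (X6_le this), A2_le_LL (X7_le this), RA_le_LL (X8_le this),
        RA_le_LL (X9_le this), RA_le_LL (X10_le this), ZZ_le_LL this]
    | one => exact ⟨one_mem _, by rw [show (⟨1, _⟩ : Γ F) = 1 from rfl, map_one]; exact one_mem _⟩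
    | mul a b _ _ ha hb =>
      obtain ⟨h1, h2⟩ := ha
      obtain ⟨h3, h4⟩ := hb
      exact ⟨mul_mem h1 h3, by have := mul_mem h2 h4; rwa [← map_mul] at this⟩
    | inv a _ ha =>
      obtain ⟨h1, h2⟩ := ha
      exact ⟨inv_mem h1, by have := inv_mem h2; rwa [← map_inv] at this⟩
  exact (this y h1).2

theorem cj_hg {r : ℕ} (hr : r < 12) {c : F} (hc : c ≠ 0) (s : ℕ) :
    cj (ι (hg r c)) (XX ι s) = XX ι s :=
  mem_normalizer_iff_cj.1 (mem_normalizer_of_forall (by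
    rintro _ ⟨t, rfl⟩
    rw [hg_conj ι hr hc]; exact x_mem _ _ _))

theorem cj_hg_RA {r : ℕ} (hr : r < 12) {c : F} (hc : c ≠ 0) : cj (ι (hg r c)) (RA ι) = RA ι := by
  simp only [RA, cj_sup, cj_hg hr hc]

theorem cj_hg_LL {r : ℕ} (hr : r < 12) {c : F} (hc : c ≠ 0) : cj (ι (hg r c)) (LL ι) = LL ι := by
  simp only [LL, RA, A2, cj_sup, cj_hg hr hc]

theorem rr_x6 (t : F) : rr ι t 0 0 0 0 = x ι 6 t := by simp [rr, x_zero]
theorem rr_x8 (t : F) : rr ι 0 t 0 0 0 = x ι 8 t := by simp [rr, x_zero]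
theorem rr_x9 (t : F) : rr ι 0 0 t 0 0 = x ι 9 t := by simp [rr, x_zero]
theorem rr_x10 (t : F) : rr ι 0 0 0 t 0 = x ι 10 t := by simp [rr, x_zero]
theorem rr_x11 (t : F) : rr ι 0 0 0 0 t = x ι 11 t := by simp [rr, x_zero]

omit [Finite G] in
/-- a normal subgroup of a simple subgroup -/
theorem simple_inf {A B : Subgroup G} (hA : IsSimpleGroup A) (hn : A ≤ normalizer (B : Set G)) :
    B ⊓ A = ⊥ ∨ A ≤ B := by
  have : (B.subgroupOf A).Normal := ⟨fun y hy g => mem_subgroupOf.2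
    (conj_mem_of_mem_normalizer (hn g.2) (mem_subgroupOf.1 hy))⟩
  rcases this.eq_bot_or_eq_top with e | e
  · exact Or.inl (disjoint_iff.1 (subgroupOf_eq_bot.1 e))
  · exact Or.inr (subgroupOf_eq_top.1 e)

omit [Finite G] in
theorem eq_one_of_simple {A : Subgroup G} (hA : IsSimpleGroup A) (hn : ¬ IsMulCommutative A) {a : G}
    (ha : a ∈ A) (hc : ∀ b ∈ A, Commute a b) : a = 1 := by
  rcases (inferInstance : (center A).Normal).eq_bot_or_eq_top with e | e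
  · have : (⟨a, ha⟩ : A) ∈ center A := mem_center_iff.2 fun b => Subtype.ext (hc b b.2).eq.symm
    rw [e] at this
    exact congrArg Subtype.val (mem_bot.1 this)
  · exact absurd (center_eq_top_iff.1 e) hn

omit [Finite G] in
theorem perf_of_simple {A : Subgroup G} (hA : IsSimpleGroup A) (hn : ¬ IsMulCommutative A) :
    ⁅A, A⁆ = A := by
  rcases simple_inf (B := ⁅A, A⁆) hA (by
    intro a ha
    rw [mem_normalizer_iff_cj, cj_commutator, cj_eq_of_mem ha]) with e | e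
  · rw [inf_eq_left.2 (commutator_le_self A), commutator_eq_bot_iff_le_centralizer] at e
    exact absurd ⟨⟨fun a b => Subtype.ext (e b.2 a a.2)⟩⟩ hn
  · exact le_antisymm (commutator_le_self A) e

omit [Finite G] in
theorem not_comm_of_iso {A : Subgroup G} (e : A ≃* alternatingGroup (Fin 5)) :
    ¬ IsMulCommutative A := fun hc => by
  have : ∀ a b : alternatingGroup (Fin 5), a * b = b * a := fun a b =>
    e.symm.injective (by rw [map_mul, map_mul, hc.is_comm.comm])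
  have := congrArg Subtype.val (this ⟨c[0, 1, 2], Equiv.Perm.mem_alternatingGroup.2 (by decide)⟩
    ⟨c[2, 3, 4], Equiv.Perm.mem_alternatingGroup.2 (by decide)⟩)
  exact absurd this (by decide)

omit [Finite G] in
theorem card_of_iso {A : Subgroup G} (e : A ≃* alternatingGroup (Fin 5)) : Nat.card A = 60 := by
  rw [Nat.card_congr e.toEquiv, nat_card_alternatingGroup, Nat.card_fin]; rfl

namespace Emb

variable (h : Emb ι)
include h

theorem exists_ne : ∃ a : F, a ≠ 0 ∧ a ≠ 1 := by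
  obtain ⟨ω, h1, -⟩ := h.exists_ω
  refine ⟨ω, fun e => ?_, fun e => ?_⟩
  · rw [e] at h1; simp at h1
  · rw [e, one_pow, h.add_self, zero_add] at h1; exact one_ne_zero h1

theorem simpleA : IsSimpleGroup (AA ι) :=
  have := (Cfsg.Agent.S1055.result h.exists_ne).1
  (MonoidHom.ofInjective h.inj).symm.isSimpleGroup

theorem not_commA : ¬ IsMulCommutative (AA ι) := fun hc =>
  (Cfsg.Agent.S1055.result h.exists_ne).2 ⟨⟨fun a b => h.inj (by
    rw [map_mul, map_mul]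
    exact congrArg Subtype.val (hc.is_comm.comm (⟨ι a, a, rfl⟩ : AA ι) ⟨ι b, b, rfl⟩))⟩⟩

theorem cardA : Nat.card (AA ι) = 251596800 := by
  rw [← Nat.card_congr (MonoidHom.ofInjective h.inj).toEquiv, Cfsg.Agent.S1059.result h.hF]
  norm_num

theorem eq_one_KA {a : G} (h1 : a ∈ KK ι) (h2 : a ∈ AA ι) : a = 1 :=
  eq_one_of_simple h.simpleA h.not_commA h2 (mem_KK.1 h1)

theorem classes {a : G} (ha : a ∈ AA ι) (o : orderOf a = 2) : Long ι a ∨ Short ι a := by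
  have := h.charP
  obtain ⟨y, rfl⟩ := ha
  rw [orderOf_injective ι h.inj, ← Subgroup.orderOf_coe] at o
  obtain ⟨w, hw, hm, k, hk, e⟩ := (Cfsg.Agent.S2177.result h.hF.ge).2.1 y.1 y.2 o
  have key : ∀ r, w = xU Lie.chevG2 F r 1 → ∃ b ∈ AA ι, ι y = b * x ι r 1 * b⁻¹ := by
    rintro r rfl
    refine ⟨ι (⟨k, hk⟩ : Γ F)⁻¹, ⟨_, rfl⟩, ?_⟩
    rw [x, ← map_inv, ← map_mul, ← map_mul]
    refine congrArg ι (Subtype.ext ?_)
    show y.1 = k⁻¹ * xU Lie.chevG2 F r 1 * k⁻¹⁻¹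
    rw [← e]; group
  simp only [List.mem_cons, List.not_mem_nil, or_false, eq_xU_iff] at hm
  exact hm.imp (key 11) (key 9)

theorem not_long_short {a : G} (h1 : Long ι a) (h2 : Short ι a) : False := by
  have := h.charP
  obtain ⟨_, ⟨b, rfl⟩, rfl⟩ := h1
  obtain ⟨_, ⟨c, rfl⟩, e⟩ := h2
  have e1 : (c⁻¹ * b) * xg 11 1 * (c⁻¹ * b)⁻¹ = xg 9 1 := h.inj (by
    simp only [map_mul, map_inv]
    show _ * zz ι * _ = x ι 9 1
    rw [show (ι c)⁻¹ * ι b * zz ι * ((ι c)⁻¹ * ι b)⁻¹ = (ι c)⁻¹ * (ι b * zz ι * (ι b)⁻¹) * ι c by group,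
      e]; group)
  have e2 := (Cfsg.Agent.S2177.result h.hF.ge).2.2 _ (xU_mem_group 11 1) _ (xU_mem_group 9 1)
    (by simp) (by simp) ⟨_, (c⁻¹ * b).2, congrArg Subtype.val e1⟩
  have e3 : rr ι 0 0 0 0 1 = rr ι 0 0 1 0 0 := by
    rw [rr_x11, rr_x9]; exact congrArg ι (Subtype.ext (Units.ext e2))
  exact zero_ne_one (h.rr_inj e3).2.2.1

theorem hg_zz {t : F} (ht : t ≠ 0) : ι (hg 6 t) * zz ι * (ι (hg 6 t))⁻¹ = x ι 11 t := by
  rw [zz, hg_conj ι (by norm_num) ht, show Lie.chevG2.pairing 6 11 = 1 by decide]; simp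

theorem long_Z {ζ : G} (h1 : ζ ∈ ZZ ι) (h2 : ζ ≠ 1) : Long ι ζ := by
  obtain ⟨t, rfl⟩ := h1
  exact ⟨_, ⟨_, rfl⟩, (h.hg_zz fun e => h2 (by rw [e, x_zero])).symm⟩

theorem LZ {l ζ : G} (hl : l ∈ LL ι) (hζ : ζ ∈ ZZ ι) : Commute l ζ := by
  obtain ⟨u, rfl⟩ := hζ
  have key : ∀ r, (r < 12 ∧ 11 < 12 ∧ r + 11 ≠ 11 ∧ ∀ c ∈ Lie.chevG2.commTerms r 11, c.2.1 % 2 = 0) →
      XX ι r ≤ centralizer {x ι 11 u} := by
    rintro r hr _ ⟨t, rfl⟩
    exact mem_centralizer_singleton_iff.2 (h.x_commute t u hr).eq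
  have : LL ι ≤ centralizer {x ι 11 u} :=
    sup_le (RA_le (key 6 (by decide)) (key 8 (by decide)) (key 9 (by decide)) (key 10 (by decide))
      (key 11 (by decide))) (sup_le (key 7 (by decide)) (key 4 (by decide)))
  exact mem_centralizer_singleton_iff.1 (this hl)

theorem cent_zz {a : G} (ha : a ∈ AA ι) (hc : Commute a (zz ι)) : a ∈ LL ι := by
  have := h.charP
  obtain ⟨y, rfl⟩ := ha
  have e := (Cfsg.Agent.S2180.result h.hF.ge (xU Lie.chevG2 F 11 1) (xU Lie.chevG2 F 9 1)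
    rfl rfl).1
  have h1 : y * xg 11 1 = xg 11 1 * y := h.inj (by rw [map_mul, map_mul]; exact hc.eq)
  have h2 : y.1 ∈ Lie.chevG2.posUnipotent F ⊔ Lie.chevG2.rootSubgroup F 4 :=
    e ▸ ⟨y.2, mem_centralizer_singleton_iff.2 (congrArg Subtype.val h1)⟩
  have h3 : ι y ∈ trG ι (Lie.chevG2.posUnipotent F ⊔ Lie.chevG2.rootSubgroup F 4) :=
    ⟨y, h2, rfl⟩
  rw [trG_sup pos_le (root_le 4), trG_root] at h3
  exact sup_le trG_pos (X4_le.trans A2_le_LL) h3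

theorem cent_Z {a ζ : G} (ha : a ∈ AA ι) (h1 : ζ ∈ ZZ ι) (h2 : ζ ≠ 1) (hc : Commute a ζ) :
    a ∈ LL ι := by
  obtain ⟨t, rfl⟩ := h1
  have ht : t ≠ 0 := fun e => h2 (by rw [e, x_zero])
  have hb : ι (hg 6 t) ∈ AA ι := ⟨_, rfl⟩
  rw [← cj_hg_LL (r := 6) (by norm_num) ht, mem_cj]
  refine h.cent_zz (mul_mem (mul_mem (inv_mem hb) ha) hb) ?_
  rw [← h.hg_zz ht] at hc
  have := hc.eq
  show _ = _
  calc (ι (hg 6 t))⁻¹ * a * ι (hg 6 t) * zz ι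
      = (ι (hg 6 t))⁻¹ * (a * (ι (hg 6 t) * zz ι * (ι (hg 6 t))⁻¹)) * ι (hg 6 t) := by group
    _ = zz ι * ((ι (hg 6 t))⁻¹ * a * ι (hg 6 t)) := by rw [this]; group

/-- the centraliser of the short root element -/
theorem cent_x9 {a : G} : a ∈ AA ι ∧ Commute a (x ι 9 1) ↔
    a ∈ XX ι 9 ⊔ XX ι 10 ⊔ XX ι 11 ⊔ XX ι 6 ⊔ XX ι 5 := by
  have := h.charP
  have e := (Cfsg.Agent.S2180.result h.hF.ge (xU Lie.chevG2 F 11 1) (xU Lie.chevG2 F 9 1)
    rfl rfl).2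
  have e2 := congrArg (trG ι) e
  rw [trG_sup (sup_le (sup_le (sup_le (root_le _) (root_le _)) (root_le _)) (root_le _)) (root_le _),
    trG_sup (sup_le (sup_le (root_le _) (root_le _)) (root_le _)) (root_le _),
    trG_sup (sup_le (root_le _) (root_le _)) (root_le _), trG_sup (root_le _) (root_le _)] at e2
  simp only [trG_root] at e2
  rw [← e2]
  constructor
  · rintro ⟨⟨y, rfl⟩, hc⟩
    have h1 : y * xg 9 1 = xg 9 1 * y := h.inj (by rw [map_mul, map_mul]; exact hc.eq)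
    exact ⟨y, ⟨y.2, mem_centralizer_singleton_iff.2 (congrArg Subtype.val h1)⟩, rfl⟩
  · rintro ⟨y, hy, rfl⟩
    have h1 : y * xg 9 1 = xg 9 1 * y := Subtype.ext (mem_centralizer_singleton_iff.1 hy.2)
    exact ⟨⟨y, rfl⟩, by have := congrArg ι h1; rwa [map_mul, map_mul] at this⟩

theorem iso_SL2 {r : ℕ} (hr : r < 12) :
    Nonempty ((XX ι r ⊔ XX ι (11 - r) : Subgroup G) ≃* alternatingGroup (Fin 5)) := by
  have := h.charP
  obtain ⟨e⟩ := Cfsg.Agent.S0252.result h.hF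
  have e1 : Matrix.SpecialLinearGroup (Fin 2) F ≃* alternatingGroup (Fin 5) :=
    (QuotientGroup.quotientBot.symm.trans (QuotientGroup.quotientMulEquivOfEq
      (CfsgLib.SL2.center_eq_bot_of_two (by rw [← one_add_one_eq_two, h.add_self])).symm)).trans e
  have hs : IsSimpleGroup (Matrix.SpecialLinearGroup (Fin 2) F) := e1.isSimpleGroup
  obtain ⟨φ, h1, h2⟩ := Cfsg.Agent.S1030.result (F := F) Lie.chevG2 (by simp) r hr
  have hn : Lie.chevG2.neg r = 11 - r := by interval_cases r <;> rfl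
  rw [hn] at h1
  have hle : ∀ g, φ g ∈ Lie.chevG2.group F := fun g =>
    sup_le (root_le r) (root_le (11 - r)) (h1 ▸ ⟨g, rfl⟩)
  let ψ := ι.comp (φ.codRestrict _ hle)
  have hψ : ψ.range = XX ι r ⊔ XX ι (11 - r) := by
    rw [← trG_root, ← trG_root, ← trG_sup (root_le _) (root_le _), ← h1]
    ext g
    exact ⟨fun ⟨y, e⟩ => ⟨_, ⟨y, rfl⟩, e⟩, fun ⟨y, ⟨w, e1⟩, e⟩ =>
      ⟨w, e ▸ congrArg ι (Subtype.ext e1)⟩⟩
  have hinj : Function.Injective ψ := by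
    rw [← MonoidHom.ker_eq_bot_iff]
    refine ψ.normal_ker.eq_bot_or_eq_top.resolve_right fun e => ?_
    have h3 : x ι r 1 ∈ ψ.range := hψ ▸ mem_sup_left (x_mem ι r 1)
    obtain ⟨w, hw⟩ := h3
    have h4 : w ∈ ψ.ker := e ▸ mem_top w
    exact one_ne_zero ((h.x_eq_one hr).1 (hw ▸ h4))
  exact ⟨((MulEquiv.subgroupCongr hψ).symm.trans (MonoidHom.ofInjective hinj).symm).trans e1⟩

theorem iso_A2 : Nonempty (A2 ι ≃* alternatingGroup (Fin 5)) := h.iso_SL2 (r := 7) (by decide)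

theorem iso_A1 : Nonempty (A1 ι ≃* alternatingGroup (Fin 5)) := h.iso_SL2 (r := 11) (by decide)

theorem simpleA2 : IsSimpleGroup (A2 ι) := let ⟨e⟩ := h.iso_A2; e.isSimpleGroup

theorem simpleA1 : IsSimpleGroup (A1 ι) := let ⟨e⟩ := h.iso_A1; e.isSimpleGroup

theorem not_commA2 : ¬ IsMulCommutative (A2 ι) := let ⟨e⟩ := h.iso_A2; not_comm_of_iso e

theorem not_commA1 : ¬ IsMulCommutative (A1 ι) := let ⟨e⟩ := h.iso_A1; not_comm_of_iso e

theorem cardA2 : Nat.card (A2 ι) = 60 := let ⟨e⟩ := h.iso_A2; card_of_iso e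

theorem cardA1 : Nat.card (A1 ι) = 60 := let ⟨e⟩ := h.iso_A1; card_of_iso e

theorem perfA2 : ⁅A2 ι, A2 ι⁆ = A2 ι := perf_of_simple h.simpleA2 h.not_commA2

theorem perfA1 : ⁅A1 ι, A1 ι⁆ = A1 ι := perf_of_simple h.simpleA1 h.not_commA1

theorem rr_mem (a b c d e : F) : rr ι a b c d e ∈ RA ι := h.mem_RA.2 ⟨a, b, c, d, e, rfl⟩

theorem A2R : A2 ι ≤ normalizer (RA ι : Set G) := by
  refine sup_le ?_ ?_ <;> rintro _ ⟨s, rfl⟩ <;> refine mem_normalizer_of_forall fun r hr => ?_ <;>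
    obtain ⟨a, b, c, d, e, rfl⟩ := h.mem_RA.1 hr
  · obtain ⟨e', he⟩ := h.x7_rr s a b c d e
    rw [he]; exact h.rr_mem _ _ _ _ _
  · obtain ⟨e', he⟩ := h.x4_rr s a b c d e
    rw [he]; exact h.rr_mem _ _ _ _ _

theorem LR : LL ι ≤ normalizer (RA ι : Set G) := sup_le le_normalizer h.A2R

theorem cardRA : Nat.card (RA ι) = 1024 := by
  have e : F × F × F × F × F ≃ RA ι := Equiv.ofBijective
    (fun v => ⟨rr ι v.1 v.2.1 v.2.2.1 v.2.2.2.1 v.2.2.2.2, h.rr_mem _ _ _ _ _⟩)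
    ⟨fun v w e => by
      obtain ⟨h1, h2, h3, h4, h5⟩ := h.rr_inj (congrArg Subtype.val e)
      exact Prod.ext h1 (Prod.ext h2 (Prod.ext h3 (Prod.ext h4 h5))),
    fun ⟨r, hr⟩ => by
      obtain ⟨a, b, c, d, e, rfl⟩ := h.mem_RA.1 hr
      exact ⟨(a, b, c, d, e), rfl⟩⟩
  rw [← Nat.card_congr e]
  simp [h.hF]

theorem twoR : IsPGroup 2 (RA ι) := IsPGroup.of_card (n := 10) h.cardRA

theorem not_two_A2 : ¬ IsPGroup 2 (A2 ι) := fun hp => by
  obtain ⟨n, hn⟩ := IsPGroup.iff_card.1 hp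
  rw [h.cardA2] at hn
  have : 3 ∣ 2 ^ n := hn ▸ by norm_num
  exact absurd (Nat.Prime.dvd_of_dvd_pow Nat.prime_three this) (by norm_num)

theorem two_inf_A2 {B : Subgroup G} (h1 : A2 ι ≤ normalizer (B : Set G)) (h2 : IsPGroup 2 B) :
    B ⊓ A2 ι = ⊥ :=
  (simple_inf h.simpleA2 h1).resolve_right fun e => h.not_two_A2 (h2.to_le e)

theorem RA_inf_A2 : RA ι ⊓ A2 ι = ⊥ := h.two_inf_A2 h.A2R h.twoR

theorem mem_LL {l : G} : l ∈ LL ι ↔ ∃ r ∈ RA ι, ∃ a ∈ A2 ι, l = r * a := by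
  rw [← SetLike.mem_coe, LL, coe_mul_of_right_le_normalizer_left _ _ h.A2R]
  exact ⟨fun ⟨r, hr, a, ha, e⟩ => ⟨r, hr, a, ha, e.symm⟩, fun ⟨r, hr, a, ha, e⟩ =>
    ⟨r, hr, a, ha, e.symm⟩⟩

theorem cardL : Nat.card (LL ι) = 61440 := by
  rw [LL, CfsgLib.Coprime.card_sup_of_le_normalizer h.A2R h.RA_inf_A2, h.cardRA, h.cardA2]

theorem sqR {r : G} (hr : r ∈ RA ι) : r * r ∈ ZZ ι := by
  obtain ⟨a, b, c, d, e, rfl⟩ := h.mem_RA.1 hr
  rw [h.rr_mul, h.rr_mem_ZZ]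
  simp [h.add_self]

theorem commR {r s : G} (hr : r ∈ RA ι) (hs : s ∈ RA ι) : ⁅r, s⁆ ∈ ZZ ι := by
  obtain ⟨a, b, c, d, e, rfl⟩ := h.mem_RA.1 hr
  obtain ⟨a', b', c', d', e', rfl⟩ := h.mem_RA.1 hs
  rw [h.rr_comm]; exact x_mem _ _ _

/-- every element of `Z` is a commutator in `R_A` -/
theorem exists_commR {ζ : G} (hζ : ζ ∈ ZZ ι) : ∃ r ∈ RA ι, ∃ s ∈ RA ι, ζ = ⁅r, s⁆ := by
  obtain ⟨t, rfl⟩ := hζ
  exact ⟨_, h.rr_mem 1 0 0 0 0, _, h.rr_mem 0 0 0 t 0, by rw [h.rr_comm]; simp⟩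

theorem centR {r : G} (hr : r ∈ RA ι) (hc : ∀ s ∈ RA ι, Commute r s) : r ∈ ZZ ι := by
  obtain ⟨a, b, c, d, e, rfl⟩ := h.mem_RA.1 hr
  have key : ∀ a' b' c' d', a * d' + d * a' + b * c' + c * b' = 0 := fun a' b' c' d' => by
    rw [← h.x_eq_one (r := 11) (by norm_num), ← h.rr_comm a b c d e a' b' c' d' 0]
    exact commutatorElement_eq_one_iff_commute.2 (hc _ (h.rr_mem _ _ _ _ _))
  exact h.rr_mem_ZZ.2 ⟨by simpa using key 0 0 0 1, by simpa using key 0 0 1 0,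
    by simpa using key 0 1 0 0, by simpa using key 1 0 0 0⟩

theorem conjZ {l ζ : G} (hl : l ∈ LL ι) (hζ : ζ ∈ ZZ ι) : l * ζ * l⁻¹ = ζ := by
  rw [(h.LZ hl hζ).eq, mul_inv_cancel_right]

theorem LnZ : LL ι ≤ normalizer (ZZ ι : Set G) := fun _ hl =>
  mem_normalizer_of_forall fun _ hζ => by rw [h.conjZ hl hζ]; exact hζ

end Emb

/-- the kernel of the action of `N(R_A) ∩ N(Z)` on `R_A / Z` -/
def KB (ι : Γ F →* G) : Subgroup G where
  carrier := {g | g ∈ normalizer (ZZ ι : Set G) ∧ ∀ r ∈ RA ι, ⁅g, r⁆ ∈ ZZ ι}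
  one_mem' := ⟨one_mem _, fun r _ => by simp⟩
  mul_mem' := fun {a b} ha hb => ⟨mul_mem ha.1 hb.1, fun r hr => by
    rw [show ⁅a * b, r⁆ = a * ⁅b, r⁆ * a⁻¹ * ⁅a, r⁆ by simp only [commutatorElement_def]; group]
    exact mul_mem (conj_mem_of_mem_normalizer ha.1 (hb.2 r hr)) (ha.2 r hr)⟩
  inv_mem' := fun {a} ha => ⟨inv_mem ha.1, fun r hr => by
    rw [show ⁅a⁻¹, r⁆ = a⁻¹ * ⁅a, r⁆⁻¹ * a by simp only [commutatorElement_def]; group]
    exact conj_mem_of_mem_normalizer' ha.1 (inv_mem (ha.2 r hr))⟩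

theorem mem_KB {g : G} : g ∈ KB ι ↔ g ∈ normalizer (ZZ ι : Set G) ∧ ∀ r ∈ RA ι, ⁅g, r⁆ ∈ ZZ ι :=
  Iff.rfl

theorem norm_KB {l : G} (h1 : l ∈ normalizer (ZZ ι : Set G)) (h2 : l ∈ normalizer (RA ι : Set G)) :
    l ∈ normalizer (KB ι : Set G) := mem_normalizer_of_forall fun g hg =>
  ⟨mul_mem (mul_mem h1 hg.1) (inv_mem h1), fun r hr => by
    rw [show ⁅l * g * l⁻¹, r⁆ = l * ⁅g, l⁻¹ * r * l⁆ * l⁻¹ by
      simp only [commutatorElement_def]; group]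
    exact conj_mem_of_mem_normalizer h1 (hg.2 _ (conj_mem_of_mem_normalizer' h2 hr))⟩

namespace Emb

variable (h : Emb ι)
include h

theorem RA_le_KB : RA ι ≤ KB ι := fun _ hr => ⟨h.LnZ (RA_le_LL hr), fun _ hs => h.commR hr hs⟩

theorem comm7_rr (s a b c d e : F) : ∃ e', ⁅x ι 7 s, rr ι a b c d e⁆ =
    rr ι 0 (s * a) (s ^ 2 * a) (s ^ 3 * a + s ^ 2 * b + s * c) e' := by
  obtain ⟨e', he⟩ := h.x7_rr s a b c d e
  refine ⟨e' - e - (s ^ 2 * a * b + (s ^ 3 * a + s ^ 2 * b + s * c) * a), ?_⟩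
  rw [commutatorElement_def, he, mul_inv_eq_iff_eq_mul, h.rr_mul]
  congr 1 <;> ring

theorem comm4_rr (s a b c d e : F) : ∃ e', ⁅x ι 4 s, rr ι a b c d e⁆ =
    rr ι (s * b + s ^ 2 * c + s ^ 3 * d) (s ^ 2 * d) (s * d) 0 e' := by
  obtain ⟨e', he⟩ := h.x4_rr s a b c d e
  refine ⟨e' - e - s * d * b, ?_⟩
  rw [commutatorElement_def, he, mul_inv_eq_iff_eq_mul, h.rr_mul]
  congr 1 <;> ring

theorem KB_inf_A2 : KB ι ⊓ A2 ι = ⊥ := by
  refine (simple_inf h.simpleA2 fun a ha => norm_KB (h.LnZ (A2_le_LL ha)) (h.A2R ha)).resolve_right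
    fun e => ?_
  have := (e (X7_le (x_mem ι 7 1))).2 _ (h.rr_mem 1 0 0 0 0)
  obtain ⟨e', he⟩ := h.comm7_rr 1 1 0 0 0 0
  rw [he, h.rr_mem_ZZ] at this
  simpa using this.2.1

/-- `C_L(R_A / Z) = R_A` -/
theorem cent_bar {l : G} (hl : l ∈ LL ι) (hc : ∀ r ∈ RA ι, ⁅l, r⁆ ∈ ZZ ι) : l ∈ RA ι := by
  have h1 : l ∈ KB ι := ⟨h.LnZ hl, hc⟩
  obtain ⟨r, hr, a, ha, rfl⟩ := h.mem_LL.1 hl
  have h2 : a ∈ KB ι ⊓ A2 ι := ⟨((KB ι).mul_mem_cancel_left (h.RA_le_KB hr)).1 h1, ha⟩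
  rw [h.KB_inf_A2, mem_bot] at h2
  rwa [h2, mul_one]

/-- `Z(L / R_A) = 1` -/
theorem cent_top {l : G} (hl : l ∈ LL ι) (hc : ∀ a ∈ A2 ι, ⁅l, a⁆ ∈ RA ι) : l ∈ RA ι := by
  obtain ⟨r, hr, a, ha, rfl⟩ := h.mem_LL.1 hl
  have : a = 1 := eq_one_of_simple h.simpleA2 h.not_commA2 ha fun b hb => by
    have hab : ⁅a, b⁆ ∈ A2 ι := mul_mem (mul_mem (mul_mem ha hb) (inv_mem ha)) (inv_mem hb)
    have h1 := hc b hb
    rw [show ⁅r * a, b⁆ = r * ⁅a, b⁆ * (b * r⁻¹ * b⁻¹) by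
      simp only [commutatorElement_def]; group,
      (RA ι).mul_mem_cancel_right (conj_mem_of_mem_normalizer (h.A2R hb) (inv_mem hr)),
      (RA ι).mul_mem_cancel_left hr] at h1
    have h2 : ⁅a, b⁆ ∈ RA ι ⊓ A2 ι := ⟨h1, hab⟩
    rw [h.RA_inf_A2, mem_bot] at h2
    exact commutatorElement_eq_one_iff_commute.1 h2
  rwa [this, mul_one]

/-- membership of `rr` in an overgroup of `Z` does not depend on the last coordinate -/
theorem rr_mem_of {M : Subgroup G} (hZ : ZZ ι ≤ M) {a b c d e : F} (hm : rr ι a b c d e ∈ M)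
    (e' : F) : rr ι a b c d e' ∈ M := by
  have := mul_mem hm (hZ (h.rr_mem_ZZ (e := e' - e).2 ⟨rfl, rfl, rfl, rfl⟩))
  rw [h.rr_mul] at this
  simpa using this

theorem rr_add_mem {M : Subgroup G} (hZ : ZZ ι ≤ M) {a b c d e a' b' c' d' e' : F}
    (h1 : rr ι a b c d e ∈ M) (h2 : rr ι a' b' c' d' e' ∈ M) (e'' : F) :
    rr ι (a + a') (b + b') (c + c') (d + d') e'' ∈ M :=
  h.rr_mem_of hZ (h.rr_mul .. ▸ mul_mem h1 h2) e''

/-- `[R_A, A2] Z = R_A` -/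
theorem RA_le_of_comm {M : Subgroup G} (hZ : ZZ ι ≤ M)
    (hc : ∀ a ∈ A2 ι, ∀ r ∈ RA ι, ⁅a, r⁆ ∈ M) : RA ι ≤ M := by
  have k7 : ∀ s a b c : F, rr ι 0 (s * a) (s ^ 2 * a) (s ^ 3 * a + s ^ 2 * b + s * c) 0 ∈ M := by
    intro s a b c
    obtain ⟨e', he⟩ := h.comm7_rr s a b c 0 0
    exact h.rr_mem_of hZ (he ▸ hc _ (X7_le (x_mem ι 7 s)) _ (h.rr_mem _ _ _ _ _)) 0
  have k4 : ∀ b : F, rr ι b 0 0 0 0 ∈ M := by
    intro b
    obtain ⟨e', he⟩ := h.comm4_rr 1 0 b 0 0 0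
    have := h.rr_mem_of hZ (he ▸ hc _ (X4_le (x_mem ι 4 1)) _ (h.rr_mem _ _ _ _ _)) 0
    simpa using this
  have k89 : ∀ s a : F, s ≠ 0 → rr ι 0 (s * a) (s ^ 2 * a) 0 0 ∈ M := by
    intro s a hs
    have := k7 s a 0 (-(s ^ 2 * a))
    rwa [show s ^ 3 * a + s ^ 2 * 0 + s * -(s ^ 2 * a) = 0 by ring] at this
  obtain ⟨w, hw0, hw1⟩ := h.exists_ne
  have hw2 : w - 1 ≠ 0 := sub_ne_zero.2 hw1
  have k9 : ∀ c : F, rr ι 0 0 c 0 0 ∈ M := by
    intro c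
    have := h.rr_add_mem hZ (k89 w (c / (w * (w - 1))) hw0) (k89 1 (-(c / (w - 1))) one_ne_zero) 0
    convert this using 2 <;> field_simp <;> ring
  have k8 : ∀ b : F, rr ι 0 b 0 0 0 ∈ M := by
    intro b
    simpa using h.rr_add_mem hZ (k89 1 b one_ne_zero) (k9 (-b)) 0
  refine RA_le ?_ ?_ ?_ ?_ hZ <;> rintro _ ⟨t, rfl⟩
  · exact rr_x6 (ι := ι) t ▸ k4 t
  · exact rr_x8 (ι := ι) t ▸ k8 t
  · exact rr_x9 (ι := ι) t ▸ k9 t
  · simpa [rr_x10] using k7 1 0 0 t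

theorem perfL : ⁅LL ι, LL ι⁆ = LL ι := by
  refine le_antisymm (commutator_le_self _) (sup_le (h.RA_le_of_comm (fun ζ hζ => ?_)
    fun a ha r hr => commutator_mem_commutator (A2_le_LL ha) (RA_le_LL hr)) ?_)
  · obtain ⟨r, hr, s, hs, rfl⟩ := h.exists_commR hζ
    exact commutator_mem_commutator (RA_le_LL hr) (RA_le_LL hs)
  · rw [← h.perfA2]; exact commutator_mono A2_le_LL A2_le_LL

theorem genL : LL ι ≤ closure {l | l ∈ LL ι ∧ l * l = 1} := by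
  have key : ∀ r, XX ι r ≤ LL ι → XX ι r ≤ closure {l | l ∈ LL ι ∧ l * l = 1} := by
    rintro r hr _ ⟨t, rfl⟩
    exact subset_closure ⟨hr (x_mem _ _ _), h.x_sq r t⟩
  exact sup_le (RA_le (key _ (X6_le.trans RA_le_LL)) (key _ (X8_le.trans RA_le_LL))
    (key _ (X9_le.trans RA_le_LL)) (key _ (X10_le.trans RA_le_LL)) (key _ ZZ_le_LL))
    (sup_le (key _ (X7_le.trans A2_le_LL)) (key _ (X4_le.trans A2_le_LL)))

theorem centL {a : G} (ha : a ∈ AA ι) (hc : ∀ l ∈ LL ι, Commute a l) : a ∈ ZZ ι := by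
  refine h.centR (h.cent_bar (h.cent_zz ha (hc _ (ZZ_le_LL zz_mem))) fun r hr => ?_)
    fun s hs => hc s (RA_le_LL hs)
  rw [commutatorElement_eq_one_iff_commute.2 (hc r (RA_le_LL hr))]
  exact one_mem _

/-- `O(L) = 1` -/
theorem oddL {B : Subgroup G} (h1 : B ≤ LL ι) (h2 : LL ι ≤ normalizer (B : Set G))
    (h3 : Odd (Nat.card B)) : B = ⊥ := by
  have key : ∀ b ∈ B, b ∈ RA ι → b = 1 := fun b hb hr => by
    have e1 := B.orderOf_dvd_natCard hb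
    have e2 := (RA ι).orderOf_dvd_natCard hr
    rw [h.cardRA, show 1024 = 2 ^ 10 by norm_num] at e2
    exact orderOf_eq_one_iff.1 (Nat.eq_one_of_dvd_one (Nat.dvd_gcd e1 e2 |>.trans
      (by rw [(Nat.Coprime.pow_right 10 (Nat.coprime_two_right.2 h3)).gcd_eq_one])))
  refine eq_bot_iff.2 fun b hb => mem_bot.2 (key b hb (h.cent_bar (h1 hb) fun r hr => ?_))
  rw [key ⁅b, r⁆ ?_ ?_]
  · exact one_mem _
  · rw [show ⁅b, r⁆ = b * (r * b⁻¹ * r⁻¹) by simp only [commutatorElement_def]; group]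
    exact mul_mem hb (conj_mem_of_mem_normalizer (h2 (RA_le_LL hr)) (inv_mem hb))
  · exact mul_mem (conj_mem_of_mem_normalizer (h.LR (h1 hb)) hr) (inv_mem hr)

/-- `O₂(L) = R_A` -/
theorem twoL {B : Subgroup G} (h1 : B ≤ LL ι) (h2 : LL ι ≤ normalizer (B : Set G))
    (h3 : IsPGroup 2 B) : B ≤ RA ι := by
  have h4 := h.two_inf_A2 (B := B ⊔ RA ι) (fun a ha => by
    rw [mem_normalizer_iff_cj, cj_sup, mem_normalizer_iff_cj.1 (h2 (A2_le_LL ha)),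
      mem_normalizer_iff_cj.1 (h.A2R ha)]) (h3.to_sup_of_normal_right' h.twoR (h1.trans h.LR))
  intro b hb
  obtain ⟨r, hr, a, ha, rfl⟩ := h.mem_LL.1 (h1 hb)
  have h5 : a ∈ (B ⊔ RA ι) ⊓ A2 ι :=
    ⟨((B ⊔ RA ι).mul_mem_cancel_left (mem_sup_right hr)).1 (mem_sup_left hb), ha⟩
  rw [h4, mem_bot] at h5
  rwa [h5, mul_one]

/-- an element that centralises `L` modulo `Z` and centralises or normalises nothing else -/
theorem comm_of_bar {y : G} (hc : ∀ l ∈ LL ι, ⁅l, y⁆ ∈ ZZ ι) : ∀ l ∈ LL ι, Commute y l := by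
  have : ⁅LL ι, LL ι⁆ ≤ centralizer {y} := commutator_le.2 fun a ha b hb => by
    have e : ∀ l, y * l * y⁻¹ = ⁅l, y⁆⁻¹ * l := fun l => by
      simp only [commutatorElement_def]; group
    have za := inv_mem (hc a ha)
    have zb := inv_mem (hc b hb)
    rw [mem_centralizer_singleton_iff, eq_comm, ← mul_inv_eq_iff_eq_mul,
      show y * ⁅a, b⁆ * y⁻¹ = ⁅y * a * y⁻¹, y * b * y⁻¹⁆ by
        simp only [commutatorElement_def]; group, e, e]
    generalize ⁅a, y⁆⁻¹ = u at za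
    generalize ⁅b, y⁆⁻¹ = v at zb
    have l1 := mul_mem (mul_mem ha (mul_mem (ZZ_le_LL zb) hb)) (inv_mem ha)
    calc ⁅u * a, v * b⁆ = u * (a * (v * b) * a⁻¹) * u⁻¹ * (v * b)⁻¹ := by
          simp only [commutatorElement_def]; group
      _ = (a * v * a⁻¹) * (a * b * a⁻¹ * b⁻¹) * v⁻¹ := by
          rw [← (h.LZ l1 za).eq]; group
      _ = ⁅a, b⁆ := by
          rw [h.conjZ ha zb, ← commutatorElement_def, ← (h.LZ (commutator_le_self _
            (commutator_mem_commutator ha hb)) zb).eq]; group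
  rw [h.perfL] at this
  exact fun l hl => (mem_centralizer_singleton_iff.1 (this hl)).symm

end Emb

end CfsgLib.G2C
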