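import Cfsg.Agent.Lib.G2C.FA
import Cfsg.Agent.Lib.Coprime.Abelian
import Cfsg.Agent.Lib.CK.Syl

/-! Package FB: the elements τ and f, the module R_A / Z (plans/G2C2.md) -/

set_option autoImplicit false
set_option linter.unusedSectionVars false

namespace CfsgLib.G2C

open Subgroup Cfsg CfsgLib.Tech CfsgLib.StdR2 CfsgLib.Chev CfsgLib.OrthE CfsgLib.ExtraTwo
  CfsgLib.Co1Rec QuadraticMap
open scoped commutatorElement

variable {F : Type*} [Field F] [Fintype F] {G : Type*} [Group G] [Finite G] {ι : Γ F →* G}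

/-- a `p`-group has a fixed point on a non-trivial section that is a `p`-group -/
theorem exists_fix_two {P N : Subgroup G} (hP : IsPGroup 2 P) (U : Subgroup G) (hU : IsPGroup 2 U)
    (hPU : P ≤ normalizer (U : Set G)) (h : ¬ U ≤ N) : ∃ d ∈ U, d ∉ N ∧ ∀ x ∈ P, ⁅d, x⁆ ∈ N := by
  induction U using WellFoundedLT.induction with
  | ind U ih =>
  have hlt := Coprime.commutator_lt_of_isPGroup hU hP hPU (by rintro rfl; exact h bot_le)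
  by_cases h1 : ⁅U, P⁆ ≤ N
  · obtain ⟨d, hd, hd'⟩ := SetLike.not_le_iff_exists.1 h
    exact ⟨d, hd, hd', fun x hx => h1 (commutator_mem_commutator hd hx)⟩
  · obtain ⟨d, hd, hd'⟩ := ih _ hlt (hU.to_le hlt.le) (normalizer_commutator_ge_right U P) h1
    exact ⟨d, hlt.le hd, hd'⟩

theorem hg_rr {r : ℕ} (hr : r < 12) {k : F} (hk : k ≠ 0) (a b c d e : F) :
    ι (hg r k) * rr ι a b c d e * (ι (hg r k))⁻¹ = rr ι (k ^ Lie.chevG2.pairing r 6 * a)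
      (k ^ Lie.chevG2.pairing r 8 * b) (k ^ Lie.chevG2.pairing r 9 * c)
      (k ^ Lie.chevG2.pairing r 10 * d) (k ^ Lie.chevG2.pairing r 11 * e) := by
  simp only [Emb.conj_rr, hg_conj ι hr hk]; rfl

/-- the elements that centralise `r` modulo `Z` -/
def CB (ι : Γ F →* G) (r : G) : Subgroup G where
  carrier := {g | g ∈ normalizer (ZZ ι : Set G) ∧ ⁅g, r⁆ ∈ ZZ ι}
  one_mem' := ⟨one_mem _, by simp⟩
  mul_mem' := fun {a b} ha hb => ⟨mul_mem ha.1 hb.1, by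
    rw [show ⁅a * b, r⁆ = a * ⁅b, r⁆ * a⁻¹ * ⁅a, r⁆ by simp only [commutatorElement_def]; group]
    exact mul_mem (conj_mem_of_mem_normalizer ha.1 hb.2) ha.2⟩
  inv_mem' := fun {a} ha => ⟨inv_mem ha.1, by
    rw [show ⁅a⁻¹, r⁆ = a⁻¹ * ⁅a, r⁆⁻¹ * a by simp only [commutatorElement_def]; group]
    exact conj_mem_of_mem_normalizer' ha.1 (inv_mem ha.2)⟩

namespace Emb

variable (h : Emb ι)
include h

theorem four_cases {l m : F} (hl : l ≠ 0) (hm : m ≠ 0) (hlm : m ≠ l) (t : F) :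
    t = 0 ∨ t = l ∨ t = m ∨ t = l + m := by
  classical
  have h1 : l + m ≠ 0 := fun e => hlm (by rw [eq_neg_of_add_eq_zero_right e, h.neg_eq])
  have h2 : ({0, l, m, l + m} : Finset F) = Finset.univ := by
    apply Finset.eq_univ_of_card
    rw [h.hF, Finset.card_insert_of_notMem (by simp [hl.symm, hm.symm, h1.symm]),
      Finset.card_insert_of_notMem (by simp [hlm.symm, hm]), Finset.card_pair (by simp [hl])]
  have := Finset.mem_univ t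
  rw [← h2] at this
  simpa using this

theorem s_ne_one' (τ : G) : τ * zz ι * τ⁻¹ ≠ 1 := fun e => h.zz_ne (by simpa using e)

theorem tau_trans {τ : G} (h3 : τ ^ 3 = 1) (nZ : τ ∈ normalizer (ZZ ι : Set G))
    (fZ : ∀ ζ ∈ ZZ ι, Commute τ ζ → ζ = 1) :
    τ * zz ι * τ⁻¹ ≠ zz ι ∧ τ * (τ * zz ι * τ⁻¹) * τ⁻¹ = zz ι * (τ * zz ι * τ⁻¹) ∧
      ∀ ζ ∈ ZZ ι, ζ ≠ 1 → ∃ i : ℕ, τ ^ i * zz ι * (τ ^ i)⁻¹ = ζ := by
  have hs := conj_mem_of_mem_normalizer nZ (zz_mem (ι := ι))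
  have h1 : τ * zz ι * τ⁻¹ ≠ zz ι := fun e => h.zz_ne (fZ _ zz_mem (mul_inv_eq_iff_eq_mul.1 e))
  have h2 : τ * (τ * zz ι * τ⁻¹) * τ⁻¹ = zz ι * (τ * zz ι * τ⁻¹) := by
    rcases (h.mem_ZZ hs (h.s_ne_one' τ) h1).1 (conj_mem_of_mem_normalizer nZ hs) with e | e | e | e
    · exact absurd (by simpa using e) h.zz_ne
    · refine absurd ?_ h1
      have e3 : τ * τ * τ = 1 := by rw [← h3, pow_three, mul_assoc]
      calc τ * zz ι * τ⁻¹ = τ * (τ * (τ * zz ι * τ⁻¹) * τ⁻¹) * τ⁻¹ := by rw [e]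
        _ = (τ * τ * τ) * zz ι * (τ * τ * τ)⁻¹ := by group
        _ = zz ι := by rw [e3]; group
    · exact absurd (fZ _ hs (mul_inv_eq_iff_eq_mul.1 e)) (h.s_ne_one' τ)
    · exact e
  refine ⟨h1, h2, fun ζ hζ hne => ?_⟩
  rcases (h.mem_ZZ hs (h.s_ne_one' τ) h1).1 hζ with e | e | e | e
  · exact absurd e hne
  · exact ⟨0, by simp [e]⟩
  · exact ⟨1, by simp [e]⟩
  · exact ⟨2, by rw [e, ← h2, pow_two]; group⟩

theorem exists_tau : ∃ τ, Tau ι τ := by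
  obtain ⟨w, hw0, hw1⟩ := h.exists_ne
  have r11 : (11 : ℕ) < 12 := by norm_num
  have h3 : ι (hg 11 w) ^ 3 = 1 := by
    rw [← map_pow, ← map_one ι]
    refine congrArg ι (Subtype.ext ?_)
    show hU Lie.chevG2 F 11 w ^ 3 = 1
    rw [pow_three, ← hU_mul r11 hw0 hw0, ← hU_mul r11 hw0 (mul_ne_zero hw0 hw0), ← pow_three,
      h.cube hw0, hU_one]
  have nZ : ι (hg 11 w) ∈ normalizer (ZZ ι : Set G) := mem_normalizer_iff_cj.2 (cj_hg r11 hw0 11)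
  have hrr : ∀ a b c d e, ι (hg 11 w) * rr ι a b c d e * (ι (hg 11 w))⁻¹ =
      rr ι (w * a) (w * b) (w * c) (w * d) (w ^ 2 * e) := fun a b c d e => by
    rw [hg_rr r11 hw0, show Lie.chevG2.pairing 11 6 = 1 by decide,
      show Lie.chevG2.pairing 11 8 = 1 by decide, show Lie.chevG2.pairing 11 9 = 1 by decide,
      show Lie.chevG2.pairing 11 10 = 1 by decide, show Lie.chevG2.pairing 11 11 = 2 by decide]
    simp only [zpow_ofNat, pow_one]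
  have k1 : ∀ a : F, w * a = a → a = 0 := fun a e =>
    (mul_eq_zero.1 (show (w - 1) * a = 0 by linear_combination e)).resolve_left (sub_ne_zero.2 hw1)
  have fZ : ∀ ζ ∈ ZZ ι, Commute (ι (hg 11 w)) ζ → ζ = 1 := by
    rintro _ ⟨t, rfl⟩ hc
    have := hrr 0 0 0 0 t
    rw [rr_x11, hc.mul_inv_cancel, ← rr_x11] at this
    have e := (h.rr_inj this).2.2.2.2
    rw [k1 t (by linear_combination w * e + t * h.cube hw0), x_zero]
  refine ⟨_, hg_mem ι r11 w, h3, nZ, mem_normalizer_iff_cj.2 (cj_hg_RA r11 hw0),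
    mem_normalizer_iff_cj.2 (cj_hg r11 hw0 10), fun a ha => ?_, fZ, fun r hr hc => ?_,
    fun a ha hn => ?_⟩
  · have : A2 ι ≤ centralizer {ι (hg 11 w)} := by
      refine sup_le ?_ ?_ <;> rintro _ ⟨t, rfl⟩ <;>
        rw [mem_centralizer_singleton_iff, eq_comm, ← mul_inv_eq_iff_eq_mul, hg_conj ι r11 hw0]
      · rw [show Lie.chevG2.pairing 11 7 = 0 by decide]; simp
      · rw [show Lie.chevG2.pairing 11 4 = 0 by decide]; simp
    exact (mem_centralizer_singleton_iff.1 (this ha)).symm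
  · obtain ⟨a, b, c, d, e, rfl⟩ := h.mem_RA.1 hr
    rw [commutatorElement_def, hrr, h.rr_inv, h.rr_mul, h.rr_mem_ZZ] at hc
    have k2 : ∀ a : F, w * a + a = 0 → a = 0 := fun a e =>
      k1 a (by rw [eq_neg_of_add_eq_zero_left e, h.neg_eq])
    exact h.rr_mem_ZZ.2 ⟨k2 _ hc.1, k2 _ hc.2.1, k2 _ hc.2.2.1, k2 _ hc.2.2.2⟩
  · obtain ⟨i, hi⟩ := (h.tau_trans h3 nZ fZ).2.2 _ (conj_mem_of_mem_normalizer (inv_mem hn) zz_mem)
      (h.s_ne_one' _)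
    have hτ : ι (hg 11 w) ^ i ∈ AA ι := pow_mem (show ι (hg 11 w) ∈ AA ι from ⟨_, rfl⟩) i
    refine ⟨a * ι (hg 11 w) ^ i, h.cent_zz (mul_mem ha hτ) ?_, 2 * i, ?_⟩
    · show _ = _
      rw [← mul_inv_eq_iff_eq_mul, show a * ι (hg 11 w) ^ i * zz ι * (a * ι (hg 11 w) ^ i)⁻¹ =
        a * (ι (hg 11 w) ^ i * zz ι * (ι (hg 11 w) ^ i)⁻¹) * a⁻¹ by group, hi]; group
    · rw [mul_assoc, ← pow_add, show i + 2 * i = 3 * i by ring, pow_mul, h3, one_pow, mul_one]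

theorem exists_five : ∃ f, Five ι f := by
  obtain ⟨w, hw, -⟩ := h.exists_ω
  have h2 := h.two_eq
  have hf : x ι 7 1 * x ι 4 w ∈ A2 ι := mul_mem (X7_le (x_mem _ _ _)) (X4_le (x_mem _ _ _))
  have key : ∀ a b c d e : F, ∃ e', x ι 7 1 * x ι 4 w * rr ι a b c d e * (x ι 7 1 * x ι 4 w)⁻¹ =
      rr ι (a + w * b + (w + 1) * c + d) (a + (w + 1) * b + (w + 1) * c + w * d)
        (a + w * b + w * c + (w + 1) * d) (a + (w + 1) * b + w * c + d) e' := by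
    intro a b c d e
    obtain ⟨e1, h1⟩ := h.x4_rr w a b c d e
    obtain ⟨e2, h3⟩ := h.x7_rr 1 _ _ _ _ e1
    refine ⟨e2, ?_⟩
    rw [show x ι 7 1 * x ι 4 w * rr ι a b c d e * (x ι 7 1 * x ι 4 w)⁻¹ =
      x ι 7 1 * (x ι 4 w * rr ι a b c d e * (x ι 4 w)⁻¹) * (x ι 7 1)⁻¹ by group, h1, h3]
    congr 1 <;> grind
  generalize x ι 7 1 * x ι 4 w = f at hf key
  refine ⟨f, hf, ?_, fun r hr hc => ?_⟩
  · have : f ^ 5 ∈ KB ι ⊓ A2 ι := ⟨⟨h.LnZ (A2_le_LL (pow_mem hf 5)), fun r hr => ?_⟩, pow_mem hf 5⟩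
    · rwa [h.KB_inf_A2, mem_bot] at this
    obtain ⟨a, b, c, d, e, rfl⟩ := h.mem_RA.1 hr
    obtain ⟨e1, k1⟩ := key a b c d e
    obtain ⟨e2, k2⟩ := key _ _ _ _ e1
    obtain ⟨e3, k3⟩ := key _ _ _ _ e2
    obtain ⟨e4, k4⟩ := key _ _ _ _ e3
    obtain ⟨e5, k5⟩ := key _ _ _ _ e4
    rw [show ⁅f ^ 5, rr ι a b c d e⁆ = f * (f * (f * (f * (f * rr ι a b c d e * f⁻¹) * f⁻¹) * f⁻¹) *
      f⁻¹) * f⁻¹ * (rr ι a b c d e)⁻¹ by
        simp only [commutatorElement_def, pow_succ, pow_zero]; group,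
      k1, k2, k3, k4, k5, h.rr_inv, h.rr_mul, h.rr_mem_ZZ]
    refine ⟨?_, ?_, ?_, ?_⟩ <;> grind
  · obtain ⟨a, b, c, d, e, rfl⟩ := h.mem_RA.1 hr
    obtain ⟨e1, k1⟩ := key a b c d e
    rw [commutatorElement_def, k1, h.rr_inv, h.rr_mul, h.rr_mem_ZZ] at hc
    obtain ⟨c1, c2, c3, c4⟩ := hc
    refine h.rr_mem_ZZ.2 ⟨?_, ?_, ?_, ?_⟩ <;> grind

theorem comm_XX {r s : ℕ}
    (hc : r < 12 ∧ s < 12 ∧ r + s ≠ 11 ∧ ∀ c ∈ Lie.chevG2.commTerms r s, c.2.1 % 2 = 0) :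
    XX ι r ≤ centralizer (XX ι s : Set G) := by
  rintro _ ⟨t, rfl⟩ _ ⟨u, rfl⟩
  exact (h.x_commute t u hc).eq.symm

omit h [Finite G] in
theorem le_cent_sup {A B C : Subgroup G} (h1 : A ≤ centralizer (B : Set G))
    (h2 : A ≤ centralizer (C : Set G)) : A ≤ centralizer ((B ⊔ C : Subgroup G) : Set G) :=
  le_centralizer_iff.1 (sup_le (le_centralizer_iff.1 h1) (le_centralizer_iff.1 h2))

theorem A12 {a b : G} (ha : a ∈ A1 ι) (hb : b ∈ A2 ι) : Commute a b := by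
  have : A1 ι ≤ centralizer (A2 ι : Set G) :=
    sup_le (le_cent_sup (h.comm_XX (by decide)) (h.comm_XX (by decide)))
      (le_cent_sup (h.comm_XX (by decide)) (h.comm_XX (by decide)))
  exact (this ha b hb).symm

theorem cj_ng {r s : ℕ} (hr : r < 12) (hs : s < 12) :
    cj (ι (ng r 1)) (XX ι s) = XX ι (Chev.refl Lie.chevG2 r s) := by
  refine le_antisymm (cj_le_iff.2 ?_) ?_
  · rintro _ ⟨t, rfl⟩
    rw [h.ng_conj hr hs]; exact x_mem _ _ _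
  · rintro _ ⟨t, rfl⟩
    rw [← h.ng_conj hr hs]; exact conj_mem_cj.2 (x_mem _ _ _)

theorem norm_N9 : XX ι 6 ⊔ XX ι 5 ≤ normalizer ((XX ι 9 ⊔ XX ι 10 ⊔ XX ι 11 : Subgroup G) : Set G) := by
  have m9 : XX ι 9 ≤ XX ι 9 ⊔ XX ι 10 ⊔ XX ι 11 := le_sup_of_le_left le_sup_left
  have m10 : XX ι 10 ≤ XX ι 9 ⊔ XX ι 10 ⊔ XX ι 11 := le_sup_of_le_left le_sup_right
  have m11 : XX ι 11 ≤ XX ι 9 ⊔ XX ι 10 ⊔ XX ι 11 := le_sup_right
  refine sup_le ?_ ?_ <;> rintro _ ⟨t, rfl⟩ <;> refine mem_normalizer_of_cj_le ?_ <;>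
    simp only [cj_sup] <;> refine sup_le (sup_le ?_ ?_) ?_ <;> refine cj_le_iff.2 ?_ <;>
    rintro _ ⟨u, rfl⟩
  · rw [(h.x_commute t u (by decide)).mul_inv_cancel]; exact m9 (x_mem _ _ _)
  · rw [h.conj_x (by decide) (by decide) (by decide)]
    simp only [Lie.ChevalleyDatum.commWord, show Lie.chevG2.commTerms 6 10 = [(11, 1, 1, 1)] by decide,
      List.map_cons, List.map_nil, List.prod_cons, List.prod_nil, mul_one]
    exact mul_mem (m10 (x_mem _ _ _)) (m11 (x_mem _ _ _))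
  · rw [(h.x_commute t u (by decide)).mul_inv_cancel]; exact m11 (x_mem _ _ _)
  · rw [(h.x_commute t u (by decide)).mul_inv_cancel]; exact m9 (x_mem _ _ _)
  · rw [(h.x_commute t u (by decide)).mul_inv_cancel]; exact m10 (x_mem _ _ _)
  · rw [h.conj_x (by decide) (by decide) (by decide)]
    simp only [Lie.ChevalleyDatum.commWord, show Lie.chevG2.commTerms 5 11 = [(10, 1, 1, 1)] by decide,
      List.map_cons, List.map_nil, List.prod_cons, List.prod_nil, mul_one]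
    exact mul_mem (m11 (x_mem _ _ _)) (m10 (x_mem _ _ _))

/-- normal form in the centraliser of `x₉(1)` -/
theorem cent_x9' {a : G} (ha : a ∈ AA ι) (hc : Commute a (x ι 9 1)) :
    ∃ u ∈ XX ι 9 ⊔ XX ι 10 ⊔ XX ι 11, ∃ b ∈ XX ι 6 ⊔ XX ι 5, a = u * b := by
  have := h.cent_x9.1 ⟨ha, hc⟩
  rw [sup_assoc, ← SetLike.mem_coe, coe_mul_of_right_le_normalizer_left _ _ h.norm_N9] at this
  obtain ⟨u, hu, b, hb, e⟩ := this
  exact ⟨u, hu, b, hb, e.symm⟩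

theorem centA2 {a : G} (ha : a ∈ AA ι) (hc : ∀ b ∈ A2 ι, Commute a b) : a ∈ A1 ι := by
  have hn : ι (ng 8 1) ∈ AA ι := ⟨_, rfl⟩
  have e1 : cj (ι (ng 8 1)) (A1 ι) = XX ι 6 ⊔ XX ι 5 := by
    rw [A1, cj_sup, h.cj_ng (by norm_num) (by norm_num), h.cj_ng (by norm_num) (by norm_num),
      sup_comm]; rfl
  have e2 : cj (ι (ng 8 1)) (A2 ι) = XX ι 9 ⊔ XX ι 2 := by
    rw [A2, cj_sup, h.cj_ng (by norm_num) (by norm_num), h.cj_ng (by norm_num) (by norm_num)]; rfl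
  have h1 : ι (ng 8 1) * a * (ι (ng 8 1))⁻¹ ∈ centralizer ((XX ι 9 ⊔ XX ι 2 : Subgroup G) : Set G) := by
    rw [← e2, ← cj_centralizer, conj_mem_cj]
    exact fun b hb => (hc b hb).eq.symm
  rw [← conj_mem_cj (g := ι (ng 8 1)), e1]
  obtain ⟨u, hu, b, hb, e⟩ := h.cent_x9' (mul_mem (mul_mem hn ha) (inv_mem hn))
    (h1 _ (mem_sup_left (x_mem ι 9 1))).symm
  rw [e] at h1 ⊢
  have h2 : XX ι 6 ⊔ XX ι 5 ≤ centralizer ((XX ι 9 ⊔ XX ι 2 : Subgroup G) : Set G) :=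
    sup_le (le_cent_sup (h.comm_XX (by decide)) (h.comm_XX (by decide)))
      (le_cent_sup (h.comm_XX (by decide)) (h.comm_XX (by decide)))
  rw [Subgroup.mul_mem_cancel_right _ (h2 hb)] at h1
  have h3 : ι (ng 9 1) ∈ XX ι 9 ⊔ XX ι 2 := by
    rw [ng_eq ι (by norm_num)]
    exact mul_mem (mul_mem (mem_sup_left (x_mem _ _ _)) (mem_sup_right (x_mem _ _ _)))
      (mem_sup_left (x_mem _ _ _))
  have h4 : u ∈ cj (ι (ng 9 1)) (XX ι 9 ⊔ XX ι 10 ⊔ XX ι 11) := by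
    have := conj_mem_cj (g := ι (ng 9 1)).2 hu
    rwa [h1 _ h3, mul_inv_cancel_right] at this
  rw [cj_sup, cj_sup, h.cj_ng (by norm_num) (by norm_num), h.cj_ng (by norm_num) (by norm_num),
    h.cj_ng (by norm_num) (by norm_num)] at h4
  have h5 : u = 1 := h.eq_one_of_pos_neg
    (mem_sup_left (sup_le (sup_le X9_le X10_le) ZZ_le_RA hu))
    (mem_sup_left (mem_sup_left (mem_sup_left ((sup_le (sup_le le_sup_right
      (le_sup_of_le_left le_sup_left)) (le_sup_of_le_left le_sup_right) :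
        XX ι 2 ⊔ XX ι 0 ⊔ XX ι 1 ≤ XX ι 0 ⊔ XX ι 1 ⊔ XX ι 2) h4))))
  rwa [h5, one_mul]

theorem sylZ : IsSylowIn 2 (ZZ ι) (A1 ι) := by
  refine ⟨ZZ_le_A1, IsPGroup.of_card (n := 2) h.cardZ, ?_⟩
  have := card_mul_relIndex' (ZZ_le_A1 (ι := ι))
  rw [h.cardZ, h.cardA1] at this
  omega

theorem mem_W {r : G} : r ∈ XX ι 10 ⊔ ZZ ι ↔ ∃ d e, r = rr ι 0 0 0 d e := by
  have e0 : ∀ d e, rr ι 0 0 0 d e = x ι 10 d * x ι 11 e := fun d e => by simp [rr, x_zero]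
  constructor
  · intro hr
    rw [← SetLike.mem_coe, coe_mul_of_left_le_normalizer_right _ _
      ((X10_le.trans RA_le_LL).trans h.LnZ)] at hr
    obtain ⟨_, ⟨d, rfl⟩, _, ⟨e, rfl⟩, rfl⟩ := hr
    exact ⟨d, e, (e0 d e).symm⟩
  · rintro ⟨d, e, rfl⟩
    rw [e0]; exact mul_mem (mem_sup_left (x_mem _ _ _)) (mem_sup_right (x_mem _ _ _))

theorem bc_zero {b c : F} (hb : ∀ s : F, s ^ 2 * b + s * c = 0) : b = 0 ∧ c = 0 := by
  obtain ⟨w, hw0, hw1⟩ := h.exists_ne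
  have h1 := hb 1
  have h2 := hb w
  have h3 : b = 0 := (mul_eq_zero.1 (show w * (w - 1) * b = 0 by
    linear_combination h2 - w * h1)).resolve_left (mul_ne_zero hw0 (sub_ne_zero.2 hw1))
  exact ⟨h3, by simpa [h3] using h1⟩

theorem fix7 {r : G} (hr : r ∈ RA ι) (hc : ∀ a ∈ XX ι 7, ⁅a, r⁆ ∈ ZZ ι) : r ∈ XX ι 10 ⊔ ZZ ι := by
  obtain ⟨a, b, c, d, e, rfl⟩ := h.mem_RA.1 hr
  have key : ∀ s, s * a = 0 ∧ s ^ 3 * a + s ^ 2 * b + s * c = 0 := fun s => by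
    obtain ⟨e', he⟩ := h.comm7_rr s a b c d e
    have := h.rr_mem_ZZ.1 (he ▸ hc _ (x_mem ι 7 s))
    exact ⟨this.2.1, this.2.2.2⟩
  obtain rfl : a = 0 := by simpa using (key 1).1
  obtain ⟨rfl, rfl⟩ := h.bc_zero (b := b) (c := c) fun s => by simpa using (key s).2
  exact h.mem_W.2 ⟨d, e, rfl⟩

theorem comm7 {a r : G} (ha : a ∈ XX ι 7) (hr : r ∈ XX ι 10 ⊔ ZZ ι) : Commute a r :=
  ((le_cent_sup (h.comm_XX (r := 7) (s := 10) (by decide))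
    (h.comm_XX (r := 7) (s := 11) (by decide))) ha r hr).symm

theorem x10_notMem {t : F} (ht : t ≠ 0) : x ι 10 t ∉ ZZ ι := fun e =>
  ht (h.rr_mem_ZZ.1 (rr_x10 (ι := ι) t ▸ e)).2.2.2

theorem card10 : Nat.card (XX ι 10 ⊔ ZZ ι : Subgroup G) = 16 := by
  rw [sup_comm, CfsgLib.Coprime.card_sup_of_le_normalizer ((X10_le.trans RA_le_LL).trans h.LnZ),
    h.cardZ, h.card_XX (by norm_num)]
  refine eq_bot_iff.2 ?_
  rintro _ ⟨h1, t, rfl⟩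
  by_cases ht : t = 0
  · rw [ht, x_zero]; exact one_mem _
  · exact absurd h1 (h.x10_notMem ht)

theorem n7_mem : ι (ng 7 1) ∈ A2 ι := by
  rw [ng_eq ι (by norm_num)]
  exact mul_mem (mul_mem (X7_le (x_mem _ _ _)) (X4_le (x_mem _ _ _))) (X7_le (x_mem _ _ _))

theorem x6_mem {M : Subgroup G} (h2 : A2 ι ≤ normalizer (M : Set G)) {t : F} (ht : x ι 10 t ∈ M) :
    x ι 6 t ∈ M := by
  have := conj_mem_of_mem_normalizer (h2 h.n7_mem) ht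
  rwa [h.ng_conj (by norm_num) (by norm_num)] at this

omit h [Finite G] in
theorem comm_mem_of_norm {M : Subgroup G} {a r : G} (ha : a ∈ normalizer (M : Set G)) (hr : r ∈ M) :
    ⁅a, r⁆ ∈ M := mul_mem (conj_mem_of_mem_normalizer ha hr) (inv_mem hr)

theorem span {M : Subgroup G} (h1 : XX ι 10 ⊔ ZZ ι ≤ M) (h2 : A2 ι ≤ normalizer (M : Set G)) :
    RA ι ≤ M := by
  have hZ : ZZ ι ≤ M := le_sup_right.trans h1
  have k10 : ∀ t, x ι 10 t ∈ M := fun t => h1 (mem_sup_left (x_mem _ _ _))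
  have k6 : ∀ t, x ι 6 t ∈ M := fun t => h.x6_mem h2 (k10 t)
  have k89 : ∀ s a : F, rr ι 0 (s * a) (s ^ 2 * a) 0 0 ∈ M := by
    intro s a
    obtain ⟨e', he⟩ := h.comm7_rr s a 0 0 0 0
    have h3 := he ▸ comm_mem_of_norm (h2 (X7_le (x_mem ι 7 s))) (rr_x6 (ι := ι) a ▸ k6 a)
    have := h.rr_add_mem hZ h3 (rr_x10 (ι := ι) _ ▸ k10 (-(s ^ 3 * a))) 0
    simpa using this
  obtain ⟨w, hw0, hw1⟩ := h.exists_ne
  have hw2 : w - 1 ≠ 0 := sub_ne_zero.2 hw1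
  have k9 : ∀ c : F, rr ι 0 0 c 0 0 ∈ M := by
    intro c
    have := h.rr_add_mem hZ (k89 w (c / (w * (w - 1)))) (k89 1 (-(c / (w - 1)))) 0
    convert this using 2 <;> field_simp <;> ring
  have k8 : ∀ b : F, rr ι 0 b 0 0 0 ∈ M := by
    intro b
    simpa using h.rr_add_mem hZ (k89 1 b) (k9 (-b)) 0
  refine RA_le ?_ ?_ ?_ ?_ hZ <;> rintro _ ⟨t, rfl⟩
  exacts [k6 t, rr_x8 (ι := ι) t ▸ k8 t, rr_x9 (ι := ι) t ▸ k9 t, k10 t]

/-- an `X₇`-invariant subgroup properly between `Z` and `R_A` meets `X₁₀` -/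
theorem exists_x10 {M : Subgroup G} (h1 : ZZ ι < M) (h2 : M ≤ RA ι)
    (h3 : XX ι 7 ≤ normalizer (M : Set G)) : ∃ t, t ≠ 0 ∧ x ι 10 t ∈ M := by
  obtain ⟨d, hd, hn, hc⟩ := exists_fix_two (P := XX ι 7) (N := ZZ ι)
    (IsPGroup.of_card (n := 2) (h.card_XX (by norm_num))) M (h.twoR.to_le h2) h3 h1.not_ge
  obtain ⟨t, e, rfl⟩ := h.mem_W.1 (h.fix7 (h2 hd) fun a ha => by
    rw [← commutatorElement_inv]; exact inv_mem (hc a ha))
  exact ⟨t, fun e => hn (h.rr_mem_ZZ.2 ⟨rfl, rfl, rfl, e⟩),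
    rr_x10 (ι := ι) t ▸ h.rr_mem_of h1.le hd 0⟩

/-- an `A2`-invariant subgroup between `Z` and `R_A` is `Z` or not abelian -/
theorem nonab {M : Subgroup G} (h1 : ZZ ι < M) (h2 : M ≤ RA ι) (h3 : A2 ι ≤ normalizer (M : Set G)) :
    ∃ a ∈ M, ∃ b ∈ M, ¬ Commute a b := by
  obtain ⟨t, ht, hm⟩ := h.exists_x10 h1 h2 (X7_le.trans h3)
  refine ⟨_, h.x6_mem h3 hm, _, hm, fun hc => ?_⟩
  have := commutatorElement_eq_one_iff_commute.2 hc
  rw [← rr_x6, ← rr_x10, h.rr_comm, h.x_eq_one (by norm_num)] at this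
  simp [ht] at this

theorem RA_le_CB {r : G} (hr : r ∈ RA ι) : RA ι ≤ CB ι r := fun _ hs =>
  ⟨h.LnZ (RA_le_LL hs), h.commR hs hr⟩

/-- a `τ`-invariant 2-group that commutes with `A2` on `R_A / Z` acts trivially on `R_A / Z` -/
theorem bar_of_two {τ : G} (hτ : Tau ι τ) {P : Subgroup G} (h1 : IsPGroup 2 P)
    (h2 : P ≤ normalizer (RA ι : Set G)) (h3 : P ≤ normalizer (ZZ ι : Set G))
    (h4 : ∀ c ∈ P, ∀ a ∈ A2 ι, ⁅c, a⁆ ∈ RA ι) (h5 : τ ∈ normalizer (P : Set G)) :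
    ∀ c ∈ P, ∀ r ∈ RA ι, ⁅c, r⁆ ∈ ZZ ι := by
  have WR : XX ι 10 ⊔ ZZ ι ≤ RA ι := sup_le X10_le ZZ_le_RA
  have hW : P ≤ normalizer ((XX ι 10 ⊔ ZZ ι : Subgroup G) : Set G) := fun c hc =>
    mem_normalizer_of_forall fun r hr => h.fix7 (conj_mem_of_mem_normalizer (h2 hc) (WR hr))
      fun a ha => by
        have k1 : a ∈ CB ι r := ⟨h.LnZ (A2_le_LL (X7_le ha)), by
          rw [commutatorElement_eq_one_iff_commute.2 (h.comm7 ha hr)]; exact one_mem _⟩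
        have k2 := mul_mem (h.RA_le_CB (WR hr) (h4 _ (inv_mem hc) a (X7_le ha))) k1
        rw [show ⁅a, c * r * c⁻¹⁆ = c * ⁅⁅c⁻¹, a⁆ * a, r⁆ * c⁻¹ by
          simp only [commutatorElement_def]; group]
        exact conj_mem_of_mem_normalizer (h3 hc) k2.2
  let M : Subgroup G :=
    { carrier := {r | r ∈ RA ι ∧ ∀ c ∈ P, ⁅c, r⁆ ∈ ZZ ι}
      one_mem' := ⟨one_mem _, fun c _ => by simp⟩
      mul_mem' := fun {a b} ha hb => ⟨mul_mem ha.1 hb.1, fun c hc => by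
        rw [show ⁅c, a * b⁆ = ⁅c, a⁆ * (a * ⁅c, b⁆ * a⁻¹) by
          simp only [commutatorElement_def]; group]
        exact mul_mem (ha.2 c hc) (conj_mem_of_mem_normalizer (h.LnZ (RA_le_LL ha.1)) (hb.2 c hc))⟩
      inv_mem' := fun {a} ha => ⟨inv_mem ha.1, fun c hc => by
        rw [show ⁅c, a⁻¹⁆ = a⁻¹ * ⁅c, a⁆⁻¹ * a by simp only [commutatorElement_def]; group]
        exact conj_mem_of_mem_normalizer' (h.LnZ (RA_le_LL ha.1)) (inv_mem (ha.2 c hc))⟩ }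
  have hZ : ZZ ι ≤ M := fun ζ hζ => ⟨ZZ_le_RA hζ, fun c hc => comm_mem_of_norm (h3 hc) hζ⟩
  have hA : A2 ι ≤ normalizer (M : Set G) := fun a ha => mem_normalizer_of_forall fun r hr =>
    ⟨conj_mem_of_mem_normalizer (h.A2R ha) hr.1, fun c hc => by
      have k1 : c ∈ CB ι r := ⟨h3 hc, hr.2 c hc⟩
      have k2 := mul_mem k1 (h.RA_le_CB hr.1 (h4 _ (inv_mem hc) _ (inv_mem ha)))
      rw [show ⁅c, a * r * a⁻¹⁆ = a * ⁅c * ⁅c⁻¹, a⁻¹⁆, r⁆ * a⁻¹ by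
        simp only [commutatorElement_def]; group]
      exact conj_mem_of_mem_normalizer (h.LnZ (A2_le_LL ha)) k2.2⟩
  have hτM : ∀ r ∈ M, τ * r * τ⁻¹ ∈ M := fun r hr =>
    ⟨conj_mem_of_mem_normalizer hτ.nR hr.1, fun c hc => by
      rw [show ⁅c, τ * r * τ⁻¹⁆ = τ * ⁅τ⁻¹ * c * τ, r⁆ * τ⁻¹ by
        simp only [commutatorElement_def]; group]
      exact conj_mem_of_mem_normalizer hτ.nZ (hr.2 _ (conj_mem_of_mem_normalizer' h5 hc))⟩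
  obtain ⟨d, hd, hn, hc⟩ := exists_fix_two (N := ZZ ι) h1 _ (h.twoR.to_le WR) hW fun e =>
    h.x10_notMem one_ne_zero (e (mem_sup_left (x_mem ι 10 1)))
  have hdM : d ∈ M := ⟨WR hd, fun c hc' => by
    rw [← commutatorElement_inv]; exact inv_mem (hc c hc')⟩
  obtain ⟨l, e, rfl⟩ := h.mem_W.1 hd
  have hl : l ≠ 0 := fun e => hn (h.rr_mem_ZZ.2 ⟨rfl, rfl, rfl, e⟩)
  have k1 : x ι 10 l ∈ M := rr_x10 (ι := ι) l ▸ h.rr_mem_of hZ hdM 0
  obtain ⟨m, hm⟩ := conj_mem_of_mem_normalizer hτ.n10 (x_mem ι 10 l)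
  have k2 : x ι 10 m ∈ M := hm ▸ hτM _ k1
  have hm0 : m ≠ 0 := fun e => hl ((h.x_eq_one (r := 10) (by norm_num)).1 (by
    rw [e, x_zero] at hm; simpa using hm))
  have hml : m ≠ l := fun e => h.x10_notMem hl (hτ.fR _ (X10_le (x_mem _ _ _)) (by
    rw [commutatorElement_def, hm, e, mul_inv_cancel]; exact one_mem _))
  have k3 : XX ι 10 ≤ M := by
    rintro _ ⟨t, rfl⟩
    rcases h.four_cases hl hm0 hml t with rfl | rfl | rfl | rfl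
    · rw [x_zero]; exact one_mem _
    · exact k1
    · exact k2
    · rw [x_add]; exact mul_mem k1 k2
  exact fun c hc r hr => (h.span (sup_le k3 hZ) hA hr).2 c hc

/-- the subgroups between `Z` and `R_A` that are normalised by `f` -/
theorem card_five {f : G} (hf : Five ι f) {M : Subgroup G} (h1 : ZZ ι ≤ M) (h2 : M ≤ RA ι)
    (h3 : f ∈ normalizer (M : Set G)) : Nat.card M = 4 ∨ Nat.card M = 64 ∨ Nat.card M = 1024 := by
  have : Fact (Nat.Prime 5) := ⟨by norm_num⟩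
  have : Finite (ConjAct G) := Finite.of_equiv G ConjAct.toConjAct.toEquiv
  have hm := CK.ncard_fx_modEq (G := ConjAct G) (L := G) (p := 5) (by norm_num)
    (S := zpowers (ConjAct.toConjAct f)) (isPGroup_zpowers_of_pow (k := 1) (by
      rw [pow_one, ← map_pow, hf.pow, map_one])) (X := (M : Set G)) (by
      rintro _ ⟨k, rfl⟩ a ha
      exact conj_mem_of_mem_normalizer (zpow_mem h3 k) ha)
  have e : {a | a ∈ (M : Set G) ∧ CK.Fx (zpowers (ConjAct.toConjAct f)) a} = (ZZ ι : Set G) := by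
    ext a
    refine ⟨fun ha => hf.fR a (h2 ha.1) ?_, fun ha => ⟨h1 ha, ?_⟩⟩
    · have : f * a * f⁻¹ = a := ha.2 _ (mem_zpowers _)
      rw [commutatorElement_def, this, mul_inv_cancel]; exact one_mem _
    · rintro _ ⟨k, rfl⟩
      exact h.conjZ (zpow_mem (A2_le_LL hf.mem) k) ha
  rw [e, ← Nat.card_coe_set_eq, ← Nat.card_coe_set_eq] at hm
  change Nat.card M ≡ Nat.card (ZZ ι) [MOD 5] at hm
  have hd := card_dvd_of_le h2
  rw [h.cardRA, show 1024 = 2 ^ 10 by norm_num, Nat.dvd_prime_pow Nat.prime_two] at hd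
  obtain ⟨k, hk, hk'⟩ := hd
  rw [h.cardZ, hk'] at hm
  rw [hk']
  interval_cases k <;> simp_all [Nat.ModEq]

/-- `[R_A, f] Z = R_A` -/
theorem five_gen {f : G} (hf : Five ι f) {r : G} (hr : r ∈ RA ι) :
    ∃ s ∈ RA ι, ∃ ζ ∈ ZZ ι, r = ⁅f, s⁆ * ζ := by
  have h1 : ∀ v : F × F × F × F, ∃ w : F × F × F × F, ∃ ζ ∈ ZZ ι,
      rr ι w.1 w.2.1 w.2.2.1 w.2.2.2 0 = ⁅f, rr ι v.1 v.2.1 v.2.2.1 v.2.2.2 0⁆ * ζ := fun v => by
    obtain ⟨a, b, c, d, e, he⟩ := h.mem_RA.1 (comm_mem_of_norm (h.A2R hf.mem)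
      (h.rr_mem v.1 v.2.1 v.2.2.1 v.2.2.2 0))
    exact ⟨(a, b, c, d), rr ι 0 0 0 0 e, h.rr_mem_ZZ.2 ⟨rfl, rfl, rfl, rfl⟩, by
      rw [he, h.rr_mul]; simp [h.add_self]⟩
  choose T ζ hζ hT using h1
  have hinj : Function.Injective T := fun v w e => by
    have e1 := (hT v).symm.trans (e ▸ hT w)
    set s := rr ι v.1 v.2.1 v.2.2.1 v.2.2.2 0 with hs
    set s' := rr ι w.1 w.2.1 w.2.2.1 w.2.2.2 0 with hs'
    have m1 : s ∈ RA ι := h.rr_mem _ _ _ _ _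
    have m2 : s' ∈ RA ι := h.rr_mem _ _ _ _ _
    have h3 := hf.fR _ (mul_mem (inv_mem m2) m1) (by
      rw [show ⁅f, s'⁻¹ * s⁆ = s'⁻¹ * (⁅f, s'⁆⁻¹ * (⁅f, s⁆ * ζ v) * (ζ v)⁻¹) * s' by
        simp only [commutatorElement_def]; group, e1, inv_mul_cancel_left]
      exact conj_mem_of_mem_normalizer' (h.LnZ (RA_le_LL m2)) (mul_mem (hζ w) (inv_mem (hζ v))))
    rw [hs, hs', h.rr_inv, h.rr_mul, h.rr_mem_ZZ] at h3
    have k : ∀ a b : F, a + b = 0 → b = a := fun a b e => by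
      rw [eq_neg_of_add_eq_zero_right e, h.neg_eq]
    exact Prod.ext (k _ _ h3.1) (Prod.ext (k _ _ h3.2.1) (Prod.ext (k _ _ h3.2.2.1) (k _ _ h3.2.2.2)))
  obtain ⟨a, b, c, d, e, rfl⟩ := h.mem_RA.1 hr
  obtain ⟨v, hv⟩ := Finite.injective_iff_surjective.1 hinj (a, b, c, d)
  refine ⟨_, h.rr_mem v.1 v.2.1 v.2.2.1 v.2.2.2 0, ζ v * rr ι 0 0 0 0 e,
    mul_mem (hζ v) (h.rr_mem_ZZ.2 ⟨rfl, rfl, rfl, rfl⟩), ?_⟩
  rw [← mul_assoc, ← hT, hv, h.rr_mul]; simp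

end Emb

namespace Tau

variable {τ : G}

theorem cι (hτ : Tau ι τ) (g : G) : Tau (cι g ι) (g * τ * g⁻¹) where
  mem := by rw [A1_cι]; exact conj_mem_cj.2 hτ.mem
  cube := by rw [conj_pow, hτ.cube]; group
  nZ := by rw [ZZ_cι, ← cj_normalizer]; exact conj_mem_cj.2 hτ.nZ
  nR := by rw [RA_cι, ← cj_normalizer]; exact conj_mem_cj.2 hτ.nR
  n10 := by rw [XX_cι, ← cj_normalizer]; exact conj_mem_cj.2 hτ.n10
  c2 := by
    rw [A2_cι]
    rintro _ ⟨a, ha, rfl⟩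
    exact (hτ.c2 a ha).map (MulAut.conj g).toMonoidHom
  fZ := by
    rw [ZZ_cι]
    rintro _ ⟨a, ha, rfl⟩ hc
    rw [hτ.fZ a ha (Commute.of_map (f := (MulAut.conj g).toMonoidHom) (MulAut.conj g).injective hc),
      map_one]
  fR := by
    rw [RA_cι, ZZ_cι]
    rintro _ ⟨a, ha, rfl⟩ hc
    refine conj_mem_cj.2 (hτ.fR a ha ((conj_mem_cj (g := g)).1 ?_))
    convert hc using 1
    simp only [commutatorElement_def, MulEquiv.coe_toMonoidHom, MulAut.conj_apply]; group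
  gen := by
    rw [AA_cι, ZZ_cι, LL_cι, ← cj_normalizer]
    rintro _ ⟨a, ha, rfl⟩ hn
    obtain ⟨l, hl, i, rfl⟩ := hτ.gen a ha (conj_mem_cj.1 hn)
    exact ⟨_, conj_mem_cj.2 hl, i, by
      simp only [conj_pow, MulEquiv.coe_toMonoidHom, MulAut.conj_apply]; group⟩

theorem memA (hτ : Tau ι τ) : τ ∈ AA ι := A1_le hτ.mem

theorem nL (h : Emb ι) (hτ : Tau ι τ) : τ ∈ normalizer (LL ι : Set G) :=
  mem_normalizer_of_forall fun l hl => by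
    obtain ⟨r, hr, a, ha, rfl⟩ := h.mem_LL.1 hl
    rw [show τ * (r * a) * τ⁻¹ = τ * r * τ⁻¹ * (τ * a * τ⁻¹) by group, (hτ.c2 a ha).mul_inv_cancel]
    exact mul_mem (RA_le_LL (conj_mem_of_mem_normalizer hτ.nR hr)) (A2_le_LL ha)

/-- `s = τ z τ⁻¹` -/
theorem s_mem (hτ : Tau ι τ) : τ * zz ι * τ⁻¹ ∈ ZZ ι := conj_mem_of_mem_normalizer hτ.nZ zz_mem

theorem s_ne_one (h : Emb ι) (τ : G) : τ * zz ι * τ⁻¹ ≠ 1 := h.s_ne_one' τ

theorem s_ne (h : Emb ι) (hτ : Tau ι τ) : τ * zz ι * τ⁻¹ ≠ zz ι :=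
  (h.tau_trans hτ.cube hτ.nZ hτ.fZ).1

theorem s_conj (h : Emb ι) (hτ : Tau ι τ) :
    τ * (τ * zz ι * τ⁻¹) * τ⁻¹ = zz ι * (τ * zz ι * τ⁻¹) := (h.tau_trans hτ.cube hτ.nZ hτ.fZ).2.1

/-- `τ` is transitive on the involutions of `Z` -/
theorem trans (h : Emb ι) (hτ : Tau ι τ) {ζ ξ : G} (h1 : ζ ∈ ZZ ι) (h2 : ζ ≠ 1) (h3 : ξ ∈ ZZ ι)
    (h4 : ξ ≠ 1) : ∃ i : ℕ, τ ^ i * ζ * (τ ^ i)⁻¹ = ξ := by
  obtain ⟨i, rfl⟩ := (h.tau_trans hτ.cube hτ.nZ hτ.fZ).2.2 ζ h1 h2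
  obtain ⟨j, rfl⟩ := (h.tau_trans hτ.cube hτ.nZ hτ.fZ).2.2 ξ h3 h4
  have e : τ ^ (j + 2 * i) * τ ^ i = τ ^ j := by
    rw [← pow_add, show j + 2 * i + i = j + 3 * i by ring, pow_add, pow_mul, hτ.cube, one_pow, mul_one]
  exact ⟨j + 2 * i, by rw [← e]; group⟩

end Tau

end CfsgLib.G2C
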