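import Cfsg.Agent.Lib.G2C.FB
import Cfsg.Agent.Lib.Chev.StSys
import Cfsg.Agent.Lib.Weyl.RtTables
import Cfsg.Agent.Lib.RGD.Bruhat
import Cfsg.Agent.Lib.Core.Basic

/-! Package FC: overgroups of L, normal subgroups of L, short root elements (plans/G2C2.md) -/

set_option autoImplicit false
set_option linter.unusedSectionVars false

namespace CfsgLib.G2C

open Subgroup Cfsg CfsgLib.Tech CfsgLib.StdR2 CfsgLib.Chev CfsgLib.OrthE CfsgLib.ExtraTwo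
  CfsgLib.Co1Rec QuadraticMap
open scoped commutatorElement

variable {F : Type*} [Field F] [Fintype F] {G : Type*} [Group G] [Finite G] {ι : Γ F →* G}

theorem XL {r : ℕ} (hr : r ∈ [4, 6, 7, 8, 9, 10, 11]) : XX ι r ≤ LL ι := by
  simp only [List.mem_cons, List.not_mem_nil, or_false] at hr
  have : LL ι ≤ LL ι := le_rfl
  nth_rw 1 [LL, RA, A2] at this
  simp only [sup_le_iff] at this
  rcases hr with rfl | rfl | rfl | rfl | rfl | rfl | rfl <;> simp only [this]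

theorem simple_cases {B N : Subgroup G} (hB : IsSimpleGroup B) (hn : B ≤ normalizer (N : Set G)) :
    Disjoint N B ∨ B ≤ N :=
  ((normal_subgroupOf_of_le_normalizer hn).eq_bot_or_eq_top).imp subgroupOf_eq_bot.1 subgroupOf_eq_top.1

/-- `W = O₂(Λ)` -/
abbrev WW (ι : Γ F →* G) : Subgroup G := XX ι 10 ⊔ XX ι 11

/-- the long root `A₅` in the centraliser of `x₉(1)` -/
abbrev BB (ι : Γ F →* G) : Subgroup G := XX ι 6 ⊔ XX ι 5

/-- `O₂(C_A(x₉(1)))` -/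
abbrev PP (ι : Γ F →* G) : Subgroup G := XX ι 9 ⊔ XX ι 10 ⊔ XX ι 11

theorem WW_le : WW ι ≤ PP ι := sup_le_sup_right le_sup_right _

theorem PP_le : PP ι ≤ RA ι :=
  sup_le_sup_right (sup_le_sup_right le_sup_right _) _

theorem rr_P (c d e : F) : rr ι 0 0 c d e = x ι 9 c * (x ι 10 d * x ι 11 e) := by simp [rr, x_zero, mul_assoc]

namespace Emb

variable (h : Emb ι)
include h

theorem cj_XX {n : G} {s s' : ℕ} (hs : s < 12) (hs' : s' < 12) (e : ∀ t, n * x ι s t * n⁻¹ ∈ XX ι s') :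
    cj n (XX ι s) = XX ι s' :=
  eq_of_le_of_card_ge (cj_le_iff.2 fun _ ⟨t, e'⟩ => e' ▸ e t) (by rw [card_cj, h.card_XX hs, h.card_XX hs'])

theorem ng_conj' {r s s' : ℕ} (e : r < 12 ∧ s < 12 ∧ Chev.refl Lie.chevG2 r s = s') (u : F) :
    ι (ng r 1) * x ι s u * (ι (ng r 1))⁻¹ = x ι s' u := e.2.2 ▸ h.ng_conj e.1 e.2.1 u

theorem cj_ng3 {r s s' : ℕ} (e : r < 12 ∧ s < 12 ∧ Chev.refl Lie.chevG2 r s = s') :
    cj (ι (ng r 1)) (XX ι s) = XX ι s' :=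
  h.cj_XX e.2.1 (e.2.2 ▸ refl_lt (D := Lie.chevG2) e.1 e.2.1) fun t => h.ng_conj' e t ▸ x_mem ι s' t

theorem bruhat {g : G} (hg : g ∈ AA ι) : ∃ u ∈ LL ι, ∃ n, ∃ u' ∈ LL ι, g = u * n * u' ∧
    ∀ s < 12, ∃ s' < 12, cj n (XX ι s) = XX ι s' := by
  obtain ⟨g, rfl⟩ := hg
  obtain ⟨u, hu, n, -, w, -, ⟨l, -, hl⟩, u', hu', e⟩ :=
    (stSys_nondeg Weyl.rtOKG2 (F := F)).exists_bruhat ((stSys_grp Weyl.rtOKG2).ge g.2)
  replace hu' : u' ∈ (stSys Weyl.rtOKG2 F).U := RGD.StSys.UU_mono _ (fun _ h => h.1) hu'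
  have k : (stSys Weyl.rtOKG2 F).U ≤ ((LL ι).comap ι).map (Lie.chevG2.group F).subtype := by
    rw [stSys_U, posUnipotent_eq, closure_le]
    rintro _ ⟨r, t, hr, rfl⟩
    exact ⟨xg r t, XL ((by decide +kernel : ∀ r < 12, Lie.chevG2.IsPosRoot r → r ∈ [4, 6, 7, 8, 9, 10, 11]) r hr.1 hr)
      (x_mem ι r t), rfl⟩
  obtain ⟨u, k1, rfl⟩ := k hu
  obtain ⟨u', k2, rfl⟩ := k hu'
  refine ⟨ι u, k1, ι (u⁻¹ * g * u'⁻¹), ι u', k2, by simp [mul_assoc], fun s hs => ⟨w ⟨s, hs⟩, (w _).2,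
    h.cj_XX hs (w _).2 fun t => ⟨l ⟨s, hs⟩ * t, ?_⟩⟩⟩
  rw [x, x, ← map_inv, ← map_mul, ← map_mul]
  refine congrArg ι (Subtype.ext (Eq.trans ?_ (hl ⟨s, hs⟩ t)))
  simp [e, xg, stSys_x, mul_assoc]

theorem NL_le {g : G} (hg : g ∈ AA ι) (hn : g ∈ normalizer (LL ι : Set G)) : g ∈ normalizer (ZZ ι : Set G) :=
  mem_normalizer_of_forall fun ζ hζ => h.centL (mul_mem (mul_mem hg (LL_le (ZZ_le_LL hζ))) (inv_mem hg))
    fun l hl => by
      have := (h.LZ (conj_mem_of_mem_normalizer' hn hl) hζ).eq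
      calc _ = g * (ζ * (g⁻¹ * l * g)) * g⁻¹ := by group
        _ = _ := by rw [← this]; group

theorem max_L {M : Subgroup G} (h1 : LL ι ≤ M) (h2 : M ≤ AA ι) :
    M ≤ normalizer (ZZ ι : Set G) ∨ M = AA ι := by
  by_cases hM : ∀ r < 12, XX ι r ≤ M → r ∈ [4, 6, 7, 8, 9, 10, 11]
  · refine .inl fun g hg => h.NL_le (h2 hg) ?_
    obtain ⟨u, hu, n, u', hu', rfl, k⟩ := h.bruhat (h2 hg)
    have hn := (mul_mem_cancel_left (h1 hu)).1 ((mul_mem_cancel_right (h1 hu')).1 hg)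
    have k' : ∀ s ∈ [4, 6, 7, 8, 9, 10, 11], cj n (XX ι s) ≤ LL ι := fun s hs => by
      obtain ⟨s', hs', e⟩ := k s ((by decide : ∀ s ∈ [4, 6, 7, 8, 9, 10, 11], s < 12) s hs)
      rw [e]
      exact XL (hM s' hs' (e ▸ (cj_mono n ((XL hs).trans h1)).trans (cj_eq_of_mem hn).le))
    refine mul_mem (mul_mem (le_normalizer hu) (mem_normalizer_of_cj_le ?_)) (le_normalizer hu')
    nth_rw 1 [LL, RA, A2]
    simp only [cj_sup, sup_le_iff]
    refine ⟨⟨⟨⟨⟨?_, ?_⟩, ?_⟩, ?_⟩, ?_⟩, ?_, ?_⟩ <;> exact k' _ (by decide)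
  have rf : ∀ r s s', r < 12 ∧ s < 12 ∧ Chev.refl Lie.chevG2 r s = s' → XX ι r ≤ M → XX ι (11 - r) ≤ M →
      XX ι s ≤ M → XX ι s' ≤ M := fun r s s' e a b c => by
    have : ι (ng r 1) ∈ M := by
      rw [ng_eq ι e.1]
      exact mul_mem (mul_mem (a (x_mem ..)) (b (x_mem ..))) (a (x_mem ..))
    exact h.cj_ng3 e ▸ (cj_mono _ c).trans (cj_eq_of_mem this).le
  have l : ∀ r ∈ [4, 6, 7, 8, 9, 10, 11], XX ι r ≤ M := fun r hr => (XL hr).trans h1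
  have l4 := l 4 (by decide)
  have l6 := l 6 (by decide)
  have l7 := l 7 (by decide)
  have k1 : XX ι 1 ≤ M → XX ι 5 ≤ M := rf 7 1 5 (by decide) l7 l4
  have k0 : XX ι 0 ≤ M → XX ι 5 ≤ M := fun e => k1 (rf 11 6 1 (by decide) (l 11 (by decide)) e l6)
  have k2 : XX ι 2 ≤ M → XX ι 5 ≤ M := fun e => k0 (rf 9 10 0 (by decide) (l 9 (by decide)) e (l 10 (by decide)))
  have k3 : XX ι 3 ≤ M → XX ι 5 ≤ M := fun e => k2 (rf 7 3 2 (by decide) l7 l4 e)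
  push Not at hM
  obtain ⟨r, hr, e, e'⟩ := hM
  have l5 : XX ι 5 ≤ M := by
    rcases (by decide : ∀ r < 12, r ∉ [4, 6, 7, 8, 9, 10, 11] → r = 0 ∨ r = 1 ∨ r = 2 ∨ r = 3 ∨ r = 5) r hr e' with
      rfl | rfl | rfl | rfl | rfl
    exacts [k0 e, k1 e, k2 e, k3 e, e]
  have l1 := rf 7 5 1 (by decide) l7 l4 l5
  have l3 := rf 6 4 3 (by decide) l6 l5 l4
  refine .inr (h2.antisymm (AA_le fun r hr => ?_))
  rcases (by decide : ∀ r < 12, r ∈ [4, 6, 7, 8, 9, 10, 11] ∨ r = 0 ∨ r = 1 ∨ r = 2 ∨ r = 3 ∨ r = 5) r hr with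
    e | rfl | rfl | rfl | rfl | rfl
  exacts [l r e, rf 6 1 0 (by decide) l6 l5 l1, l1, rf 7 3 2 (by decide) l7 l4 l3, l3, l5]

/-- `L` is the derived group of `N_A(Z)` -/
theorem comm_NZ {a b : G} (ha : a ∈ AA ι) (ha' : a ∈ normalizer (ZZ ι : Set G)) (hb : b ∈ AA ι)
    (hb' : b ∈ normalizer (ZZ ι : Set G)) : ⁅a, b⁆ ∈ LL ι := by
  obtain ⟨τ, hτ⟩ := h.exists_tau
  obtain ⟨l, hl, i, rfl⟩ := hτ.gen a ha ha'
  obtain ⟨m, hm, j, rfl⟩ := hτ.gen b hb hb'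
  have k := fun i => pow_mem (hτ.nL h) i
  have e : τ ^ i * τ ^ j = τ ^ j * τ ^ i := pow_mul_comm τ i j
  convert mul_mem (mul_mem (mul_mem hl (conj_mem_of_mem_normalizer (k i) hm))
    (conj_mem_of_mem_normalizer (k j) (inv_mem hl))) (inv_mem hm) using 1
  generalize τ ^ i = σ at e
  generalize τ ^ j = ρ at e
  calc _ = l * σ * m * (ρ * σ⁻¹) * l⁻¹ * ρ⁻¹ * m⁻¹ := by rw [commutatorElement_def]; group
    _ = _ := by rw [← (Commute.inv_left e).eq]; group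

theorem inv_mem_L {a : G} (ha : a ∈ AA ι) (ha' : a ∈ normalizer (ZZ ι : Set G)) (h2 : a * a = 1) : a ∈ LL ι := by
  obtain ⟨τ, hτ⟩ := h.exists_tau
  obtain ⟨l, hl, i, e⟩ := hτ.gen a ha ha'
  have k := pow_mem (hτ.nL h) i
  have e3 : τ ^ i * τ ^ i * τ ^ i = 1 := by rw [← pow_three', ← pow_mul, mul_comm, pow_mul, hτ.cube, one_pow]
  generalize τ ^ i = σ at *
  convert mul_mem (mul_mem hl (conj_mem_of_mem_normalizer k hl)) (conj_mem_of_mem_normalizer (mul_mem k k) hl) using 1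
  calc a = a * a * a * (σ * σ * σ)⁻¹ := by rw [h2, e3, one_mul, inv_one, mul_one]
    _ = _ := by rw [e]; group

/-- the elements with first coordinates zero -/
def PS (s : F) : Subgroup G where
  carrier := {g | ∃ c d e, g = rr ι 0 0 (s * c) d e}
  one_mem' := ⟨0, 0, 0, by simp [rr, x_zero]⟩
  mul_mem' := by
    rintro _ _ ⟨c, d, e, rfl⟩ ⟨c', d', e', rfl⟩
    exact ⟨c + c', d + d', e + e', by rw [h.rr_mul]; simp [mul_add]⟩
  inv_mem' := by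
    rintro _ ⟨c, d, e, rfl⟩
    exact ⟨c, d, e, inv_eq_of_mul_eq_one_left (by rw [h.rr_mul]; simp [h.add_self, rr, x_zero])⟩

theorem WW_le_PS (s : F) : WW ι ≤ h.PS s :=
  sup_le (fun _ ⟨t, e⟩ => ⟨0, t, 0, by simp [e, rr, x_zero]⟩) fun _ ⟨t, e⟩ => ⟨0, 0, t, by simp [e, rr, x_zero]⟩

theorem mem_WW {g : G} (hg : g ∈ WW ι) : ∃ d e, g = rr ι 0 0 0 d e := by
  obtain ⟨c, d, e, k⟩ := h.WW_le_PS 0 hg
  exact ⟨d, e, by rwa [zero_mul] at k⟩

theorem mem_PP {g : G} : g ∈ PP ι ↔ ∃ c d e, g = rr ι 0 0 c d e := by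
  refine ⟨fun hg => ?_, fun ⟨c, d, e, k⟩ => ?_⟩
  · rw [PP, sup_assoc] at hg
    obtain ⟨c, d, e, k⟩ := sup_le (c := h.PS 1) (fun _ ⟨t, e⟩ => ⟨t, 0, 0, by simp [e, rr, x_zero]⟩) (h.WW_le_PS 1) hg
    exact ⟨_, d, e, k⟩
  · rw [k, rr_P, PP, sup_assoc]
    exact mul_mem_sup (x_mem ..) (mul_mem_sup (x_mem ..) (x_mem ..))

theorem card_PP : Nat.card (PP ι) = 64 := by
  rw [← Nat.card_congr (Equiv.ofBijective (fun p : F × F × F => (⟨_, h.mem_PP.2 ⟨p.1, p.2.1, p.2.2, rfl⟩⟩ : PP ι))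
    ⟨fun p q e => have := (h.rr_inj (congrArg Subtype.val e)).2.2; Prod.ext this.1 (Prod.ext this.2.1 this.2.2),
      fun g => have ⟨c, d, e, k⟩ := h.mem_PP.1 g.2; ⟨(c, d, e), Subtype.ext k.symm⟩⟩)]
  simp [h.hF]

theorem BB_eq : BB ι = A1 (G2C.cι (ι (ng 10 1)) ι) := by
  rw [A1_cι, A1, cj_sup, h.cj_ng3 (s' := 6) (by decide), h.cj_ng3 (s' := 5) (by decide)]

theorem n6_mem : ι (ng 6 1) ∈ BB ι := by
  rw [ng_eq ι (by decide)]
  exact mul_mem (mul_mem_sup (x_mem ..) (x_mem ..)) (mem_sup_left (x_mem ..))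

theorem BB_norm {Y : Subgroup G} (h1 : ZZ ι ≤ Y) (h2 : Y ≤ RA ι) (h3 : cj (ι (ng 6 1)) Y = Y) :
    BB ι ≤ normalizer (Y : Set G) := by
  have : XX ι 6 ≤ normalizer (Y : Set G) := fun r hr => mem_normalizer_of_forall fun y hy =>
    (mul_mem_cancel_right (inv_mem hy)).1 (h1 (h.commR
      (mem_sup_left (mem_sup_left (mem_sup_left (mem_sup_left hr)))) (h2 hy)))
  refine sup_le this ?_
  rw [← h.cj_ng3 (r := 6) (s := 6) (by decide), ← h3, ← cj_normalizer]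
  exact cj_mono _ this

theorem BW : BB ι ≤ normalizer (WW ι : Set G) := h.BB_norm le_sup_right (WW_le.trans PP_le) (by
  rw [cj_sup, h.cj_ng3 (s' := 11) (by decide), h.cj_ng3 (s' := 10) (by decide), sup_comm])

theorem BP : BB ι ≤ normalizer (PP ι : Set G) := h.BB_norm le_sup_right PP_le (by
  rw [cj_sup, cj_sup, h.cj_ng3 (s' := 9) (by decide), h.cj_ng3 (s' := 11) (by decide), h.cj_ng3 (s' := 10) (by decide),
    sup_right_comm])

theorem card_BB : Nat.card (BB ι) = 60 := h.BB_eq ▸ (h.cι _).cardA1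

theorem PB : Disjoint (PP ι) (BB ι) := (simple_cases (h.BB_eq ▸ (h.cι _).simpleA1) h.BP).resolve_right fun e => by
  have := card_dvd_of_le e
  rw [h.card_BB, h.card_PP] at this
  omega

theorem cent_PB {a : G} : a ∈ AA ι ∧ Commute a (x ι 9 1) ↔ a ∈ PP ι ⊔ BB ι := by rw [h.cent_x9, sup_assoc]

theorem c6 (d : F) : ⁅x ι 6 1, x ι 10 d⁆ = x ι 11 d := by
  simpa [rr, x_zero] using h.rr_comm 1 0 0 0 0 0 0 0 d 0

theorem c5 (d : F) : ⁅x ι 5 1, x ι 11 d⁆ = x ι 10 d := by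
  have := congrArg (fun y => ι (ng 6 1) * y * (ι (ng 6 1))⁻¹) (h.c6 d)
  simp only [conjugate_commutatorElement] at this
  rwa [h.ng_conj' (s' := 5) (by decide), h.ng_conj' (s' := 11) (by decide), h.ng_conj' (s' := 10) (by decide)] at this

/-- the centre of `C_A(x₉(1))` -/
theorem cen_short {y : G} (hy : y ∈ AA ι) (hc : ∀ a ∈ PP ι ⊔ BB ι, Commute y a) : y ∈ XX ι 9 := by
  obtain ⟨p, hp, β, hβ, rfl⟩ := (Core.mem_sup_of_le_normalizer_left h.BP).1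
    (h.cent_PB.1 ⟨hy, hc _ (mem_sup_left (mem_sup_left (mem_sup_left (x_mem ..))))⟩)
  obtain ⟨c, d, e, rfl⟩ := h.mem_PP.1 hp
  have hB : Disjoint (centralizer (WW ι : Set G)) (BB ι) :=
    (simple_cases (h.BB_eq ▸ (h.cι _).simpleA1) (h.BW.trans (Core.normalizer_le_normalizer_centralizer _))).resolve_right
      fun k => h.zz_ne ((h.c6 1).symm.trans (commutatorElement_eq_one_iff_mul_comm.2
        (k (mem_sup_left (x_mem ..)) _ (mem_sup_left (x_mem ..))).symm))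
  obtain rfl : β = 1 := disjoint_def.1 hB (fun w hw => by
    have k := hc w (mem_sup_left (WW_le hw))
    obtain ⟨d', e', rfl⟩ := h.mem_WW hw
    have k' : Commute (rr ι 0 0 c d e) (rr ι 0 0 0 d' e') := by
      rw [← commutatorElement_eq_one_iff_commute, h.rr_comm]; simp [x_zero]
    simpa using (k'.inv_left.mul_left k).eq.symm) hβ
  rw [mul_one] at hc ⊢
  have e1 := commutatorElement_eq_one_iff_commute.2 (hc _ (mem_sup_right (mem_sup_left (x_mem ι 6 1))))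
  rw [show x ι 6 1 = rr ι 1 0 0 0 0 by simp [rr, x_zero], h.rr_comm, h.x_eq_one (by decide)] at e1
  obtain rfl : d = 0 := by simpa using e1
  have e2 := (hc _ (mem_sup_right h.n6_mem)).symm.mul_inv_cancel
  nth_rw 1 [rr_P] at e2
  rw [← conj_mul, ← conj_mul, h.ng_conj' (s' := 9) (by decide), h.ng_conj' (s' := 11) (by decide),
    h.ng_conj' (s' := 10) (by decide), x_zero, one_mul, ← mul_one (x ι 10 e), ← x_zero ι 11, ← rr_P] at e2
  obtain rfl : e = 0 := (h.rr_inj e2).2.2.2.1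
  exact ⟨c, by simp [rr, x_zero]⟩

omit h in
theorem AA_cι_of_mem {b : G} (hb : b ∈ AA ι) : AA (G2C.cι b ι) = AA ι := by rw [AA_cι, cj_eq_of_mem hb]

theorem gen_top {a : G} {M : Subgroup G} (ha : a ∈ AA ι) (o : orderOf a = 2) (hZ : a ∉ ZZ ι)
    (h1 : LL ι ≤ M) (h2 : ∀ b ∈ AA ι, Commute b a → b ∈ M) : AA ι ≤ M := by
  rcases h.max_L (le_inf h1 LL_le) inf_le_right with e | e
  swap
  · exact e.ge.trans inf_le_left
  have k : ∀ b ∈ AA ι, Commute b a → b ∈ normalizer (ZZ ι : Set G) := fun b hb hc => e ⟨h2 b hb hc, hb⟩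
  refine (hZ ?_).elim
  rcases h.classes ha o with ⟨b, hb, rfl⟩ | ⟨b, hb, rfl⟩
  · have h' := h.cι b
    have hA := AA_cι_of_mem hb
    have : LL (G2C.cι b ι) = LL ι := eq_of_le_of_card_ge (by
      rw [← h'.perfL, commutator_le]
      exact fun l hl m hm => h.comm_NZ (hA.le (LL_le hl)) (k l (hA.le (LL_le hl)) (h'.LZ hl zz_mem))
        (hA.le (LL_le hm)) (k m (hA.le (LL_le hm)) (h'.LZ hm zz_mem))) (by rw [h.cardL, h'.cardL])
    exact h.centL ha fun l hl => (h'.LZ (this.ge hl) zz_mem).symm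
  · have h' := h.cι b
    have hA := AA_cι_of_mem hb
    have k' : ∀ r, XX (G2C.cι b ι) r ≤ PP (G2C.cι b ι) ⊔ BB (G2C.cι b ι) → XX (G2C.cι b ι) r ≤ LL ι :=
      fun r e y hy => have e' := h'.cent_PB.2 (e hy)
        h.inv_mem_L (hA.le e'.1) (k y (hA.le e'.1) e'.2) (have ⟨t, e⟩ := hy; e ▸ h'.x_sq r t)
    have : PP (G2C.cι b ι) ⊔ BB (G2C.cι b ι) ≤ LL ι := by
      simp only [sup_le_iff]
      refine ⟨⟨⟨?_, ?_⟩, ?_⟩, ?_, ?_⟩ <;> refine k' _ ?_ <;>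
        simp only [le_sup_left, le_sup_right, le_sup_of_le_left, le_sup_of_le_right, le_refl]
    exact (eq_of_le_of_card_ge (fun ζ hζ => h'.cen_short (hA.ge (LL_le (ZZ_le_LL hζ))) fun y hy =>
      (h.LZ (this hy) hζ).symm) (by rw [h.cardZ, h'.card_XX (by decide)])).ge (x_mem _ 9 1)

theorem normal_le_Z {B : Subgroup G} (h1 : B ≤ LL ι) (h2 : LL ι ≤ normalizer (B : Set G))
    (h3 : ∀ b ∈ B, b * b = 1 → b ∈ ZZ ι) : B ≤ ZZ ι := by
  have k0 : ∀ d e, rr ι 0 0 0 d e ∈ B → d = 0 := fun d e hb =>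
    (h.rr_mem_ZZ.1 (h3 _ hb (by rw [h.rr_mul]; simp [h.add_self, rr, x_zero]))).2.2.2
  have k1 : ∀ s a b c d e, rr ι a b c d e ∈ B →
      ∃ e', rr ι 0 (s * a) (s ^ 2 * a) (s ^ 3 * a + s ^ 2 * b + s * c) e' ∈ B := fun s a b c d e hb => by
    have := h.charP
    obtain ⟨e', k⟩ := h.x7_rr s a b c d e
    have := mul_mem hb (conj_mem_of_mem_normalizer (h2 (XL (r := 7) (by decide) (x_mem ι 7 s))) hb)
    rw [k, h.rr_mul, h.add_self, CharTwo.add_cancel_left, CharTwo.add_cancel_left, add_assoc d, add_assoc d,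
      CharTwo.add_cancel_left] at this
    exact ⟨_, this⟩
  obtain ⟨ω, hω, -⟩ := h.exists_ω
  have k2 : ∀ b c d e, rr ι 0 b c d e ∈ B → b = 0 ∧ c = 0 := fun b c d e hb => by
    have k : ∀ s, s ^ 2 * b + s * c = 0 := fun s => by
      obtain ⟨e', k⟩ := k1 s _ _ _ _ _ hb
      simp only [mul_zero, zero_add] at k
      exact k0 _ _ k
    have e1 : b = 0 := by
      linear_combination k ω + ω * k 1 + hω * b - h.add_self (ω ^ 2 * b + ω * b + ω * c)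
    exact ⟨e1, by simpa [e1] using k 1⟩
  have k3 : ∀ r ∈ B, r ∈ RA ι → r ∈ ZZ ι := fun r hb hr => by
    obtain ⟨a, b, c, d, e, rfl⟩ := h.mem_RA.1 hr
    obtain ⟨e', k⟩ := k1 1 _ _ _ _ _ hb
    obtain rfl : a = 0 := by simpa using (k2 _ _ _ _ k).1
    obtain ⟨rfl, rfl⟩ := k2 _ _ _ _ hb
    exact h.rr_mem_ZZ.2 ⟨rfl, rfl, rfl, k0 _ _ hb⟩
  refine fun l hl => k3 l hl (h.cent_bar (h1 hl) fun r hr => k3 _ ?_ ?_)
  · rw [commutatorElement_def, mul_assoc, mul_assoc, ← mul_assoc r]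
    exact mul_mem hl (conj_mem_of_mem_normalizer (h2 (RA_le_LL hr)) (inv_mem hl))
  · exact mul_mem (conj_mem_of_mem_normalizer (h.LR (h1 hl)) hr) (inv_mem hr)

theorem card_short {a : G} (ha : Short ι a) :
    Nat.card (AA ι ⊓ centralizer {a} : Subgroup G) = 3840 := by
  obtain ⟨b, hb, rfl⟩ := ha
  rw [← cj_centralizer_singleton, ← cj_eq_of_mem hb, ← cj_inf, card_cj,
    show AA ι ⊓ centralizer {x ι 9 1} = BB ι ⊔ PP ι from Subgroup.ext fun a => by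
      rw [sup_comm, ← h.cent_PB, mem_inf, mem_centralizer_singleton_iff]; rfl,
    Core.card_sup_of_le_normalizer_of_disjoint h.BP h.PB.symm.eq_bot, h.card_BB, h.card_PP]

theorem comm_x9 {l : G} (hl : l ∈ WW ι ⊔ BB ι) (c : F) : Commute l (x ι 9 c) := by
  have k : ∀ r ∈ [10, 11, 6, 5], XX ι r ≤ centralizer {x ι 9 c} := fun r hr _ ⟨t, e⟩ =>
    mem_centralizer_singleton_iff.2 (e ▸ (h.x_commute t c ((by decide : ∀ r ∈ [10, 11, 6, 5], r < 12 ∧ 9 < 12 ∧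
      r + 9 ≠ 11 ∧ ∀ c ∈ Lie.chevG2.commTerms r 9, c.2.1 % 2 = 0) r hr)).eq)
  exact mem_centralizer_singleton_iff.1 (sup_le (sup_le (k _ (by decide)) (k _ (by decide)))
    (sup_le (k _ (by decide)) (k _ (by decide))) hl)

theorem short_data : ∃ Λ : Subgroup G, Λ ≤ AA ι ∧ ⁅Λ, Λ⁆ = Λ ∧ (∀ l ∈ Λ, Commute l (x ι 9 1)) ∧
    ∃ a ∈ Λ, ∃ b ∈ Λ, Commute a (zz ι) ∧ Commute b (zz ι) ∧ ⁅a, b⁆ = zz ι := by
  have m10 : ∀ t, x ι 10 t ∈ WW ι ⊔ BB ι := fun t => mem_sup_left (mem_sup_left (x_mem ..))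
  have m6 : x ι 6 1 ∈ WW ι ⊔ BB ι := mem_sup_right (mem_sup_left (x_mem ..))
  refine ⟨WW ι ⊔ BB ι, sup_le (sup_le (XX_le _) (XX_le _)) (sup_le (XX_le _) (XX_le _)), le_antisymm
    (commutator_le.2 fun a ha b hb => mul_mem (mul_mem (mul_mem ha hb) (inv_mem ha)) (inv_mem hb))
    (sup_le (sup_le ?_ ?_) ?_), fun l hl => h.comm_x9 hl 1, _, m6, _, m10 1,
    h.x_commute _ _ (by decide), h.x_commute _ _ (by decide), h.c6 1⟩
  · exact fun _ ⟨t, e⟩ => e ▸ h.c5 t ▸ commutator_mem_commutator (mem_sup_right (mem_sup_right (x_mem ..)))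
      (mem_sup_left (mem_sup_right (x_mem ..)))
  · exact fun _ ⟨t, e⟩ => e ▸ h.c6 t ▸ commutator_mem_commutator m6 (m10 t)
  · refine le_trans (ge_of_eq ?_) (commutator_mono le_sup_right le_sup_right)
    rw [h.BB_eq]
    exact (h.cι _).perfA1

theorem short_mul : Short ι (x ι 9 1 * zz ι) := ⟨x ι 8 1, XX_le 8 (x_mem ..), by
  have e : ⁅x ι 8 1, x ι 9 1⁆ = zz ι := by simpa [rr, x_zero, zz] using h.rr_comm 0 1 0 0 0 0 0 1 0 0
  rw [(h.LZ (XL (r := 9) (by decide) (x_mem ..)) zz_mem).eq, ← e, commutatorElement_def, inv_mul_cancel_right]⟩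

theorem x9_not_comm {a b : G} (ha : a ∈ PP ι ⊔ BB ι) (hb : b ∈ PP ι ⊔ BB ι) : ⁅a, b⁆ ≠ x ι 9 1 := fun e => by
  have k : ∀ a ∈ PP ι ⊔ BB ι, ∃ c, ∃ l ∈ WW ι ⊔ BB ι, a = x ι 9 c * l := fun a ha => by
    obtain ⟨p, hp, β, hβ, rfl⟩ := (Core.mem_sup_of_le_normalizer_left h.BP).1 ha
    obtain ⟨c, d, e, rfl⟩ := h.mem_PP.1 hp
    exact ⟨c, _, mul_mem_sup (mul_mem_sup (x_mem ι 10 d) (x_mem ι 11 e)) hβ, by rw [rr_P, mul_assoc]⟩
  obtain ⟨c, l, hl, rfl⟩ := k a ha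
  obtain ⟨d, m, hm, rfl⟩ := k b hb
  have hk := mul_mem (mul_mem hl hm) (inv_mem hl)
  have e' : x ι 9 1 = l * m * l⁻¹ * m⁻¹ := by
    calc _ = x ι 9 c * (l * x ι 9 d) * m * l⁻¹ * (x ι 9 c)⁻¹ * m⁻¹ * (x ι 9 d)⁻¹ := by
          rw [← e, commutatorElement_def]; group
      _ = x ι 9 c * x ι 9 d * (l * m * l⁻¹ * (x ι 9 c)⁻¹) * m⁻¹ * (x ι 9 d)⁻¹ := by rw [(h.comm_x9 hl d).eq]; group
      _ = x ι 9 d * (l * m * l⁻¹ * m⁻¹) * (x ι 9 d)⁻¹ := by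
          rw [(h.comm_x9 hk c).inv_right.eq, ← x_add, add_comm, x_add]; group
      _ = _ := (h.comm_x9 (mul_mem hk (inv_mem hm)) d).symm.mul_inv_cancel
  obtain ⟨w, hw, β, hβ, e1⟩ := (Core.mem_sup_of_le_normalizer_left h.BW).1 (e' ▸ mul_mem hk (inv_mem hm))
  obtain rfl : β = 1 := disjoint_def.1 h.PB ((mul_mem_cancel_left (WW_le hw)).1
    (e1 ▸ mem_sup_left (mem_sup_left (x_mem ..)))) hβ
  obtain ⟨d, e, rfl⟩ := h.mem_WW hw
  rw [mul_one, show x ι 9 1 = rr ι 0 0 1 0 0 by simp [rr, x_zero]] at e1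
  exact zero_ne_one (h.rr_inj e1).2.2.1

theorem short_not_comm {s a b : G} (hs : Short ι s) (ha : a ∈ AA ι) (hb : b ∈ AA ι)
    (h1 : Commute a s) (h2 : Commute b s) : ⁅a, b⁆ ≠ s := by
  obtain ⟨c, hc, rfl⟩ := hs
  have h' := h.cι c
  exact h'.x9_not_comm (h'.cent_PB.1 ⟨(AA_cι_of_mem hc).ge ha, h1⟩) (h'.cent_PB.1 ⟨(AA_cι_of_mem hc).ge hb, h2⟩)

/-- a subgroup of `A` isomorphic to `L` (through another embedding `κ`) that centralises an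
involution: the two long root groups are conjugate in `A` -/
theorem exists_cj_Z {κ : Γ F →* G} (k : Emb κ) (hL : LL κ ≤ AA ι) :
    ∃ a ∈ AA ι, cj a (ZZ ι) = ZZ κ ∧ cj a (LL ι) = LL κ := by
  have hz := hL (ZZ_le_LL zz_mem)
  rcases h.classes hz k.orderOf_zz with ⟨a, ha, e⟩ | e
  · have h' := h.cι a
    have hA := AA_cι_of_mem ha
    have e1 : LL κ = LL (G2C.cι a ι) := eq_of_le_of_card_ge (fun l hl => h'.cent_Z (hA.ge (hL hl)) zz_mem h'.zz_ne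
      (by rw [zz_cι, ← e]; exact k.LZ hl zz_mem)) (by rw [k.cardL, h'.cardL])
    refine ⟨a, ha, ?_, by rw [e1, LL_cι]⟩
    rw [← ZZ_cι]
    exact (eq_of_le_of_card_ge (fun ζ hζ => h'.centL (hA.ge (hL (ZZ_le_LL hζ))) fun l hl =>
      (k.LZ (e1.ge hl) hζ).symm) (by rw [k.cardZ, h'.cardZ])).symm
  · have := card_le_of_le (le_inf hL fun l hl => mem_centralizer_singleton_iff.2 (k.LZ hl zz_mem).eq)
    rw [h.card_short e, k.cardL] at this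
    omega

end Emb

end CfsgLib.G2C
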