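import Cfsg.Agent.Lib.G2C.FB
import Cfsg.Agent.S2121

/-! Package FD: automorphisms (plans/G2C2.md) -/

set_option autoImplicit false
set_option linter.unusedSectionVars false
set_option Elab.async false

namespace CfsgLib.G2C

open Subgroup Cfsg CfsgLib.Tech CfsgLib.StdR2 CfsgLib.Chev CfsgLib.OrthE CfsgLib.ExtraTwo
  CfsgLib.Co1Rec QuadraticMap
open scoped commutatorElement

variable {F : Type*} [Field F] [Fintype F] {G : Type*} [Group G] [Finite G] {ι : Γ F →* G}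

theorem mem_KA {g : G} : g ∈ KK ι ⊔ AA ι ↔ ∃ k ∈ KK ι, ∃ a ∈ AA ι, g = k * a := by
  have hn : KK ι ≤ normalizer (AA ι : Set G) := centralizer_le_normalizer _
  rw [← SetLike.mem_coe, coe_mul_of_left_le_normalizer_right _ _ hn]
  exact ⟨fun ⟨k, hk, a, ha, e⟩ => ⟨k, hk, a, ha, e.symm⟩, fun ⟨k, hk, a, ha, e⟩ => ⟨k, hk, a, ha, e.symm⟩⟩

namespace Emb

variable (h : Emb ι)
include h

/-- the automorphisms induced by the normaliser -/
theorem fd_aut : ∃ φ : normalizer (AA ι : Set G) →* MulAut (Γ F),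
    ∀ a g, ι (φ a g) = a * ι g * (a : G)⁻¹ := by
  let e : Γ F ≃* AA ι := MonoidHom.ofInjective h.inj
  refine ⟨(MulAut.congr e).symm.toMonoidHom.comp (AA ι).normalizerMonoidHom, fun a g => ?_⟩
  have h1 : ∀ y : AA ι, ι (e.symm y) = y := fun y => by
    obtain ⟨y, rfl⟩ := e.surjective y
    rw [e.symm_apply_apply]; rfl
  exact (h1 ((AA ι).normalizerMonoidHom a (e g))).trans rfl

theorem fd_inn {φ : normalizer (AA ι : Set G) →* MulAut (Γ F)}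
    (hφ : ∀ a g, ι (φ a g) = a * ι g * (a : G)⁻¹) (a : normalizer (AA ι : Set G)) :
    φ a ∈ Inn (Γ F) ↔ (a : G) ∈ KK ι ⊔ AA ι := by
  rw [mem_KA]
  constructor
  · rintro ⟨y, e⟩
    refine ⟨a * (ι y)⁻¹, mem_KK.2 ?_, ι y, ⟨y, rfl⟩, by group⟩
    rintro _ ⟨g, rfl⟩
    have h1 := hφ a (y⁻¹ * g * y)
    rw [← e, MulAut.conj_apply, show y * (y⁻¹ * g * y) * y⁻¹ = g by group, map_mul, map_mul,
      map_inv] at h1
    calc a * (ι y)⁻¹ * ι g = a * ((ι y)⁻¹ * ι g * ι y) * (a : G)⁻¹ * (a * (ι y)⁻¹) := by group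
      _ = _ := by rw [← h1]
  · rintro ⟨k, hk, _, ⟨y, rfl⟩, e⟩
    refine ⟨y, MulEquiv.ext fun g => h.inj ?_⟩
    rw [hφ, e, MulAut.conj_apply]
    have h1 := comm_KA hk (a := ι (y * g * y⁻¹)) ⟨_, rfl⟩
    calc ι (y * g * y⁻¹) = k * ι (y * g * y⁻¹) * k⁻¹ := by rw [h1.eq]; group
      _ = _ := by rw [map_mul, map_mul, map_inv]; group

theorem fd_out : Nat.card (Out (Γ F)) = 2 := by
  have := h.charP
  exact Cfsg.Agent.S2121.result 2 2 h.hF (by norm_num)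

theorem fd_hom : ∃ ψ : normalizer (AA ι : Set G) →* Out (Γ F), ∀ a, ψ a = 1 ↔ (a : G) ∈ KK ι ⊔ AA ι := by
  obtain ⟨φ, hφ⟩ := h.fd_aut
  exact ⟨(QuotientGroup.mk' _).comp φ, fun a => (QuotientGroup.eq_one_iff _).trans (h.fd_inn hφ a)⟩

theorem fd_two {u v : Out (Γ F)} (hu : u ≠ 1) (hv : v ≠ 1) : u = v := by
  obtain ⟨w, -, hw⟩ := (Nat.card_eq_two_iff' (1 : Out (Γ F))).1 h.fd_out
  exact (hw u hu).trans (hw v hv).symm

theorem index_two {a b : G} (ha : a ∈ normalizer (AA ι : Set G)) (hb : b ∈ normalizer (AA ι : Set G)) :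
    a ∈ KK ι ⊔ AA ι ∨ b ∈ KK ι ⊔ AA ι ∨ a * b ∈ KK ι ⊔ AA ι := by
  obtain ⟨ψ, hψ⟩ := h.fd_hom
  by_contra hc
  push Not at hc
  have h1 : ψ ⟨a, ha⟩ ≠ 1 := fun e => hc.1 ((hψ _).1 e)
  have h2 : ψ ⟨b, hb⟩ ≠ 1 := fun e => hc.2.1 ((hψ _).1 e)
  have h3 : ψ (⟨a, ha⟩ * ⟨b, hb⟩) ≠ 1 := fun e => hc.2.2 ((hψ _).1 e)
  have h4 := h.fd_two h3 h1
  rw [map_mul, mul_eq_left] at h4
  exact h2 h4

/-- no element of `A` induces the field automorphism on a root group -/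
theorem fd_key {r : ℕ} (hr : r = 11 ∨ r = 9) {y : G} (hy : y ∈ AA ι)
    (e : ∀ t, y * x ι r (t ^ 2) * y⁻¹ = x ι r t) : False := by
  have h1 : Commute y (x ι r 1) := by
    have := e 1
    rw [one_pow, mul_inv_eq_iff_eq_mul] at this
    exact this
  have h2 : ∀ t, Commute y (x ι r t) := by
    rcases hr with rfl | rfl
    · exact fun t => h.LZ (h.cent_Z hy zz_mem h.zz_ne h1) (x_mem ι 11 t)
    · intro t
      have h3 := h.cent_x9.1 ⟨hy, h1⟩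
      have h4 : XX ι 9 ⊔ XX ι 10 ⊔ XX ι 11 ⊔ XX ι 6 ⊔ XX ι 5 ≤ centralizer {x ι 9 t} := by
        refine sup_le (sup_le (sup_le (sup_le ?_ ?_) ?_) ?_) ?_ <;> rintro _ ⟨u, rfl⟩ <;>
          rw [mem_centralizer_singleton_iff]
        · rw [← x_add, ← x_add, add_comm]
        all_goals exact (h.x_commute u t (by decide +kernel)).eq
      exact mem_centralizer_singleton_iff.1 (h4 h3)
  obtain ⟨ω, hω, -⟩ := h.exists_ω
  have h3 := e ω
  rw [(h2 _).eq, mul_inv_cancel_right] at h3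
  have h4 : x ι r (ω ^ 2 + ω) = 1 := by rw [x_add, h3, h.x_sq]
  rw [h.x_eq_one (by omega)] at h4
  rw [h4, zero_add] at hω
  exact one_ne_zero hω

/-- an element of `N(A)` outside `KA` induces the field automorphism up to an inner one -/
theorem fd_field {a : G} (ha : a ∈ normalizer (AA ι : Set G)) (hn : a ∉ KK ι ⊔ AA ι) :
    ∃ y ∈ AA ι, ∀ r t, y * x ι r (t ^ 2) * y⁻¹ = a * x ι r t * a⁻¹ := by
  obtain ⟨φ, hφ⟩ := h.fd_aut
  have := h.charP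
  let Θ : MulAut (Γ F) := Stein.groupEquiv Lie.chevG2 (frobeniusEquiv F 2)
  have hΘ : ∀ r t, Θ (xg r t) = xg r (t ^ 2) := fun r t =>
    ChevAut.groupEquiv_xG' (D := Lie.chevG2) (frobeniusEquiv F 2) r t
  have h1 : Θ ∉ Inn (Γ F) := by
    rintro ⟨y, e⟩
    refine h.fd_key (Or.inl rfl) (y := ι y⁻¹) ⟨_, rfl⟩ fun t => ?_
    rw [x, x, ← hΘ, ← e, MulAut.conj_apply, ← map_inv, ← map_mul, ← map_mul]
    congr 1; group
  have h2 : φ ⟨a, ha⟩ ∉ Inn (Γ F) := fun e => hn ((h.fd_inn hφ _).1 e)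
  have h3 := h.fd_two (u := (φ ⟨a, ha⟩ : Out (Γ F))) (v := (Θ : Out (Γ F)))
    (fun e => h2 ((QuotientGroup.eq_one_iff _).1 e)) fun e => h1 ((QuotientGroup.eq_one_iff _).1 e)
  obtain ⟨y, e⟩ := QuotientGroup.eq_iff_div_mem.1 h3
  refine ⟨ι y, ⟨y, rfl⟩, fun r t => ?_⟩
  have h4 : φ ⟨a, ha⟩ = MulAut.conj y * Θ := by rw [e, div_mul_cancel]
  have h5 := hφ ⟨a, ha⟩ (xg r t)
  rw [h4, MulAut.mul_apply, hΘ, MulAut.conj_apply, map_mul, map_mul, map_inv] at h5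
  exact h5

theorem inner_of_Z {a : G} (ha : a ∈ normalizer (AA ι : Set G)) (hc : ∀ ζ ∈ ZZ ι, Commute a ζ) :
    a ∈ KK ι ⊔ AA ι := by
  by_contra hn
  obtain ⟨y, hy, e⟩ := h.fd_field ha hn
  exact h.fd_key (Or.inl rfl) hy fun t => by rw [e, (hc _ (x_mem ι 11 t)).eq, mul_inv_cancel_right]

theorem inner_of_7 {a : G} (ha : a ∈ normalizer (AA ι : Set G)) (hc : ∀ ζ ∈ XX ι 7, Commute a ζ) :
    a ∈ KK ι ⊔ AA ι := by
  by_contra hn
  obtain ⟨y, hy, e⟩ := h.fd_field ha hn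
  have h1 : ∀ t, ι (ng 8 1) * x ι 7 t * (ι (ng 8 1))⁻¹ = x ι 9 t := fun t => by
    rw [h.ng_conj (by omega) (by omega), show Chev.refl Lie.chevG2 8 7 = 9 by decide +kernel]
  refine h.fd_key (Or.inr rfl) (y := ι (ng 8 1) * y * (ι (ng 8 1))⁻¹)
    (mul_mem (mul_mem ⟨_, rfl⟩ hy) (inv_mem ⟨_, rfl⟩)) fun t => ?_
  rw [← h1, ← h1]
  calc _ = ι (ng 8 1) * (y * x ι 7 (t ^ 2) * y⁻¹) * (ι (ng 8 1))⁻¹ := by group
    _ = _ := by rw [e, (hc _ (x_mem ι 7 t)).eq, mul_inv_cancel_right]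

theorem fd_sylU : IsSylowIn 2 (RA ι ⊔ XX ι 7) (AA ι) := by
  have h1 : RA ι ⊔ XX ι 7 ≤ AA ι := sup_le (RA_le_LL.trans LL_le) (XX_le 7)
  refine ⟨h1, IsPGroup.of_card (n := 12) h.cardU, ?_⟩
  have h2 := card_mul_relIndex' h1
  rw [h.cardU, h.cardA] at h2
  omega

theorem fd_normZ {g : G} (hg : g ∈ normalizer ((RA ι ⊔ XX ι 7 : Subgroup G) : Set G)) {ζ : G}
    (hζ : ζ ∈ ZZ ι) : g * ζ * g⁻¹ ∈ ZZ ι := by
  have hU : RA ι ⊔ XX ι 7 ≤ LL ι := sup_le RA_le_LL (le_sup_left.trans A2_le_LL)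
  have h1 : g * ζ * g⁻¹ ∈ RA ι ⊔ XX ι 7 := (mem_normalizer_iff.1 hg _).1 (mem_sup_left (ZZ_le_RA hζ))
  have h2 : ∀ r ∈ RA ι, Commute (g * ζ * g⁻¹) r := fun r hr => by
    have h3 : g⁻¹ * r * g ∈ RA ι ⊔ XX ι 7 := by
      have := (mem_normalizer_iff.1 (inv_mem hg) r).1 (mem_sup_left hr)
      rwa [inv_inv] at this
    have h4 := (h.LZ (hU h3) hζ).eq
    calc g * ζ * g⁻¹ * r = g * (ζ * (g⁻¹ * r * g)) * g⁻¹ := by group
      _ = _ := by rw [← h4]; group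
  refine h.centR (h.cent_bar (hU h1) fun r hr => ?_) h2
  rw [commutatorElement_eq_one_iff_commute.2 (h2 r hr)]
  exact one_mem _

theorem exists_comm_long {t : G} (ht : t ∈ normalizer (AA ι : Set G)) (t2 : t * t = 1)
    (hn : t ∉ KK ι ⊔ AA ι) : ∃ a ∈ AA ι, ∃ b, Long ι b ∧ b * t = a * t * a⁻¹ := by
  have hp : IsPGroup 2 (zpowers t) := isPGroup_zpowers_of_pow (k := 1) (by rw [pow_one, pow_two, t2])
  obtain ⟨c, hc, h1⟩ := exists_cj_norm h.fd_sylU hp (zpowers_le.2 ht)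
  have h2 := h1 (conj_mem_cj.2 (mem_zpowers t))
  have h3 : c * t * c⁻¹ ∈ normalizer (AA ι : Set G) :=
    mul_mem (mul_mem (le_normalizer hc) ht) (inv_mem (le_normalizer hc))
  have h4 : c * t * c⁻¹ ∉ KK ι ⊔ AA ι := fun e => hn (by
    rw [show t = c⁻¹ * (c * t * c⁻¹) * c by group]
    exact mul_mem (mul_mem (inv_mem (mem_sup_right hc)) e) (mem_sup_right hc))
  have h5 : ∃ ζ ∈ ZZ ι, ¬ Commute (c * t * c⁻¹) ζ := by
    by_contra e
    push Not at e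
    exact h4 (h.inner_of_Z h3 e)
  obtain ⟨ζ, hζ, h6⟩ := h5
  have h7 := h.fd_normZ h2 hζ
  have h8 : ζ⁻¹ = ζ := inv_eq_of_mul_eq_one_right (h.sqZ hζ)
  obtain ⟨d, hd, e⟩ := h.long_Z (mul_mem hζ h7) fun e => h6 (by
    rw [mul_eq_one_iff_inv_eq, h8, eq_mul_inv_iff_mul_eq] at e
    exact e.symm)
  refine ⟨c⁻¹ * ζ * c, mul_mem (mul_mem (inv_mem hc) (XX_le _ hζ)) hc,
    c⁻¹ * (ζ * (c * t * c⁻¹ * ζ * (c * t * c⁻¹)⁻¹)) * c, ⟨c⁻¹ * d, mul_mem (inv_mem hc) hd, ?_⟩, ?_⟩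
  · rw [e]; group
  · calc _ = c⁻¹ * ζ * c * t * (c⁻¹ * ζ * c) := by group
      _ = c⁻¹ * ζ * c * t * (c⁻¹ * ζ⁻¹ * c) := by rw [h8]
      _ = _ := by group

/-- perfect subgroups of `N(A)` -/
theorem perf_le {Λ : Subgroup G} (h1 : Λ ≤ normalizer (AA ι : Set G)) (h2 : ⁅Λ, Λ⁆ = Λ) :
    Λ ≤ KK ι ⊔ AA ι := by
  obtain ⟨ψ, hψ⟩ := h.fd_hom
  rw [← h2, commutator_le]
  intro a ha b hb
  refine (hψ ⁅(⟨a, h1 ha⟩ : normalizer (AA ι : Set G)), ⟨b, h1 hb⟩⁆).1 ?_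
  rw [map_commutatorElement, commutatorElement_eq_one_iff_commute]
  by_cases e1 : ψ ⟨a, h1 ha⟩ = 1
  · rw [e1]; exact Commute.one_left _
  by_cases e2 : ψ ⟨b, h1 hb⟩ = 1
  · rw [e2]; exact Commute.one_right _
  rw [h.fd_two e1 e2]

/-- the two projections of `K × A` -/
theorem exists_proj : ∃ pK pA : (KK ι ⊔ AA ι : Subgroup G) →* G,
    ∀ g, pK g ∈ KK ι ∧ pA g ∈ AA ι ∧ (g : G) = pK g * pA g := by
  choose k hk a ha e using fun g : (KK ι ⊔ AA ι : Subgroup G) => mem_KA.1 g.2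
  have u : ∀ g g', k (g * g') = k g * k g' ∧ a (g * g') = a g * a g' := fun g g' => by
    have h1 : k (g * g') * a (g * g') = k g * k g' * (a g * a g') := by
      rw [← e, coe_mul, e g, e g']
      calc _ = k g * (a g * k g') * a g' := by group
        _ = _ := by rw [← (comm_KA (hk g') (ha g)).eq]; group
    have h2 : (k g * k g')⁻¹ * k (g * g') = a g * a g' * (a (g * g'))⁻¹ := by
      calc _ = (k g * k g')⁻¹ * (k (g * g') * a (g * g')) * (a (g * g'))⁻¹ := by group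
        _ = _ := by rw [h1]; group
    have h3 := h.eq_one_KA (mul_mem (inv_mem (mul_mem (hk g) (hk g'))) (hk (g * g')))
      (h2 ▸ mul_mem (mul_mem (ha g) (ha g')) (inv_mem (ha _)))
    exact ⟨(inv_mul_eq_one.1 h3).symm, (mul_inv_eq_one.1 (h2 ▸ h3)).symm⟩
  exact ⟨MonoidHom.mk' k fun g g' => (u g g').1, MonoidHom.mk' a fun g g' => (u g g').2,
    fun g => ⟨hk g, ha g, e g⟩⟩

theorem card_N_dvd : Nat.card (normalizer (AA ι : Set G)) ∣ 2 * Nat.card (KK ι) * 251596800 := by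
  obtain ⟨φ, hφ⟩ := h.fd_aut
  have h1 : φ.ker = (KK ι).subgroupOf _ := by
    ext a
    rw [MonoidHom.mem_ker, mem_subgroupOf, mem_KK]
    constructor
    · rintro e _ ⟨g, rfl⟩
      have := hφ a g
      rw [e, MulAut.one_apply, eq_mul_inv_iff_mul_eq] at this
      exact this.symm
    · exact fun e => MulEquiv.ext fun g => h.inj (by
        rw [hφ, (e _ ⟨g, rfl⟩).eq, mul_inv_cancel_right]; rfl)
  have h2 : Nat.card φ.ker = Nat.card (KK ι) := by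
    rw [h1]
    exact Nat.card_congr (subgroupOfEquivOfLe (centralizer_le_normalizer _)).toEquiv
  have h3 : Nat.card (Γ F) = 251596800 := by
    rw [← h.cardA]; exact Nat.card_congr (MonoidHom.ofInjective h.inj).toEquiv
  have h4 : Nat.card (Inn (Γ F)) ∣ 251596800 := h3 ▸ card_range_dvd _
  have h5 := card_eq_card_quotient_mul_card_subgroup (Inn (Γ F))
  rw [show Nat.card (MulAut (Γ F) ⧸ Inn (Γ F)) = 2 from h.fd_out] at h5
  rw [← φ.ker.card_mul_index, h2, index_ker, mul_comm 2, mul_assoc]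
  exact Nat.mul_dvd_mul_left _ ((card_subgroup_dvd_card _).trans (h5 ▸ Nat.mul_dvd_mul_left _ h4))

end Emb

end CfsgLib.G2C
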