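import Cfsg.Agent.Lib.G2C.Defs

/-! Package LA: involutions of the orthogonal groups in dimensions 6 and 8 (plans/G2C2.md) -/

set_option autoImplicit false
set_option linter.unusedSectionVars false

namespace CfsgLib.G2C

open Subgroup Cfsg CfsgLib.Tech CfsgLib.StdR2 CfsgLib.Chev CfsgLib.OrthE CfsgLib.ExtraTwo
  CfsgLib.Co1Rec QuadraticMap
open scoped commutatorElement

variable {F : Type*} [Field F] [Fintype F] {G : Type*} [Group G] [Finite G] {ι : Γ F →* G}

/-- fixed vectors -/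
def Fix {W : Type*} [AddCommGroup W] [Module (ZMod 2) W] {q : QuadraticForm (ZMod 2) W}
    (J : Set (OrthE.O q)) : Submodule (ZMod 2) W where
  carrier := {w | ∀ g ∈ J, g.1 w = w}
  zero_mem' := fun g _ => map_zero g.1
  add_mem' := fun ha hb g hg => by rw [map_add, ha g hg, hb g hg]
  smul_mem' := fun c w hw g hg => by rw [map_smul, hw g hg]

/-- involutions of rank 2 -/
def Rk2 {W : Type*} [AddCommGroup W] [Module (ZMod 2) W] {q : QuadraticForm (ZMod 2) W}
    (g : OrthE.O q) (u w : W) : Prop :=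
  q u = 0 ∧ polar q u w = 0 ∧ u ≠ 0 ∧ w ≠ 0 ∧ w ≠ u ∧ g = eich q u w

namespace LAx

open Module

variable {W : Type*} [AddCommGroup W] [Module (ZMod 2) W] {q : QuadraticForm (ZMod 2) W}

theorem aa (v : W) : v + v = 0 := add_self_zmod2 v

theorem aa' (v w : W) : v + (v + w) = w := by rw [← add_assoc, aa, zero_add]

theorem aa'' (v w : W) : w + v + v = w := by rw [add_assoc, aa, add_zero]

theorem pself (v : W) : polar q v v = 0 := by
  rw [polar_self', show (2 : ZMod 2) = 0 from rfl, zero_mul]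

theorem mem_Fix {J : Set (OrthE.O q)} {w : W} : w ∈ Fix J ↔ ∀ g ∈ J, g.1 w = w := Iff.rfl

theorem mem_Fix1 {g : OrthE.O q} {w : W} : w ∈ Fix {g} ↔ g.1 w = w := by simp [mem_Fix]

theorem reflf {v : W} (hv : q v = 1) (y : W) : (OrthE.refl q v).1 y = y + polar q y v • v := by
  rw [refl_apply, hv, inv_one, one_mul, sub_zmod2]

theorem eichf {u v : W} (hu : q u = 0) (hv : polar q u v = 0) (y : W) :
    (eich q u v).1 y = y + polar q y v • u + polar q y u • v + (q v * polar q y u) • u := by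
  rw [eich_apply hu hv, sub_zmod2, sub_zmod2]

theorem eich_sq {u v : W} (hu : q u = 0) (hv : polar q u v = 0) : eich q u v * eich q u v = 1 := by
  rw [eich_mul hu hv hv, aa, eich_zero_right]

theorem sq_apply {g : OrthE.O q} (g2 : g * g = 1) (y : W) : g.1 (g.1 y) = y := by
  rw [← O_mul_apply, g2]; rfl

theorem polar_sq {g : OrthE.O q} (g2 : g * g = 1) (y v : W) :
    polar q (g.1 y + y) v = polar q y (g.1 v + v) := by
  rw [polar_add_left, polar_add_right, ← O_polar g (g.1 y) v, sq_apply g2]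

theorem q_mov (g : OrthE.O q) (y : W) : q (g.1 y + y) = polar q y (g.1 y + y) := by
  have := O_map g y
  rw [← aa'' y (g.1 y), add_comm, Q_add, add_assoc, add_eq_left] at this
  exact add_eq_zero_zmod2.1 this

theorem eq_add {a b c : W} (h : a + b = c) : a = b + c := by rw [← h, add_comm a, aa']

theorem rk_sq {g : OrthE.O q} {u w : W} (h : Rk2 g u w) : g * g = 1 := by
  rw [h.2.2.2.2.2]; exact eich_sq h.1 h.2.1

theorem rk_mov {g : OrthE.O q} {u w : W} (h : Rk2 g u w) (y : W) :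
    g.1 y + y = (polar q y w + q w * polar q y u) • u + polar q y u • w := by
  rw [h.2.2.2.2.2, eichf h.1 h.2.1, add_smul, add_comm _ y, add_assoc y, add_assoc y, aa']
  abel

theorem rk_fix {g : OrthE.O q} {u w : W} (h : Rk2 g u w) {y : W} :
    g.1 y = y ↔ polar q y u = 0 ∧ polar q y w = 0 := by
  rw [← add_eq_zero_zmod2, rk_mov h]
  obtain ⟨-, -, u0, w0, wu, -⟩ := h
  refine ⟨fun e => ?_, fun ⟨a, b⟩ => by simp [a, b]⟩
  rcases zmod2_cases (polar q y u) with a | a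
  · refine ⟨a, ?_⟩
    simpa [a, u0] using e
  · rw [a, one_smul, add_eq_zero_zmod2] at e
    rcases zmod2_cases (polar q y w + q w * 1) with b | b <;> rw [b] at e
    · exact absurd (by simpa using e.symm) w0
    · exact absurd (by simpa using e.symm) wu

theorem rk_range {g : OrthE.O q} {u w : W} (h : Rk2 g u w) (v : W) :
    g.1 v + v = 0 ∨ g.1 v + v = u ∨ g.1 v + v = w ∨ g.1 v + v = u + w := by
  rw [rk_mov h]
  generalize polar q v w + q w * polar q v u = c
  generalize polar q v u = d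
  rcases zmod2_cases c with rfl | rfl <;> rcases zmod2_cases d with rfl | rfl <;> simp

theorem a2_sing {g : OrthE.O q} {u w : W} (h : Rk2 g u w) (hw : q w = 0) (v : W) :
    q (g.1 v + v) = 0 := by
  rcases rk_range h v with e | e | e | e <;> rw [e]
  · exact map_zero q
  · exact h.1
  · exact hw
  · rw [Q_add, h.1, hw, h.2.1]; rfl

theorem mem_span2 {a b y : W} : y ∈ Submodule.span (ZMod 2) {a, b} ↔
    y = 0 ∨ y = a ∨ y = b ∨ y = a + b := by
  rw [Submodule.mem_span_pair]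
  constructor
  · rintro ⟨c, d, rfl⟩
    rcases zmod2_cases c with rfl | rfl <;> rcases zmod2_cases d with rfl | rfl <;> simp
  · rintro (rfl | rfl | rfl | rfl)
    exacts [⟨0, 0, by simp⟩, ⟨1, 0, by simp⟩, ⟨0, 1, by simp⟩, ⟨1, 1, by simp⟩]

theorem finrank_span2 {a b : W} (a0 : a ≠ 0) (b0 : b ≠ 0) (ba : b ≠ a) :
    finrank (ZMod 2) (Submodule.span (ZMod 2) {a, b}) = 2 := by
  have : LinearIndependent (ZMod 2) ![a, b] := LinearIndependent.pair_iff.2 fun c d e => by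
    rcases zmod2_cases c with rfl | rfl <;> rcases zmod2_cases d with rfl | rfl
    · exact ⟨rfl, rfl⟩
    · exact absurd (by simpa using e) b0
    · exact absurd (by simpa using e) a0
    · exact absurd (add_eq_zero_zmod2.1 (by simpa using e)).symm ba
  have h := finrank_span_eq_card this
  rwa [Matrix.range_cons, Matrix.range_cons, Matrix.range_empty, Set.union_empty,
    Set.singleton_union] at h

variable [Finite W]

theorem card_eq (U : Submodule (ZMod 2) W) : Nat.card U = 2 ^ finrank (ZMod 2) U := by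
  rw [Module.natCard_eq_pow_finrank (K := ZMod 2), Nat.card_zmod]

theorem exists_pair {U : Submodule (ZMod 2) W} (h : finrank (ZMod 2) U = 2) :
    ∃ a b, a ≠ 0 ∧ b ≠ 0 ∧ b ≠ a ∧ U = Submodule.span (ZMod 2) {a, b} := by
  have h4 : 2 < Nat.card U := by rw [card_eq, h]; norm_num
  classical
  have := Fintype.ofFinite U
  rw [Nat.card_eq_fintype_card, Fintype.two_lt_card_iff] at h4
  have k : ∀ a b : U, a ≠ 0 → b ≠ 0 → b ≠ a →
      ∃ a b, a ≠ 0 ∧ b ≠ 0 ∧ b ≠ a ∧ U = Submodule.span (ZMod 2) {a, b} := fun a b a0 b0 ba => by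
    have a1 : (a : W) ≠ 0 := fun e => a0 (Subtype.ext e)
    have b1 : (b : W) ≠ 0 := fun e => b0 (Subtype.ext e)
    have c1 : (b : W) ≠ a := fun e => ba (Subtype.ext e)
    refine ⟨a, b, a1, b1, c1, (Submodule.eq_of_le_of_finrank_eq ?_ ?_).symm⟩
    · rw [Submodule.span_le]; rintro _ (rfl | rfl); exacts [a.2, b.2]
    · rw [h, finrank_span2 a1 b1 c1]
  obtain ⟨a, b, c, ab, ac, bc⟩ := h4
  by_cases a0 : a = 0
  · exact k b c (fun e => ab (a0.trans e.symm)) (fun e => ac (a0.trans e.symm)) bc.symm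
  · by_cases b0 : b = 0
    · exact k a c a0 (fun e => bc (b0.trans e.symm)) ac.symm
    · exact k a b a0 b0 ab.symm

variable (nd : Nondeg q)
include nd

theorem sep {U : Submodule (ZMod 2) W} {y : W} (hy : y ∉ U) :
    ∃ s, polar q s y = 1 ∧ ∀ v ∈ U, polar q s v = 0 := by
  obtain ⟨f, h1, h2⟩ := U.exists_le_ker_of_notMem hy
  have hn := (nondeg_iff q).1 nd
  refine ⟨(LinearMap.BilinForm.toDual _ hn).symm f, ?_, fun v hv => ?_⟩
  · exact (LinearMap.BilinForm.apply_toDual_symm_apply (hB := hn) f y).trans (zmod2_ne_zero.1 h1)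
  · exact (LinearMap.BilinForm.apply_toDual_symm_apply (hB := hn) f v).trans (h2 hv)

theorem sep2 {a b y : W} (h0 : y ≠ 0) (h1 : y ≠ a) (h2 : y ≠ b) (h3 : y ≠ a + b) :
    ∃ s, polar q s y = 1 ∧ polar q s a = 0 ∧ polar q s b = 0 := by
  obtain ⟨s, hs, hs'⟩ := sep nd (U := Submodule.span (ZMod 2) {a, b}) (y := y) (by
    rw [mem_span2]; tauto)
  exact ⟨s, hs, hs' _ (Submodule.subset_span (by simp)), hs' _ (Submodule.subset_span (by simp))⟩

theorem sep1 {a y : W} (h0 : y ≠ 0) (h1 : y ≠ a) : ∃ s, polar q s y = 1 ∧ polar q s a = 0 :=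
  let ⟨s, h, h', _⟩ := sep2 nd (b := 0) h0 h1 h0 (by simpa using h1); ⟨s, h, h'⟩

theorem mem2 {a b y : W} (h : ∀ s, polar q s a = 0 → polar q s b = 0 → polar q s y = 0) :
    y = 0 ∨ y = a ∨ y = b ∨ y = a + b := by
  by_contra hc
  push Not at hc
  obtain ⟨s, h1, h2, h3⟩ := sep2 nd hc.1 hc.2.1 hc.2.2.1 hc.2.2.2
  rw [h s h2 h3] at h1
  exact zero_ne_one h1

theorem mem1 {a y : W} (h : ∀ s, polar q s a = 0 → polar q s y = 0) : y = 0 ∨ y = a := by
  rcases mem2 nd (b := 0) (fun s h1 _ => h s h1) with e | e | e | e <;> simp_all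

theorem finrank_orth (U : Submodule (ZMod 2) W) :
    finrank (ZMod 2) (LinearMap.BilinForm.orthogonal (polarBilin q) U) + finrank (ZMod 2) U =
      finrank (ZMod 2) W := by
  rw [LinearMap.BilinForm.finrank_orthogonal ((nondeg_iff q).1 nd)]
  have := U.finrank_le
  omega

/-- a nonsingular vector orthogonal to a small subspace that is not totally singular -/
theorem ns (S : Submodule (ZMod 2) W) (h1 : 2 * finrank (ZMod 2) S ≤ finrank (ZMod 2) W) {d : W}
    (hd : q d = 1) (dS : d ∈ S) : ∃ n, q n = 1 ∧ ∀ y ∈ S, polar q n y = 0 := by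
  by_contra hc
  have hn := (nondeg_iff q).1 nd
  have hr : LinearMap.IsRefl (polarBilin q) := fun x y h => by
    rw [polarBilin_apply_apply] at h ⊢; rwa [polar_comm]
  have h2 := finrank_orth nd S
  set U := LinearMap.BilinForm.orthogonal (polarBilin q) S
  have h3 : ∀ u ∈ U, q u = 0 := fun u hu => by
    by_contra h
    exact hc ⟨u, zmod2_ne_zero.1 h, fun y hy => by rw [polar_comm]; exact hu y hy⟩
  have h4 : U ≤ S := by
    rw [← LinearMap.BilinForm.orthogonal_orthogonal hn hr S]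
    exact fun x hx y hy => polar_eq_zero_of_ts h3 hy hx
  have h5 : U = S := Submodule.eq_of_le_of_finrank_le h4 (by omega)
  have := h3 d (h5 ▸ dS)
  rw [hd] at this
  exact one_ne_zero this

theorem ns3 (h6 : 6 ≤ finrank (ZMod 2) W) (a b : W) {d : W} (hd : q d = 1) :
    ∃ n, q n = 1 ∧ polar q n a = 0 ∧ polar q n b = 0 ∧ polar q n d = 0 := by
  classical
  have h1 : finrank (ZMod 2) (Submodule.span (ZMod 2) (({a, b, d} : Finset W) : Set W)) ≤ 3 :=
    (finrank_span_finset_le_card _).trans Finset.card_le_three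
  obtain ⟨n, h, h'⟩ := ns nd _ (by omega) hd
    (Submodule.subset_span (s := (({a, b, d} : Finset W) : Set W)) (by simp))
  exact ⟨n, h, h' _ (Submodule.subset_span (by simp)), h' _ (Submodule.subset_span (by simp)),
    h' _ (Submodule.subset_span (by simp))⟩

theorem fix_of {g : OrthE.O q} (g2 : g * g = 1) {y : W} (h : ∀ v, polar q y (g.1 v + v) = 0) :
    g.1 y = y := by
  by_contra e
  obtain ⟨v, hv⟩ := nd.exists_ne (fun h => e (add_eq_zero_zmod2.1 h))
  exact hv (by rw [polar_sq g2, h])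

/-- recognition of Eichler transformations -/
theorem eq_eich {g : OrthE.O q} (g2 : g * g = 1) {u w : W} (hu : q u = 0) (huw : polar q u w = 0)
    (u0 : u ≠ 0) (w0 : w ≠ 0) (wu : w ≠ u)
    (hr : ∀ v, g.1 v + v = 0 ∨ g.1 v + v = u ∨ g.1 v + v = w ∨ g.1 v + v = u + w)
    (hf : ∀ v, g.1 v = v → polar q v u = 0) : Rk2 g u w := by
  refine ⟨hu, huw, u0, w0, wu, ?_⟩
  obtain ⟨a, a1, a2⟩ := sep1 nd u0 wu.symm
  obtain ⟨b, b1, b2⟩ := sep1 nd w0 wu
  have s1 := polar_sq g2 a b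
  have qa := q_mov g a
  have qb := q_mov g b
  have n1 : g.1 a + a ≠ 0 := fun e => by simpa [a1] using hf a (add_eq_zero_zmod2.1 e)
  have n2 : g.1 a + a ≠ g.1 b + b := fun e => by
    have := hf (a + b) (by
      rw [← add_eq_zero_zmod2, map_add, add_add_add_comm, e, aa])
    simp [a1, b2] at this
  have quw : q (u + w) = q w := by rw [Q_add, hu, huw, zero_add, add_zero]
  have k : g.1 a + a = q w • u + w ∧ g.1 b + b = u := by
    rw [polar_comm] at s1
    rcases zmod2_cases (q w) with c | c <;> rcases hr a with e | e | e | e <;>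
      rcases hr b with e' | e' | e' | e' <;> rw [e] at n1 n2 qa s1 ⊢ <;> rw [e'] at n2 qb s1 ⊢ <;>
      simp_all
  have hR : Rk2 (eich q u w) u w := ⟨hu, huw, u0, w0, wu, rfl⟩
  refine O_ext fun y => ?_
  have hy : y = (y + polar q y u • a + polar q y w • b) + polar q y u • a + polar q y w • b := by
    rw [add_right_comm _ (polar q y u • a), aa'', aa'']
  have u1 : polar q (y + polar q y u • a + polar q y w • b) u = 0 := by
    simp [a1, b2, CharTwo.add_self_eq_zero]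
  have u2 : polar q (y + polar q y u • a + polar q y w • b) w = 0 := by
    simp [a2, b1, CharTwo.add_self_eq_zero]
  generalize y + polar q y u • a + polar q y w • b = v at hy u1 u2
  generalize polar q y u = c at hy
  generalize polar q y w = d at hy
  have e1 : g.1 v = v := fix_of nd g2 fun t => by
    rcases hr t with e | e | e | e <;> simp [e, u1, u2]
  have e2 : g.1 a = (eich q u w).1 a := by
    rw [eq_add k.1, eq_add (rk_mov hR a)]; simp [a1, a2]
  have e3 : g.1 b = (eich q u w).1 b := by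
    rw [eq_add k.2, eq_add (rk_mov hR b)]; simp [b1, b2]
  rw [hy]
  simp only [map_add, map_smul, e1, e2, e3, (rk_fix hR).2 ⟨u1, u2⟩]

theorem rk_range' {g : OrthE.O q} {u w : W} (h : Rk2 g u w) {y : W} :
    (∃ v, y = g.1 v + v) ↔ y = 0 ∨ y = u ∨ y = w ∨ y = u + w := by
  refine ⟨fun ⟨v, e⟩ => e ▸ rk_range h v, fun e => ?_⟩
  obtain ⟨a, a1, a2⟩ := sep1 nd h.2.2.1 h.2.2.2.2.1.symm
  obtain ⟨b, b1, b2⟩ := sep1 nd h.2.2.2.1 h.2.2.2.2.1
  have k : ∀ c d : ZMod 2, ∃ v, c • u + d • w = g.1 v + v := fun c d =>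
    ⟨d • a + (c + q w * d) • b, by
      rw [rk_mov h]; simp [a1, a2, b1, b2, add_assoc, CharTwo.add_self_eq_zero]⟩
  rcases e with rfl | rfl | rfl | rfl
  · simpa using k 0 0
  · simpa using k 1 0
  · simpa using k 0 1
  · simpa using k 1 1

theorem rk_finrank {g : OrthE.O q} {u w : W} (h : Rk2 g u w) :
    finrank (ZMod 2) (Fix {g}) + 2 = finrank (ZMod 2) W := by
  rw [← finrank_orth nd (Submodule.span (ZMod 2) {u, w}),
    finrank_span2 h.2.2.1 h.2.2.2.1 h.2.2.2.2.1]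
  have : Fix {g} = LinearMap.BilinForm.orthogonal (polarBilin q) (Submodule.span (ZMod 2) {u, w}) := by
    ext y
    rw [mem_Fix1, rk_fix h]
    refine ⟨fun ⟨a, b⟩ v hv => ?_, fun e => ⟨?_, ?_⟩⟩
    · change polar q v y = 0
      rw [polar_comm]
      rcases mem_span2.1 hv with rfl | rfl | rfl | rfl <;> simp [a, b]
    · rw [polar_comm]; exact e u (mem_span2.2 (by simp))
    · rw [polar_comm]; exact e w (mem_span2.2 (by simp))
  rw [this]

/-- change of the basis of the moved plane -/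
theorem rk_rebase {g : OrthE.O q} {u w a b : W} (h : Rk2 g u w) (ha : q a = 0) (a0 : a ≠ 0)
    (b0 : b ≠ 0) (ba : b ≠ a) (h1 : a = 0 ∨ a = u ∨ a = w ∨ a = u + w)
    (h2 : b = 0 ∨ b = u ∨ b = w ∨ b = u + w) : Rk2 g a b := by
  have e : Submodule.span (ZMod 2) {a, b} = Submodule.span (ZMod 2) {u, w} := by
    refine Submodule.eq_of_le_of_finrank_eq ?_ ?_
    · rw [Submodule.span_le]; rintro _ (rfl | rfl); exacts [mem_span2.2 h1, mem_span2.2 h2]
    · rw [finrank_span2 a0 b0 ba, finrank_span2 h.2.2.1 h.2.2.2.1 h.2.2.2.2.1]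
  have k : ∀ v, g.1 v = v → ∀ y, (y = 0 ∨ y = u ∨ y = w ∨ y = u + w) → polar q v y = 0 := by
    intro v hv y hy
    obtain ⟨c, d⟩ := (rk_fix h).1 hv
    rcases hy with rfl | rfl | rfl | rfl <;> simp [c, d]
  refine eq_eich nd (rk_sq h) ha (k a ((rk_fix h).2 ?_) b h2) a0 b0 ba (fun v => ?_)
    fun v hv => k v hv a h1
  · have h3 := h.2.1
    have h4 : polar q w u = 0 := by rwa [polar_comm]
    rcases h1 with e | e | e | e <;> rw [e] <;>
      simp only [h3, h4, pself, polar_add_left, polar_zero_left, add_zero, and_self]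
  · rw [← mem_span2, e, mem_span2]; exact rk_range h v

theorem rk_eq {g g' : OrthE.O q} {u w u' w' : W} (h : Rk2 g u w) (h' : Rk2 g' u' w')
    (e : ∀ y, g.1 y = y → g'.1 y = y) : g = g' := by
  have h1 := mem2 nd (a := u) (b := w) (y := u') fun s a b =>
    ((rk_fix h').1 (e s ((rk_fix h).2 ⟨a, b⟩))).1
  have h2 := mem2 nd (a := u) (b := w) (y := w') fun s a b =>
    ((rk_fix h').1 (e s ((rk_fix h).2 ⟨a, b⟩))).2
  rw [(rk_rebase nd h h'.1 h'.2.2.1 h'.2.2.2.1 h'.2.2.2.2.1 h1 h2).2.2.2.2.2, h'.2.2.2.2.2]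

theorem refl_mul_mem (h5 : 5 ≤ finrank (ZMod 2) W) {a b : W} (ha : q a = 1) (hb : q b = 1) :
    OrthE.refl q a * OrthE.refl q b ∈ OrthE.E q := by
  obtain ⟨g, rfl⟩ : ∃ g : OrthE.O q, g.1 a = b :=
    CfsgLib.Orth.exists_OG_apply_eq ((nondeg_iff q).1 nd) (ha.trans hb.symm)
      (by rw [ha]; exact one_ne_zero)
  rw [nd.E_eq_commutator_of_finite h5, ← conj_refl]
  have := Subgroup.commutator_mem_commutator (Subgroup.mem_top (OrthE.refl q a)) (Subgroup.mem_top g)
  rwa [commutatorElement_def, refl_inv, mul_assoc, mul_assoc, ← mul_assoc g] at this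

/-- the rank of an involution of `Ω` -/
theorem inv (h5 : 5 ≤ finrank (ZMod 2) W) {g : OrthE.O q} (hg : g ∈ OrthE.E q) (g2 : g * g = 1)
    (g1 : g ≠ 1) : (∃ u w, Rk2 g u w) ∨ ∃ M : Submodule (ZMod 2) W, (∀ y, y ∈ M ↔ ∃ v, y = g.1 v + v) ∧
      M ≤ Fix {g} ∧ 4 ≤ finrank (ZMod 2) M ∧
      finrank (ZMod 2) M + finrank (ZMod 2) (Fix {g}) = finrank (ZMod 2) W := by
  have hn := (nondeg_iff q).1 nd
  have h24 : Nat.card (ZMod 2) ≠ 2 ∨ finrank (ZMod 2) W ≠ 4 := Or.inr (by omega)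
  rw [nd.E_eq_commutator_of_finite h5] at hg
  have ev := (Orth.dickson_eq_one_iff hn h24 g).1
    ((Orth.mem_commutator_iff_of_charTwo hn h24 rfl g).1 hg)
  have hs := Orth.finrank_fix_add_mov (Q := q) g
  have hF : Orth.fixSpace (Q := q) g = Fix {g} := by
    ext y; exact (Orth.mem_fixSpace (Q := q) (g := g)).trans mem_Fix1.symm
  have hM : ∀ y, y ∈ Orth.movSpace (Q := q) g ↔ ∃ v, y = g.1 v + v := fun y =>
    (Orth.mem_movSpace (Q := q) (g := g)).trans (exists_congr fun v => by rw [sub_zmod2, eq_comm])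
  rw [hF] at hs
  generalize Orth.movSpace (Q := q) g = M at ev hs hM
  have hle : M ≤ Fix {g} := fun y hy => by
    obtain ⟨v, rfl⟩ := (hM y).1 hy
    rw [mem_Fix1, map_add, sq_apply g2, add_comm]
  have h0 : finrank (ZMod 2) M ≠ 0 := fun e => g1 (O_ext fun y => by
    have : g.1 y + y ∈ M := (hM _).2 ⟨y, rfl⟩
    rw [Submodule.finrank_eq_zero.1 e] at this
    exact add_eq_zero_zmod2.1 this)
  by_cases h2 : finrank (ZMod 2) M = 2
  · left
    obtain ⟨a, b, a0, b0, ba, e⟩ := exists_pair h2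
    have ort : ∀ v, g.1 v = v → ∀ y ∈ M, polar q v y = 0 := fun v hv y hy => by
      obtain ⟨t, rfl⟩ := (hM y).1 hy
      rw [← polar_sq g2, hv, aa, polar_zero_left]
    have k : ∀ a b, q a = 0 → a ≠ 0 → b ≠ 0 → b ≠ a → M = Submodule.span (ZMod 2) {a, b} →
        ∃ u w, Rk2 g u w := fun a b qa a0 b0 ba e => by
      have ha : a ∈ M := e ▸ mem_span2.2 (by simp)
      have hb : b ∈ M := e ▸ mem_span2.2 (by simp)
      exact ⟨a, b, eq_eich nd g2 qa (ort a (mem_Fix1.1 (hle ha)) b hb) a0 b0 ba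
        (fun v => by rw [← mem_span2, ← e]; exact (hM _).2 ⟨v, rfl⟩) fun v hv => ort v hv a ha⟩
    have ha : a ∈ M := e ▸ mem_span2.2 (by simp)
    have hb : b ∈ M := e ▸ mem_span2.2 (by simp)
    rcases zmod2_cases (q a) with c | c
    · exact k a b c a0 b0 ba e
    rcases zmod2_cases (q b) with d | d
    · exact k b a d b0 a0 ba.symm (by rw [e, Set.pair_comm])
    refine k (a + b) b (by rw [Q_add, c, d, ort a (mem_Fix1.1 (hle ha)) b hb]; rfl)
      (fun e => ba (add_eq_zero_zmod2.1 e).symm) b0 (by simpa using a0) ?_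
    rw [e]; ext y
    rw [mem_span2, mem_span2, aa'']; tauto
  · obtain ⟨k, hk⟩ := ev
    exact Or.inr ⟨M, hM, hle, by omega, hs⟩

/-- counting the involutions of rank 2 by their moved planes -/
theorem count {J : Subgroup (OrthE.O q)} (h : ∀ g ∈ J, g ≠ 1 → ∃ u w, Rk2 g u w) {m : ℕ}
    (hm : finrank (ZMod 2) (Fix (J : Set (OrthE.O q))) + m = finrank (ZMod 2) W) :
    (Nat.card J - 1) * 6 ≤ (2 ^ m - 1) * (2 ^ m - 1) - (2 ^ m - 1) := by
  classical
  have := Fintype.ofFinite W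
  have : Finite (OrthE.O q) := Finite.of_injective (fun g : OrthE.O q => (g.1 : W → W))
    fun g h e => O_ext (congrFun e)
  have := Fintype.ofFinite (OrthE.O q)
  have hP' := finrank_orth nd (Fix (J : Set (OrthE.O q)))
  set P := LinearMap.BilinForm.orthogonal (polarBilin q) (Fix (J : Set (OrthE.O q)))
  have hP : finrank (ZMod 2) P = m := by omega
  let s : Submodule (ZMod 2) W → Finset W := fun U => (Finset.univ.filter (· ∈ U)).erase 0
  have hs : ∀ U, (s U).card = 2 ^ finrank (ZMod 2) U - 1 := fun U => by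
    rw [Finset.card_erase_of_mem (by simp), ← card_eq, Nat.card_eq_fintype_card,
      Fintype.card_subtype]
  have ms : ∀ U y, y ∈ s U ↔ y ≠ 0 ∧ y ∈ U := fun U y => by simp [s]
  let t : OrthE.O q → Finset (W × W) := fun g =>
    (s (LinearMap.BilinForm.orthogonal (polarBilin q) (Fix {g}))).offDiag
  let I : Finset (OrthE.O q) := (Finset.univ.filter (· ∈ J)).erase 1
  have mI : ∀ g, g ∈ I ↔ g ≠ 1 ∧ g ∈ J := fun g => by simp [I]
  have cI : I.card = Nat.card J - 1 := by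
    rw [Finset.card_erase_of_mem (by simp), Nat.card_eq_fintype_card, Fintype.card_subtype]
  have fr : ∀ g ∈ I, finrank (ZMod 2)
      (LinearMap.BilinForm.orthogonal (polarBilin q) (Fix {g})) = 2 := fun g hg => by
    obtain ⟨u, w, hR⟩ := h g ((mI g).1 hg).2 ((mI g).1 hg).1
    have h1 := finrank_orth nd (Fix {g})
    have h2 := rk_finrank nd hR
    omega
  have ct : ∀ g ∈ I, (t g).card = 6 := fun g hg => by
    rw [Finset.offDiag_card, hs, fr g hg]; rfl
  have dj : (I : Set (OrthE.O q)).PairwiseDisjoint t := fun g hg g' hg' ne => by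
    rw [Function.onFun, Finset.disjoint_left]
    rintro ⟨a, b⟩ h1 h2
    simp only [t, Finset.mem_offDiag, ms] at h1 h2
    obtain ⟨u, w, hR⟩ := h g ((mI g).1 hg).2 ((mI g).1 hg).1
    obtain ⟨u', w', hR'⟩ := h g' ((mI g').1 hg').2 ((mI g').1 hg').1
    have e : Submodule.span (ZMod 2) {a, b} =
        LinearMap.BilinForm.orthogonal (polarBilin q) (Fix {g'}) := by
      refine Submodule.eq_of_le_of_finrank_eq ?_ ?_
      · rw [Submodule.span_le]; rintro _ (rfl | rfl); exacts [h2.1.2, h2.2.1.2]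
      · rw [finrank_span2 h1.1.1 h1.2.1.1 h1.2.2.symm, fr g' hg']
    refine ne (rk_eq nd hR hR' fun y hy => fix_of nd (rk_sq hR') fun v => ?_)
    have : g'.1 v + v ∈ Submodule.span (ZMod 2) {a, b} := by
      rw [e]; intro c hc
      change polar q c _ = 0
      rw [← polar_sq (rk_sq hR'), mem_Fix1.1 hc, aa, polar_zero_left]
    have ya : polar q y a = 0 := h1.1.2 y (mem_Fix1.2 hy)
    have yb : polar q y b = 0 := h1.2.1.2 y (mem_Fix1.2 hy)
    rcases mem_span2.1 this with e | e | e | e <;> simp [e, ya, yb]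
  have sub : I.biUnion t ⊆ (s P).offDiag := by
    rw [Finset.biUnion_subset]
    intro g hg
    refine Finset.offDiag_mono fun y hy => ?_
    rw [ms] at hy ⊢
    exact ⟨hy.1, fun c hc => hy.2 c (mem_Fix1.2 (hc g ((mI g).1 hg).2))⟩
  have := Finset.card_le_card sub
  rwa [Finset.card_biUnion dj, Finset.sum_congr rfl ct, Finset.sum_const, smul_eq_mul, cI,
    Finset.offDiag_card, hs, hP] at this

end LAx

open LAx Module

theorem finrank_V6 : finrank (ZMod 2) V6 = 6 := by simp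

theorem nd6 : Nondeg q6 := nondeg_qPlus 3

theorem refl6 {v : V6} (hv : q6 v = 1) (y : V6) : (OrthE.refl q6 v).1 y = y + polar q6 y v • v :=
  reflf hv y

theorem eich6 {u v : V6} (hu : q6 u = 0) (hv : polar q6 u v = 0) (y : V6) :
    (eich q6 u v).1 y = y + polar q6 y v • u + polar q6 y u • v + (q6 v * polar q6 y u) • u :=
  eichf hu hv y

theorem refl_mul_mem6 {a b : V6} (ha : q6 a = 1) (hb : q6 b = 1) :
    OrthE.refl q6 a * OrthE.refl q6 b ∈ OrthE.E q6 := LAx.refl_mul_mem nd6 (by simp) ha hb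

theorem inv6 {g : OrthE.O q6} (hg : g ∈ OrthE.E q6) (g2 : g * g = 1) (g1 : g ≠ 1) :
    ∃ u w, Rk2 g u w := by
  rcases inv nd6 (by simp) hg g2 g1 with h | ⟨M, -, h1, h2, h3⟩
  · exact h
  · have := Submodule.finrank_mono h1
    rw [finrank_V6] at h3
    omega

theorem Rk2.fix6 {g : OrthE.O q6} {u w : V6} (h : Rk2 g u w) {y : V6} :
    g.1 y = y ↔ polar q6 y u = 0 ∧ polar q6 y w = 0 := rk_fix h

theorem Rk2.card6 {g : OrthE.O q6} {u w : V6} (h : Rk2 g u w) : Nat.card (Fix {g}) = 16 := by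
  have := rk_finrank nd6 h
  rw [finrank_V6] at this
  rw [LAx.card_eq, show finrank (ZMod 2) (Fix {g}) = 4 by omega]; rfl

theorem Rk2.range6 {g : OrthE.O q6} {u w : V6} (h : Rk2 g u w) {y : V6} :
    (∃ v, y = g.1 v + v) ↔ y = 0 ∨ y = u ∨ y = w ∨ y = u + w := rk_range' nd6 h

/-- type `c₂` fixes an anisotropic plane -/
theorem Rk2.aniso6 {g : OrthE.O q6} {u w : V6} (h : Rk2 g u w) (hw : q6 w = 1) :
    ∃ a b, g.1 a = a ∧ g.1 b = b ∧ q6 a = 1 ∧ q6 b = 1 ∧ polar q6 a b = 1 := by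
  have h1 := rk_finrank nd6 h
  have h2 := finrank_span2 h.2.2.1 h.2.2.2.1 h.2.2.2.2.1
  rw [finrank_V6] at h1
  obtain ⟨a, ha, ha'⟩ : ∃ a ∈ Fix {g}, a ∉ Submodule.span (ZMod 2) {u, w} := by
    by_contra hc
    push Not at hc
    have := Submodule.finrank_mono (show Fix {g} ≤ Submodule.span (ZMod 2) {u, w} from hc)
    omega
  obtain ⟨b, b1, b2⟩ := sep nd6 ha'
  obtain ⟨au, aw⟩ := h.fix6.1 (mem_Fix1.1 ha)
  have bu := b2 u (mem_span2.2 (by simp))
  have bw := b2 w (mem_span2.2 (by simp))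
  have wu : polar q6 w u = 0 := by rw [polar_comm, h.2.1]
  have k : ∀ y, polar q6 y u = 0 → polar q6 y w = 0 → g.1 (y + (q6 y + 1) • w) = y + (q6 y + 1) • w ∧
      q6 (y + (q6 y + 1) • w) = 1 := fun y y1 y2 => by
    refine ⟨h.fix6.2 (by simp only [polar_add_left, polar_smul_left, y1, y2, wu, pself, smul_zero,
      add_zero, and_self]), ?_⟩
    rw [Q_add, polar_smul_right, y2, Q_smul, hw]
    generalize q6 y = c
    revert c; decide
  refine ⟨_, _, (k a au aw).1, (k b bu bw).1, (k a au aw).2, (k b bu bw).2, ?_⟩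
  rw [polar_comm] at b1 bw
  simp only [polar_add_left, polar_add_right, polar_smul_left, polar_smul_right, b1, aw, bw, pself,
    smul_zero, add_zero]

theorem bound6 {J : Subgroup (OrthE.O q6)} (h1 : J ≤ OrthE.E q6) (h2 : ∀ g ∈ J, g * g = 1)
    (h3 : J ≠ ⊥) : Nat.card J * Nat.card (Fix (J : Set (OrthE.O q6))) ^ 2 < 1024 := by
  have h4 : ∀ g ∈ J, g ≠ 1 → ∃ u w, Rk2 g u w := fun g hg g1 => inv6 (h1 hg) (h2 g hg) g1
  obtain ⟨⟨g, hg⟩, g1⟩ := Subgroup.ne_bot_iff_exists_ne_one.1 h3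
  obtain ⟨u, w, hR⟩ := h4 g hg fun e => g1 (Subtype.ext e)
  have h5 := rk_finrank nd6 hR
  have h6 : finrank (ZMod 2) (Fix (J : Set (OrthE.O q6))) ≤ finrank (ZMod 2) (Fix {g}) :=
    Submodule.finrank_mono fun y hy => mem_Fix1.2 (hy g hg)
  rw [finrank_V6] at h5
  have h7 := count nd6 h4 (m := 6 - finrank (ZMod 2) (Fix (J : Set (OrthE.O q6))))
    (by rw [finrank_V6]; omega)
  rw [LAx.card_eq]
  generalize finrank (ZMod 2) (Fix (J : Set (OrthE.O q6))) = k at h6 h7
  have : k ≤ 4 := by omega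
  interval_cases k <;> omega

/-- groups of transvections (type `a₂` only) -/
theorem bound6a {J : Subgroup (OrthE.O q6)} (h : ∀ g ∈ J, g ≠ 1 → ∃ u w, Rk2 g u w ∧ q6 w = 0)
    (h4 : 2 < Nat.card J) : Nat.card J ≤ 8 ∧ Nat.card (Fix (J : Set (OrthE.O q6))) = 8 ∧
      ∀ g ∈ J, ∀ v, g.1 v + v ∈ Fix (J : Set (OrthE.O q6)) := by
  have h1 : ∀ g ∈ J, g ≠ 1 → ∃ u w, Rk2 g u w := fun g hg g1 =>
    let ⟨u, w, e, _⟩ := h g hg g1; ⟨u, w, e⟩
  have sing : ∀ g ∈ J, ∀ v, q6 (g.1 v + v) = 0 := fun g hg v => by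
    by_cases g1 : g = 1
    · rw [g1, O_one_apply, LAx.aa, map_zero]
    · obtain ⟨u, w, e, e'⟩ := h g hg g1
      exact a2_sing e e' v
  have h2 : ∀ g ∈ J, ∀ v, g.1 v + v ∈ Fix (J : Set (OrthE.O q6)) := fun g hg v g' hg' => by
    by_cases g1 : g = 1
    · rw [g1, O_one_apply, LAx.aa, map_zero]
    by_cases g2 : g' = 1
    · rw [g2, O_one_apply]
    obtain ⟨u, w, hR⟩ := h1 g hg g1
    obtain ⟨u', w', hR'⟩ := h1 g' hg' g2
    by_cases e : g * g' = 1
    · rw [← mul_left_cancel (((rk_sq hR).trans e.symm)), map_add, sq_apply (rk_sq hR), add_comm]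
    obtain ⟨u'', w'', hR''⟩ := h1 _ (mul_mem hg hg') e
    obtain ⟨y, y1, y2⟩ : ∃ y, (g * g').1 y = y ∧ g.1 y ≠ y := by
      by_contra hc
      push Not at hc
      exact g2 (by simpa using rk_eq nd6 hR'' hR hc)
    have y3 : g'.1 y = g.1 y := by
      conv_rhs => rw [← y1, O_mul_apply, sq_apply (rk_sq hR)]
    have a0 : g.1 y + y ≠ 0 := fun e => y2 (add_eq_zero_zmod2.1 e)
    have k : ∀ {g u w a}, Rk2 g u w → q6 a = 0 → a ≠ 0 → (a = 0 ∨ a = u ∨ a = w ∨ a = u + w) →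
        ∃ b, Rk2 g a b := fun {g u w a} hR qa a0 ha => by
      by_cases e : a = w
      · exact ⟨u, rk_rebase nd6 hR qa a0 hR.2.2.1 (e ▸ hR.2.2.2.2.1.symm) ha (by simp)⟩
      · exact ⟨w, rk_rebase nd6 hR qa a0 hR.2.2.2.1 (Ne.symm e) ha (by simp)⟩
    obtain ⟨b, hb⟩ := k hR (sing g hg y) a0 (rk_range hR y)
    obtain ⟨b', hb'⟩ := k hR' (sing g hg y) a0 (y3 ▸ rk_range hR' y)
    generalize g.1 y + y = a at hb hb' a0
    have qb : ∀ {g b}, g ∈ J → Rk2 g a b → q6 b = 0 := fun {g b} hg hb => by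
      obtain ⟨t, e⟩ := hb.range6.2 (Or.inr (Or.inr (Or.inl rfl)))
      rw [e]; exact sing g hg t
    have bb : polar q6 b b' = 0 := by
      obtain ⟨t, ht⟩ := nd6.exists_eq a0 1
      have ab : polar q6 a (b + b') = 0 := by rw [polar_add_right, hb.2.1, hb'.2.1]; rfl
      have := sing _ (mul_mem hg hg') t
      rw [hb.2.2.2.2.2, hb'.2.2.2.2.2, eich_mul hb.1 hb.2.1 hb'.2.1, eich6 hb.1 ab, ht, one_smul,
        add_comm _ t, add_assoc t, add_assoc t, LAx.aa', add_right_comm, ← add_smul, Q_add, Q_smul,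
        hb.1, polar_smul_left, ab, Q_add, qb hg hb, qb hg' hb'] at this
      simpa using this
    have ba : polar q6 b a = 0 := by rw [polar_comm, hb.2.1]
    refine hb'.fix6.2 ?_
    rcases rk_range hb v with e | e | e | e <;> rw [e] <;>
      simp only [polar_add_left, polar_zero_left, pself, ba, bb, hb'.2.1, add_zero, and_self]
  have : Finite J := Nat.finite_of_card_ne_zero (by omega)
  have := Fintype.ofFinite J
  obtain ⟨g, g', g1, g2, gg⟩ : ∃ g g' : J, g ≠ 1 ∧ g' ≠ 1 ∧ g ≠ g' := by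
    rw [Nat.card_eq_fintype_card, Fintype.two_lt_card_iff] at h4
    obtain ⟨a, b, c, ab, ac, bc⟩ := h4
    by_cases a0 : a = 1
    · exact ⟨b, c, fun e => ab (a0.trans e.symm), fun e => ac (a0.trans e.symm), bc⟩
    · by_cases b0 : b = 1
      · exact ⟨a, c, a0, fun e => bc (b0.trans e.symm), ac⟩
      · exact ⟨a, b, a0, b0, ab⟩
  obtain ⟨u, w, hR⟩ := h1 g g.2 fun e => g1 (Subtype.ext e)
  obtain ⟨u', w', hR'⟩ := h1 g' g'.2 fun e => g2 (Subtype.ext e)
  have hne : (g : OrthE.O q6) ≠ g' := fun e => gg (Subtype.ext e)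
  have h5 := rk_finrank nd6 hR
  rw [finrank_V6] at h5
  have h6 : finrank (ZMod 2) (Fix (J : Set (OrthE.O q6))) < finrank (ZMod 2) (Fix {g.1}) :=
    Submodule.finrank_lt_finrank_of_lt (lt_of_le_of_ne (fun y hy => mem_Fix1.2 (hy g g.2))
      fun e => hne (rk_eq nd6 hR hR' fun y hy => (e ▸ mem_Fix1.2 hy : y ∈ Fix _) g' g'.2))
  have mem : ∀ {g u w}, g ∈ J → Rk2 g u w → u ∈ Fix (J : Set (OrthE.O q6)) ∧
      w ∈ Fix (J : Set (OrthE.O q6)) := fun {g u w} hg hR => by
    obtain ⟨t, e⟩ := hR.range6.2 (Or.inr (Or.inl rfl))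
    obtain ⟨t', e'⟩ := hR.range6.2 (Or.inr (Or.inr (Or.inl rfl)))
    exact ⟨e ▸ h2 g hg t, e' ▸ h2 g hg t'⟩
  have h7 : 2 < finrank (ZMod 2) (Fix (J : Set (OrthE.O q6))) := by
    refine (finrank_span2 hR.2.2.1 hR.2.2.2.1 hR.2.2.2.2.1).symm.trans_lt
      (Submodule.finrank_lt_finrank_of_lt (lt_of_le_of_ne ?_ fun e => hne ?_))
    · rw [Submodule.span_le]; rintro _ (rfl | rfl); exacts [(mem g.2 hR).1, (mem g.2 hR).2]
    · rw [(rk_rebase nd6 hR hR'.1 hR'.2.2.1 hR'.2.2.2.1 hR'.2.2.2.2.1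
        (mem_span2.1 (e ▸ (mem g'.2 hR').1)) (mem_span2.1 (e ▸ (mem g'.2 hR').2))).2.2.2.2.2]
      exact hR'.2.2.2.2.2.symm
  have h8 : finrank (ZMod 2) (Fix (J : Set (OrthE.O q6))) = 3 := by omega
  have h9 := count nd6 h1 (m := 3) (by rw [finrank_V6, h8])
  exact ⟨by omega, by rw [LAx.card_eq, h8]; rfl, h2⟩

theorem exists_ns6 : ∃ d : V6, q6 d = 1 := ⟨Pi.single (.inl 0) 1 + Pi.single (.inr 0) 1, by
  rw [qPlus_apply]; decide⟩

theorem irr6' (W : AddSubgroup V6) (h : ∀ a b, q6 a = 1 → q6 b = 1 → ∀ v ∈ W,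
    (OrthE.refl q6 a * OrthE.refl q6 b).1 v ∈ W) : W = ⊥ ∨ W = ⊤ := by
  obtain ⟨d, hd⟩ := exists_ns6
  have k : ∀ v ∈ W, ∀ a, q6 a = 1 → polar q6 v a = 1 → a ∈ W := fun v hv a ha e => by
    obtain ⟨n, n1, n2, -⟩ := LAx.ns3 nd6 (by simp) v 0 hd
    have := h a n ha n1 v hv
    rw [O_mul_apply, refl_apply_of_orth (v := n) (by rwa [polar_comm]), refl6 ha, e, one_smul] at this
    exact (W.add_mem_cancel_left hv).1 this
  refine or_iff_not_imp_left.2 fun hW => ?_
  obtain ⟨⟨v, hv⟩, v0⟩ := AddSubgroup.ne_bot_iff_exists_ne_zero.1 hW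
  have v1 : v ≠ 0 := fun e => v0 (Subtype.ext e)
  have k2 : ∀ a, q6 a = 1 → a ∈ W := fun a ha => by
    by_cases e : a = v
    · exact e ▸ hv
    have a0 : a ≠ 0 := fun e => by simp [e] at ha
    obtain ⟨s, s1, s2⟩ := LAx.sep1 nd6 (y := a) (a := a + v) a0 (by simpa using v1)
    have s3 : polar q6 s v = 1 := by
      rw [polar_add_right, s1] at s2; exact (add_eq_zero_zmod2.1 s2).symm
    rcases zmod2_cases (q6 s) with c | c
    · obtain ⟨n, n1, n2, n3, n4⟩ := LAx.ns3 nd6 (by simp) s v ha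
      refine k (n + s) (k v hv _ (by rw [Q_add, n1, c, n2]; rfl) ?_) a ha ?_
      · rw [polar_comm, polar_add_left, n3, s3]; rfl
      · rw [polar_add_left, n4, s1]; rfl
    · exact k s (k v hv s c (by rwa [polar_comm])) a ha s1
  refine eq_top_iff.2 fun y _ => ?_
  rcases zmod2_cases (q6 y) with c | c
  · obtain ⟨n, n1, n2, -⟩ := LAx.ns3 nd6 (by simp) y 0 hd
    rw [← LAx.aa' n y]
    exact add_mem (k2 n n1) (k2 _ (by rw [Q_add, n1, c, n2]; rfl))
  · exact k2 y c

/-- an additive map that commutes with `Ω₆⁺(2)` is `0` or `1` -/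
theorem schur6 (θ : V6 →+ V6) (h : ∀ a b, q6 a = 1 → q6 b = 1 → ∀ v,
    θ ((OrthE.refl q6 a * OrthE.refl q6 b).1 v) = (OrthE.refl q6 a * OrthE.refl q6 b).1 (θ v)) :
    (∀ v, θ v = 0) ∨ ∀ v, θ v = v := by
  let u : V6 := Pi.single (.inl 0) 1
  have qu : q6 u = 0 := by rw [qPlus_apply]; decide
  have u0 : u ≠ 0 := by decide
  have k : ∀ a, q6 a = 1 → polar q6 a u = 0 → polar q6 a (θ u) = 0 := fun a ha au => by
    have ua : polar q6 u a = 0 := by rwa [polar_comm]
    have hR : Rk2 (eich q6 u a) u a := ⟨qu, ua, u0, fun e => by simp [e] at ha,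
      fun e => by rw [e, qu] at ha; exact zero_ne_one ha, rfl⟩
    have e := eich_eq_refl_mul_refl qu ua (by rw [ha]; exact one_ne_zero)
    rw [ha, one_smul, sub_zmod2] at e
    have := h a (a + u) ha (by rw [Q_add, ha, qu, au]; rfl) u
    rw [← e, eich_apply_self] at this
    rw [polar_comm]; exact (hR.fix6.1 this.symm).2
  have k2 : θ u = 0 ∨ θ u = u := LAx.mem1 nd6 fun s hs => by
    rcases zmod2_cases (q6 s) with c | c
    · obtain ⟨n, n1, n2, n3, -⟩ := LAx.ns3 nd6 (by simp) s u exists_ns6.choose_spec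
      rw [← LAx.aa' n s, polar_add_left, k n n1 n3, k (n + s) (by rw [Q_add, n1, c, n2]; rfl)
        (by rw [polar_add_left, n3, hs]; rfl)]; rfl
    · exact k s c hs
  rcases k2 with e | e
  · refine Or.inl fun v => ?_
    rcases irr6' θ.ker (fun a b ha hb v hv => by
      rw [AddMonoidHom.mem_ker] at hv ⊢; rw [h a b ha hb, hv, map_zero]) with c | c
    · exact absurd (AddSubgroup.mem_bot.1 (c ▸ (AddMonoidHom.mem_ker.2 e))) u0
    · exact AddMonoidHom.mem_ker.1 (c ▸ AddSubgroup.mem_top v)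
  · refine Or.inr fun v => ?_
    rcases irr6' (θ.eqLocus (AddMonoidHom.id V6)) (fun a b ha hb v hv => by
      change θ _ = _
      rw [h a b ha hb, show θ v = v from hv]; rfl) with c | c
    · exact absurd (AddSubgroup.mem_bot.1 (c ▸ (e : u ∈ θ.eqLocus (AddMonoidHom.id V6)))) u0
    · exact (c ▸ AddSubgroup.mem_top v : v ∈ θ.eqLocus (AddMonoidHom.id V6))

theorem irr6 (W : AddSubgroup V6) (h : ∀ a b, q6 a = 1 → q6 b = 1 → ∀ v ∈ W,
    (OrthE.refl q6 a * OrthE.refl q6 b).1 v ∈ W) : W = ⊥ ∨ W = ⊤ := irr6' W h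

namespace LAx

/-- the first basis vector -/
def e8 : V8 := Pi.single (.inl 0) 1

/-- forgetting the first hyperbolic plane -/
def μ0 : V8 →+ V6 where
  toFun w := fun i => w (Sum.map Fin.succ Fin.succ i)
  map_zero' := rfl
  map_add' _ _ := rfl

theorem polar_e8 (w : V8) : polar q8 e8 w = w (.inr 0) := by
  rw [polar_comm, e8, polar_qPlus_inl]

theorem μ0_q (w : V8) (h : polar q8 e8 w = 0) : q6 (μ0 w) = q8 w := by
  rw [polar_e8] at h
  rw [qPlus_apply, qPlus_apply, Fin.sum_univ_succ (n := 3), h, mul_zero, zero_add]; rfl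

theorem μ0_surj (v : V6) : ∃ w, polar q8 e8 w = 0 ∧ μ0 w = v :=
  ⟨Sum.elim (Fin.cons 0 fun i => v (.inl i)) (Fin.cons 0 fun i => v (.inr i)), by rw [polar_e8]; rfl,
    funext fun i => by rcases i with i | i <;> rfl⟩

theorem μ0_ker (w : V8) (h : polar q8 e8 w = 0) : μ0 w = 0 ↔ w = 0 ∨ w = e8 := by
  rw [polar_e8] at h
  refine ⟨fun e => ?_, by rintro (rfl | rfl) <;> decide⟩
  have k : w = w (.inl 0) • e8 := funext fun i => by
    rcases i with i | i <;> induction i using Fin.cases with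
    | zero => simp [e8, h]
    | succ i => first | simpa [e8, μ0] using congrFun e (.inl i) | simpa [e8, μ0] using congrFun e (.inr i)
  rcases zmod2_cases (w (.inl 0)) with c | c <;> rw [c] at k
  · exact Or.inl (by simpa using k)
  · exact Or.inr (by simpa using k)

end LAx

/-- `s^⊥ / s` -/
theorem exists_quot {s : V8} (hs : q8 s = 0) (s0 : s ≠ 0) : ∃ μ : V8 →+ V6,
    (∀ w, polar q8 s w = 0 → q6 (μ w) = q8 w) ∧ (∀ v, ∃ w, polar q8 s w = 0 ∧ μ w = v) ∧
    (∀ w, polar q8 s w = 0 → (μ w = 0 ↔ w = 0 ∨ w = s)) ∧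
    ∀ e ∈ OrthE.E q8, e.1 s = s → ∃ e' ∈ OrthE.E q6, ∀ w, polar q8 s w = 0 → μ (e.1 w) = e'.1 (μ w) := by
  obtain ⟨g, -, hg⟩ := exists_E_sing hs s0 (b := e8) (by rw [qPlus_apply]; decide) (by decide)
  have p1 : ∀ w, polar q8 s w = 0 → polar q8 e8 (g.1 w) = 0 := fun w hw => by
    rw [← hg, O_polar, hw]
  let μ : V8 →+ V6 := μ0.comp g.1.toLinearMap.toAddMonoidHom
  have m0 : ∀ w, μ w = μ0 (g.1 w) := fun _ => rfl
  have m1 : ∀ w, polar q8 s w = 0 → q6 (μ w) = q8 w := fun w hw => by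
    rw [m0, μ0_q _ (p1 w hw), O_map]
  have m2 : ∀ v w, polar q8 s v = 0 → polar q8 s w = 0 → polar q6 (μ v) (μ w) = polar q8 v w :=
    fun v w hv hw => by
      rw [polar, ← map_add, m1 v hv, m1 w hw, m1 _ (by rw [polar_add_right, hv, hw]; rfl), polar]
  refine ⟨μ, m1, fun v => ?_, fun w hw => ?_, fun e he es => ?_⟩
  · obtain ⟨w, h1, h2⟩ := μ0_surj v
    exact ⟨(g⁻¹).1 w, by rw [← O_polar g, hg, O_apply_inv_apply, h1], by
      rw [m0, O_apply_inv_apply, h2]⟩
  · rw [m0, μ0_ker _ (p1 w hw), ← hg, g.1.map_eq_zero_iff, g.1.injective.eq_iff]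
  · have ort : ∀ {e : OrthE.O q8} {w}, e.1 s = s → polar q8 s w = 0 → polar q8 s (e.1 w) = 0 :=
      fun {e w} h1 h2 => by rw [← h1, O_polar, h2]
    let J : Subgroup (OrthE.O q8) :=
      { carrier := {e | e.1 s = s ∧ ∃ e' ∈ OrthE.E q6, ∀ w, polar q8 s w = 0 → μ (e.1 w) = e'.1 (μ w)}
        one_mem' := ⟨rfl, 1, one_mem _, fun _ _ => rfl⟩
        mul_mem' := fun {a b} ⟨a1, a', a2, a3⟩ ⟨b1, b', b2, b3⟩ => ⟨by rw [O_mul_apply, b1, a1],
          a' * b', mul_mem a2 b2, fun w hw => by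
            rw [O_mul_apply, O_mul_apply, a3 _ (ort b1 hw), b3 w hw]⟩
        inv_mem' := fun {a} ⟨a1, a', a2, a3⟩ => ⟨O_inv_apply_eq a a1, a'⁻¹, inv_mem a2, fun w hw => by
          refine (O_inv_apply_eq a' ?_).symm
          rw [← a3 _ (ort (O_inv_apply_eq a a1) hw), O_apply_inv_apply]⟩ }
    have k : ∀ v, q8 v = 1 → polar q8 s v = 0 → (OrthE.refl q8 v).1 s = s ∧ ∀ w, polar q8 s w = 0 →
        μ ((OrthE.refl q8 v).1 w) = (OrthE.refl q6 (μ v)).1 (μ w) := fun v hv h => by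
      refine ⟨refl_apply_of_orth h, fun w hw => ?_⟩
      rw [refl8 hv, refl6 ((m1 v h).trans hv), m2 w v hw h, map_add]
      rcases zmod2_cases (polar q8 w v) with c | c <;> simp [c]
    exact (stab_le (J := J) (fun v w hv hw h1 h2 => by
      rw [polar_comm] at h1 h2
      exact ⟨by rw [O_mul_apply, (k w hw h2).1, (k v hv h1).1], _,
        refl_mul_mem6 ((m1 v h1).trans hv) ((m1 w h2).trans hw), fun y hy => by
          rw [O_mul_apply, O_mul_apply, (k v hv h1).2 _ (ort (k w hw h2).1 hy), (k w hw h2).2 y hy]⟩)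
      he es).2

/-- involutions of `Ω₈⁺(2)` have rank 2 or 4 -/
theorem inv8 {g : OrthE.O q8} (hg : g ∈ OrthE.E q8) (g2 : g * g = 1) (g1 : g ≠ 1) :
    (∃ u w, Rk2 g u w) ∨ (Nat.card (Fix {g}) = 16 ∧ ∀ y, g.1 y = y → ∃ v, y = g.1 v + v) := by
  rcases inv nd8 (by simp) hg g2 g1 with h | ⟨M, h0, h1, h2, h3⟩
  · exact Or.inl h
  · have := Submodule.finrank_mono h1
    rw [finrank_V8] at h3
    have e : M = Fix {g} := Submodule.eq_of_le_of_finrank_le h1 (by omega)
    exact Or.inr ⟨by rw [LAx.card_eq, show finrank (ZMod 2) (Fix {g}) = 4 by omega]; rfl,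
      fun y hy => (h0 y).1 (e ▸ mem_Fix1.2 hy)⟩

theorem Rk2.fix8 {g : OrthE.O q8} {u w : V8} (h : Rk2 g u w) {y : V8} :
    g.1 y = y ↔ polar q8 y u = 0 ∧ polar q8 y w = 0 := rk_fix h

theorem Rk2.card8 {g : OrthE.O q8} {u w : V8} (h : Rk2 g u w) : Nat.card (Fix {g}) = 64 := by
  have := rk_finrank nd8 h
  rw [finrank_V8] at this
  rw [LAx.card_eq, show finrank (ZMod 2) (Fix {g}) = 6 by omega]; rfl

/-- an involution of rank 2 is determined by its fixed vectors -/
theorem Rk2.eq8 {g g' : OrthE.O q8} {u w u' w' : V8} (h : Rk2 g u w) (h' : Rk2 g' u' w')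
    (e : ∀ y, g.1 y = y → g'.1 y = y) : g = g' := rk_eq nd8 h h' e

/-- anisotropic subspaces have at most 4 elements -/
theorem aniso_le {W : Type*} [AddCommGroup W] [Module (ZMod 2) W] [Finite W]
    {q : QuadraticForm (ZMod 2) W} (I : AddSubgroup W) (h : ∀ w ∈ I, q w = 0 → w = 0) :
    Nat.card I ≤ 4 := by
  let U : Submodule (ZMod 2) W := AddSubgroup.toZModSubmodule 2 I
  have h1 : finrank (ZMod 2) U ≤ 2 := by
    by_contra hc
    obtain ⟨v, v0, hv⟩ := exists_singular (q.comp U.subtype) (by omega)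
    exact v0 (Subtype.ext (h v v.2 hv))
  change Nat.card U ≤ 4
  rw [LAx.card_eq]
  exact Nat.pow_le_pow_right (by norm_num) h1

end CfsgLib.G2C
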