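import Cfsg.Agent.Lib.G2C.P3x

/-! Package P3a: the centraliser of Q1 (plans/G2C2.md) -/

set_option autoImplicit false
set_option linter.unusedSectionVars false

namespace CfsgLib.G2C

open Subgroup Cfsg CfsgLib.Tech CfsgLib.StdR2 CfsgLib.Chev CfsgLib.OrthE CfsgLib.ExtraTwo
  CfsgLib.Co1Rec QuadraticMap
open scoped commutatorElement

variable {F : Type*} [Field F] [Fintype F] {G : Type*} [Group G] [Finite G] {ι : Γ F →* G}

namespace P3a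

open P1

variable {V O S Q1 : Subgroup G} {n τ φ s y : G}

theorem a5 (h : S2 ι V O n τ S Q1 φ) : A5 Q1 (zz ι) φ :=
  ⟨h.es1, h.card1, h.norm1 φ h.φA h.φz, h.φz, h.φ5, h.φne⟩

theorem comm_conj {g a b : G} (h : Commute a b) : Commute (g * a * g⁻¹) (g * b * g⁻¹) :=
  h.map (MulAut.conj g).toMonoidHom

/-- stage 2 with an involution `y` of `Q₁` that moves `s` -/
structure Dat (ι : Γ F →* G) (V O : Subgroup G) (n τ : G) (S Q1 : Subgroup G) (φ s y : G) : Prop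
    extends S2 ι V O n τ S Q1 φ where
  sZ : s ∈ ZZ ι
  s1 : s ≠ 1
  sz : s ≠ zz ι
  yQ : y ∈ Q1
  y2 : y * y = 1
  ys : ¬ Commute y s

namespace Dat

variable (h : Dat ι V O n τ S Q1 φ s y)
include h

theorem sQ : s ∈ Q1 := h.ZQ1 h.sZ

theorem yi : y⁻¹ = y := inv_eq_of_mul_eq_one_right h.y2

theorem SZ {c ζ : G} (hc : c ∈ S) (hζ : ζ ∈ ZZ ι) : Commute c ζ := h.SL c hc ζ (ZZ_le_LL hζ)

theorem VS : V ≤ S := le_sup_left.trans h.leS

theorem SQ1 : S ≤ normalizer (Q1 : Set G) := fun c hc =>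
  h.norm1 c (fun a ha => h.SL c hc a (A2_le_LL ha)) (h.SZ hc zz_mem)

theorem EQ1 {e : G} (he : e ∈ EE ι V) (hq : e ∈ Q1) : e ∈ ZZ ι :=
  (h.mem_ZZ h.sZ h.s1 h.sz).2 (min_four h.es1 (a5 h.toS2).min h.sQ hq (h.sqZ h.sZ) (h.sqE he)
    (h.commE (mem_sup_right h.sZ) he) h.s1 h.sz)

theorem memW {q : G} (hq : q ∈ Q1) (hc : Commute q s) : q ∈ S := by
  have h1 : S ⊓ Q1 ≤ Q1 ⊓ centralizer {s} := fun c hc =>
    ⟨hc.2, mem_centralizer_singleton_iff.2 (h.SZ hc.1 h.sZ)⟩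
  have h3 : Nat.card (Q1 ⊓ centralizer {s} : Subgroup G) ∣ 32 :=
    h.card1 ▸ card_dvd_of_le inf_le_left
  have h4 : Nat.card (Q1 ⊓ centralizer {s} : Subgroup G) ≠ 32 := fun e => by
    have := eq_of_le_of_card_ge (inf_le_left : Q1 ⊓ centralizer {s} ≤ Q1) (by rw [e, h.card1])
    exact h.ys (mem_centralizer_singleton_iff.1 (this.ge h.yQ).2)
  have h5 := eq_of_le_of_card_ge h1 (by
    rw [h.cardSQ]
    obtain ⟨k, hk⟩ := h3
    rcases k with _ | _ | k <;> [omega; omega; nlinarith])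
  exact (h5.ge ⟨hq, mem_centralizer_singleton_iff.2 hc⟩).1

theorem mul_memW {q q' : G} (hq : q ∈ Q1) (hq' : q' ∈ Q1) (h1 : ¬ Commute q s) (h2 : ¬ Commute q' s) :
    q * q' ∈ S := h.memW (mul_mem hq hq') (h.es1.mul_comm_of_not_comm h.sQ hq hq' h1 h2)

theorem Q1S : Q1 ≤ normalizer (S : Set G) := fun q hq => mem_normalizer_of_forall fun c hc => by
  by_cases h1 : Commute q s
  · exact mul_mem (mul_mem (h.memW hq h1) hc) (inv_mem (h.memW hq h1))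
  have h2 := h.mul_memW hq (conj_mem_of_mem_normalizer (h.SQ1 hc) (inv_mem hq)) h1 fun e => h1 (by
    have := (((h.SZ hc h.sZ).inv_left.mul_left e).mul_left (h.SZ hc h.sZ)).inv_left
    rwa [show (c⁻¹ * (c * q⁻¹ * c⁻¹) * c)⁻¹ = q by group] at this)
  have := mul_mem h2 hc
  rwa [show q * (c * q⁻¹ * c⁻¹) * c = q * c * q⁻¹ by group] at this

theorem commQ1 {g : G} (h1 : ∀ c ∈ S, Commute g c) (h2 : Commute g y) {q : G} (hq : q ∈ Q1) :
    Commute g q := by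
  by_cases h3 : Commute q s
  · exact h1 q (h.memW hq h3)
  have := (h1 _ (h.mul_memW hq h.yQ h3 h.ys)).mul_right h2.inv_right
  rwa [mul_inv_cancel_right] at this

theorem SE : S ≤ normalizer (EE ι V : Set G) := fun c hc => mem_normalizer_of_forall fun e he => by
  have := mul_mem (mem_sup_right (h.commS c hc e (h.leS he)) : _ ∈ EE ι V) he
  rwa [commutatorElement_def, inv_mul_cancel_right] at this

theorem exists_mul {W : Subgroup G} (h1 : W ≤ S) (h2 : Nat.card W = 16)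
    (h3 : ∀ e ∈ EE ι V, e ∈ W → e ∈ ZZ ι) {c : G} (hc : c ∈ S) :
    ∃ w ∈ W, ∃ e ∈ EE ι V, w * e = c := by
  have h4 := Coprime.card_sup_mul_card_inf (h1.trans h.SE)
  have h5 : Nat.card (EE ι V ⊓ W : Subgroup G) ≤ 4 :=
    h.cardZ ▸ card_le_of_le fun e he => h3 e he.1 he.2
  rw [h.cardE, h2] at h4
  have h6 := eq_of_le_of_card_ge (sup_le h.leS h1) (by rw [h.cardS]; nlinarith)
  rw [sup_comm] at h6
  exact (Coprime.mem_sup_iff_of_le_normalizer' (h1.trans h.SE)).1 (h6.ge hc)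

theorem centW {c : G} (hc : c ∈ S) (h1 : ∀ w ∈ S ⊓ Q1, Commute c w) : c ∈ ZZ ι := by
  by_cases h2 : c ∈ EE ι V
  · by_contra h3
    have h4 : S ⊓ Q1 ≤ ZZ ι := fun w hw =>
      h.EQ1 (by_contra fun e => h3 (h.cenS w hw.1 e c h2 (h1 w hw).symm)) hw.2
    have := card_le_of_le h4
    rw [h.cardSQ, h.cardZ] at this
    omega
  obtain ⟨w, hw, e, he, rfl⟩ := h.exists_mul inf_le_left h.cardSQ (fun e he hw => h.EQ1 he hw.2) hc
  have h3 := (h1 w hw).inv_right.mul_right (Commute.refl _)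
  rw [inv_mul_cancel_left] at h3
  have h4 := cent_cent h.es1 h.sQ (mul_mem hw.2 (h.ZQ1 (h.cenS _ hc h2 e he h3)))
    fun q hq h5 => (h1 q ⟨h.memW hq h5, hq⟩).symm
  have h5 : w * e * s ∈ ZZ ι → w * e ∈ ZZ ι := fun e => (Subgroup.mul_mem_cancel_right _ h.sZ).1 e
  rcases h4 with e | e | e | e
  exacts [e ▸ one_mem _, e ▸ zz_mem, h5 (e ▸ one_mem _), h5 (e ▸ zz_mem)]

theorem yZ : y ∈ normalizer (ZZ ι : Set G) := mem_normalizer_of_forall fun ζ hζ => by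
  rcases h.es1.conj (h.ZQ1 hζ) h.yQ with e | e <;> rw [e]
  exacts [hζ, mul_mem hζ zz_mem]

theorem yE {e : G} (he : e ∈ EE ι V) (h1 : y * e * y⁻¹ ∈ EE ι V) : e ∈ ZZ ι := by
  obtain ⟨v, hv, ζ, hζ, rfl⟩ := h.mem_E.1 he
  by_cases v1 : v = 1
  · rwa [v1, one_mul]
  exfalso
  have h2 : v⁻¹ * y * v * y⁻¹ ∈ ZZ ι := by
    refine h.EQ1 ?_ (mul_mem (conj_mem_of_mem_normalizer' (h.SQ1 (h.VS hv)) h.yQ) (inv_mem h.yQ))
    have := mul_mem (mul_mem (inv_mem (mem_sup_left hv)) h1)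
      (mem_sup_right (inv_mem (conj_mem_of_mem_normalizer h.yZ hζ)))
    rwa [show v⁻¹ * (y * (v * ζ) * y⁻¹) * (y * ζ * y⁻¹)⁻¹ = v⁻¹ * y * v * y⁻¹ by group] at this
  obtain ⟨c, hc, e⟩ := h.trans v hv v1 _ h2
  have h3 : Commute (c⁻¹ * y) v := by
    have : c⁻¹ * y * v * (c⁻¹ * y)⁻¹ = v := by
      rw [show c⁻¹ * y * v * (c⁻¹ * y)⁻¹ = c⁻¹ * (v * (v⁻¹ * y * v * y⁻¹)) * c by group, ← e]; group
    exact mul_inv_eq_iff_eq_mul.1 this
  obtain ⟨k, hk, a, ha, e⟩ := h.centHA2 (h.mem_H_of_comm (h.VK hv) (h.orderOf_V hv v1) h3)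
    fun a ha => (h.SL c hc a (A2_le_LL ha)).inv_left.mul_left (h.Q1A y h.yQ a ha)
  have h4 := (comm_KA hk (XX_le 11 zz_mem)).inv_left.mul_left
    (e ▸ (h.SZ hc zz_mem).inv_left.mul_left (h.es1.comm_z y h.yQ))
  rw [inv_mul_cancel_left] at h4
  have h5 := (h.SZ hc h.sZ).mul_left (e ▸ (comm_KA hk (XX_le 11 h.sZ)).mul_left
    (h.LZ (h.cent_zz (A1_le ha) h4) h.sZ) : Commute (c⁻¹ * y) s)
  rw [mul_inv_cancel_left] at h5
  exact h.ys h5

theorem PS : cj y (EE ι V) ≤ S := cj_le_iff.2 fun _ he => conj_mem_of_mem_normalizer (h.Q1S h.yQ) (h.leS he)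

theorem ZP : ZZ ι ≤ cj y (EE ι V) := (mem_normalizer_iff_cj.1 h.yZ).ge.trans (cj_mono y le_sup_right)

theorem PE {p : G} (hp : p ∈ cj y (EE ι V)) (he : p ∈ EE ι V) : p ∈ ZZ ι := by
  have := conj_mem_of_mem_normalizer h.yZ (h.yE (mem_cj.1 hp) (by simpa [mul_assoc] using he))
  simpa [mul_assoc] using this

theorem sqP {p : G} (hp : p ∈ cj y (EE ι V)) : p * p = 1 := by
  obtain ⟨e, he, rfl⟩ := hp
  rw [← map_mul, h.sqE he, map_one]

theorem commP {p q : G} (hp : p ∈ cj y (EE ι V)) (hq : q ∈ cj y (EE ι V)) : Commute p q :=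
  comm_of_sq (h.sqP hp) (h.sqP hq) (h.sqP (mul_mem hp hq))

theorem τP {p : G} (hp : p ∈ cj y (EE ι V)) : τ * p * τ⁻¹ ∈ cj y (EE ι V) := by
  by_cases h1 : p ∈ EE ι V
  · exact h.ZP (conj_mem_of_mem_normalizer h.tau.nZ (h.PE hp h1))
  obtain ⟨w, hw, e, he, e1⟩ := h.exists_mul h.PS (by rw [card_cj, h.cardE]) (fun e he hp => h.PE hp he)
    (conj_mem_of_mem_normalizer h.τS (h.PS hp))
  have h2 : w ∉ EE ι V := fun h2 => h1 (by
    have := conj_mem_of_mem_normalizer' (h.tau_NE h.tau) (e1 ▸ mul_mem h2 he)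
    simpa [mul_assoc] using this)
  exact e1 ▸ mul_mem hw (h.ZP (h.cenS w (h.PS hw) h2 e he (comm_of_sq (h.sqP hw) (h.sqE he)
    (by rw [e1, conj_mul, h.sqP hp]; simp))))

theorem comm_Os {c o : G} (hc : c ∈ S) (ho : o ∈ Os ι V) : Commute ⁅τ, c⁆ o := by
  obtain ⟨e, he, h1⟩ := h.OsS c hc
  have h2 := (comm_KA (Os_le ho) h.tau.memA).symm
  have h3 : ⁅τ, e⁆ ∈ ZZ ι := by
    obtain ⟨w, hw, ζ, hζ, rfl⟩ := h.mem_E.1 he
    exact comm_mem_of h.tau.nZ (comm_KA (h.VK hw) h.tau.memA).symm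
      (fun ξ hξ => h.commE (mem_sup_left hw) (mem_sup_right hξ)) hζ
  have h4 := (((h2.mul_left (h1 o ho)).mul_left h2.inv_left).mul_left (h1 o ho).inv_left).mul_left
    (comm_KA (Os_le ho) (XX_le 11 h3)).symm.inv_left
  rwa [show τ * (c * e) * τ⁻¹ * (c * e)⁻¹ = ⁅τ, c⁆ * (c * ⁅τ, e⁆ * c⁻¹) by
    simp only [commutatorElement_def]; group, (h.SZ hc h3).eq, mul_inv_cancel_right,
    mul_inv_cancel_right] at h4

theorem P_Os {p o : G} (hp : p ∈ cj y (EE ι V)) (ho : o ∈ Os ι V) : Commute p o := by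
  obtain ⟨p1, e1⟩ : ∃ p1, τ * p * τ⁻¹ = p1 := ⟨_, rfl⟩
  obtain ⟨p2, e2⟩ : ∃ p2, τ * p1 * τ⁻¹ = p2 := ⟨_, rfl⟩
  have h1 : p1 ∈ cj y (EE ι V) := e1 ▸ h.τP hp
  have h2 : p2 ∈ cj y (EE ι V) := e2 ▸ h.τP h1
  have e3 : τ * p2 * τ⁻¹ = p := by
    rw [← e2, ← e1, show τ * (τ * (τ * p * τ⁻¹) * τ⁻¹) * τ⁻¹ = τ ^ 3 * p * (τ ^ 3)⁻¹ by
      simp [pow_succ, mul_assoc], h.tau.cube]; simp
  have h4 := h.comm_Os (h.PS h1) ho
  rw [commutatorElement_def, e2] at h4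
  have h5 := mul_mem (mul_mem hp h1) h2
  have h6 : Commute τ (p * p1 * p2) := by
    have : τ * (p * p1 * p2) * τ⁻¹ = p * p1 * p2 := by
      rw [← conj_mul, ← conj_mul, e1, e2, e3, (h.commP (mul_mem h1 h2) hp).eq, mul_assoc]
    exact mul_inv_eq_iff_eq_mul.1 this
  have h7 := h.tau.fZ _ (h.PE h5 (h.τf _ (h.PS h5) (by
    rw [commutatorElement_eq_one_iff_commute.2 h6]; exact one_mem _))) h6
  rwa [show p = p2 * p1⁻¹ by
    rw [← inv_eq_of_mul_eq_one_right (h.sqP h2), ← mul_inv_rev, eq_inv_iff_mul_eq_one, ← mul_assoc, h7]]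

theorem Oy {o : G} (ho : o ∈ O) : Commute o y := by
  have hS : ∀ c ∈ S, Commute o c := fun c hc => (h.SO c hc o ho).symm
  have h1 := conj_mem_of_mem_normalizer (h.norm1 o (fun a ha => comm_KA (h.OK ho) (LL_le (A2_le_LL ha)))
    (comm_KA (h.OK ho) (XX_le 11 zz_mem))) h.yQ
  have os : Commute o s := comm_KA (h.OK ho) (XX_le 11 h.sZ)
  have h2 := h.mul_memW h.yQ h1 h.ys fun e => h.ys (by
    have := (os.inv_left.mul_left e).mul_left os
    rwa [show o⁻¹ * (o * y * o⁻¹) * o = y by group] at this)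
  have h3 := mul_mem h.yQ h1
  obtain ⟨w, e⟩ : ∃ w, y * (o * y * o⁻¹) = w := ⟨_, rfl⟩
  rw [e] at h2 h3
  have e1 : o * y * o⁻¹ = y * w := by rw [← e, ← mul_assoc, h.y2, one_mul]
  have e2 : ∀ k : ℕ, o ^ k * y * (o ^ k)⁻¹ = y * w ^ k := fun k => by
    induction k with
    | zero => simp
    | succ k ih =>
      rw [pow_succ', show o * o ^ k * y * (o * o ^ k)⁻¹ = o * (o ^ k * y * (o ^ k)⁻¹) * o⁻¹ by group, ih,
        ← conj_mul, e1, ((hS w h2).pow_right k).eq, mul_inv_cancel_right, mul_assoc, ← pow_succ']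
  have h4 : Commute (o ^ 4) y := by
    have := e2 4
    rw [h.es1.pow_four h3, mul_one] at this
    exact mul_inv_eq_iff_eq_mul.1 this
  have h5 : orderOf o ∣ Nat.card O := by rw [← orderOf_mk o ho]; exact orderOf_dvd_natCard _
  obtain ⟨m, hm⟩ := exists_pow_eq_self_of_coprime (x := o) (n := 4)
    (((Nat.coprime_two_left.2 h.odd).pow_left 2).coprime_dvd_right h5)
  exact hm ▸ h4.pow_left m

theorem mem_L {o l : G} (ho : o ∈ O) (hl : l ∈ LL ι) (h2 : o * l * (o * l) = 1) : o = 1 := by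
  rw [(comm_KA (h.OK ho) (LL_le hl)).symm.mul_mul_mul_comm] at h2
  refine eq_one_of_odd h.odd ho (k := 1) (h.eq_one_KA (Subgroup.pow_mem _ (h.OK ho) _) ?_)
  rw [pow_one, pow_two, eq_inv_of_mul_eq_one_left h2]
  exact inv_mem (LL_le (mul_mem hl hl))

theorem yL : y ∈ normalizer (LL ι : Set G) := by
  refine mem_normalizer_of_cj_le (map_le_iff_le_comap.2 (h.genL.trans ((closure_le _).2 ?_)))
  rintro l ⟨hl, l2⟩
  obtain ⟨o, ho, l', hl', e⟩ := h.cS (y * l * y⁻¹) fun c hc => by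
    have := comm_conj (g := y) (h.SL _ (conj_mem_of_mem_normalizer' (h.Q1S h.yQ) hc) l hl).symm
    rwa [show y * (y⁻¹ * c * y) * y⁻¹ = c by group] at this
  show y * l * y⁻¹ ∈ LL ι
  rwa [e, h.mem_L ho hl' (by rw [← e, conj_mul, l2]; simp), one_mul]

theorem yR : y ∈ normalizer (RA ι : Set G) :=
  mem_normalizer_of_cj_le (h.twoL ((cj_mono y RA_le_LL).trans (mem_normalizer_iff_cj.1 h.yL).le)
    (by rw [← cj_normalizer, ← mem_normalizer_iff_cj.1 h.yL]; exact cj_mono y h.LR) (isPGroup_cj y h.twoR))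

theorem Os_le_O {o : G} (ho : o ∈ Os ι V) : o ∈ O := by
  obtain ⟨v, hv, o', ho', l, hl, e⟩ := (h.cE (c := y⁻¹ * o * y)).1 fun e he => by
    have := comm_conj (g := y⁻¹) (h.P_Os (conj_mem_cj.2 he) ho).symm
    rwa [inv_inv, show y⁻¹ * (y * e * y⁻¹) * y = e by group] at this
  have hk : v * o' ∈ KK ι := mul_mem (h.VK hv) (h.OK ho')
  have h1 : (v * o') ^ Nat.card (Os ι V) * l ^ Nat.card (Os ι V) = 1 := by
    have : o ^ Nat.card (Os ι V) = 1 :=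
      congrArg Subtype.val (pow_card_eq_one' (x := (⟨o, ho⟩ : Os ι V)))
    rw [← (comm_KA hk (LL_le hl)).mul_pow, ← e, ← inv_inv y, inv_inv y⁻¹, conj_pow, this]; simp
  have h2 := h.v_eq_one hv ho' h.odd_Os (h.eq_one_KA (Subgroup.pow_mem _ hk _) (by
    rw [eq_inv_of_mul_eq_one_left h1]; exact inv_mem (Subgroup.pow_mem _ (LL_le hl) _)))
  have h3 : o'⁻¹ * o = y * l * y⁻¹ := by
    rw [h2, one_mul] at e
    rw [inv_mul_eq_iff_eq_mul, ← mul_assoc, ← mul_assoc, (h.Oy ho').eq, mul_assoc y, ← e]; group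
  have h4 := h.eq_one_KA (mul_mem (inv_mem (h.OK ho')) (Os_le ho))
    (h3 ▸ LL_le (conj_mem_of_mem_normalizer h.yL hl))
  rwa [← inv_mul_eq_one.1 h4]

theorem cK {v : G} (hv : v ∈ V) (v1 : v ≠ 1) {k : G} (hk : k ∈ KK ι) (hc : Commute k v) :
    ∃ w ∈ V, ∃ o ∈ O, k = w * o := by
  refine h.cV k hk fun w hw => commutatorElement_eq_one_iff_commute.1 ?_
  have ho := h.Os_le_O (h.toS0.comm_Os hv v1 hk hc hw)
  refine eq_one_of_odd h.odd ho (k := 1) ?_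
  have h1 := (h.OV _ ho w hw).symm.mul_mul_mul_comm ⁅k, w⁆ w
  rw [h.sqV w hw, mul_one, commutatorElement_def, inv_mul_cancel_right, conj_mul, h.sqV w hw] at h1
  rw [pow_one, pow_two, commutatorElement_def, ← h1]; simp

/-! ### `Q₂` -/

theorem sy : ⁅s, y⁆ = zz ι :=
  (h.es1.commutator h.sQ h.yQ).resolve_left fun e => h.ys (commutatorElement_eq_one_iff_commute.1 e).symm

theorem CZy {ζ : G} (hζ : ζ ∈ ZZ ι) (hc : Commute ζ y) : ζ = 1 ∨ ζ = zz ι := by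
  rcases (h.mem_ZZ h.sZ h.s1 h.sz).1 hζ with e | e | e | e
  · exact Or.inl e
  · exact Or.inr e
  · exact absurd (e ▸ hc).symm h.ys
  · have := (Commute.symm (h.es1.comm_z y h.yQ)).mul_left (e ▸ hc)
    rw [h.es1.zz] at this
    exact absurd this.symm h.ys

theorem yinv (r : G) : y * ⁅r, y⁆ * y⁻¹ = ⁅r, y⁆⁻¹ := by
  simp only [commutatorElement_def, mul_inv_rev, inv_inv, h.yi]
  rw [show y * (r * y * r⁻¹ * y) * y = y * (r * (y * r⁻¹)) * (y * y) by group, h.y2, mul_one]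

theorem memM {r : G} (hr : r ∈ RA ι) (hc : ⁅r, y⁆ ∈ ZZ ι) : r ∈ RA ι ⊓ centralizer {y} ⊔ ZZ ι := by
  have h1 := h.yinv r
  rw [inv_eq_of_mul_eq_one_right (h.sqZ hc)] at h1
  rcases h.CZy hc (Commute.symm (mul_inv_eq_iff_eq_mul.1 h1)) with e | e
  · exact mem_sup_left ⟨hr, mem_centralizer_singleton_iff.2 (commutatorElement_eq_one_iff_commute.1 e)⟩
  refine (Subgroup.mul_mem_cancel_right _ (mem_sup_right h.sZ)).1 (mem_sup_left
    ⟨mul_mem hr (ZZ_le_RA h.sZ), mem_centralizer_singleton_iff.2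
      (commutatorElement_eq_one_iff_commute.1 ?_)⟩)
  rw [show ⁅r * s, y⁆ = r * ⁅s, y⁆ * r⁻¹ * ⁅r, y⁆ by simp only [commutatorElement_def]; group, h.sy, e,
    h.conjZ (RA_le_LL hr) zz_mem, h.es1.mul_self]

theorem commM {r : G} (hr : r ∈ RA ι) : ⁅r, y⁆ ∈ RA ι ⊓ centralizer {y} ⊔ ZZ ι := by
  have h1 : ⁅r, y⁆ ∈ RA ι := by
    have := mul_mem hr (conj_mem_of_mem_normalizer h.yR (inv_mem hr))
    rwa [show r * (y * r⁻¹ * y⁻¹) = ⁅r, y⁆ by rw [commutatorElement_def]; group] at this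
  refine h.memM h1 ?_
  have h2 := h.yinv r
  rw [show ⁅⁅r, y⁆, y⁆ = ⁅r, y⁆ * (y * ⁅r, y⁆ * y⁻¹)⁻¹ by rw [commutatorElement_def ⁅r, y⁆]; group, h2,
    inv_inv]
  exact h.sqR h1

theorem A2Q : A2 ι ≤ normalizer ((RA ι ⊓ centralizer {y} : Subgroup G) : Set G) := fun a ha =>
  mem_normalizer_of_forall fun _ hu => ⟨conj_mem_of_mem_normalizer (h.A2R ha) hu.1,
    mem_centralizer_singleton_iff.2 (((h.Q1A y h.yQ a ha).symm.mul_left
      (mem_centralizer_singleton_iff.1 hu.2)).mul_left (h.Q1A y h.yQ a ha).symm.inv_left)⟩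

theorem nsup {a : G} (ha : a ∈ A2 ι) {B : Subgroup G} (hB : a ∈ normalizer (B : Set G)) :
    a ∈ normalizer ((B ⊔ ZZ ι : Subgroup G) : Set G) := by
  rw [mem_normalizer_iff_cj, cj_sup, mem_normalizer_iff_cj.1 hB,
    mem_normalizer_iff_cj.1 (h.LnZ (A2_le_LL ha))]

theorem mem_supZ {B : Subgroup G} (hB : B ≤ RA ι) {m : G} (hm : m ∈ B ⊔ ZZ ι) :
    ∃ u ∈ B, ∃ ζ ∈ ZZ ι, u * ζ = m :=
  (Coprime.mem_sup_iff_of_le_normalizer' (hB.trans (RA_le_LL.trans h.LnZ))).1 hm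

theorem comm_mulZ {u u' ζ ζ' : G} (hu : u ∈ RA ι) (hu' : u' ∈ RA ι) (hζ : ζ ∈ ZZ ι) (hζ' : ζ' ∈ ZZ ι) :
    ⁅u * ζ, u' * ζ'⁆ = ⁅u, u'⁆ := by
  have h1 := h.LZ (RA_le_LL (mul_mem hu' (ZZ_le_RA hζ'))) hζ
  have h2 := h.LZ (RA_le_LL (inv_mem hu)) hζ'
  rw [show ⁅u * ζ, u' * ζ'⁆ = u * (ζ * (u' * ζ') * ζ⁻¹) * u⁻¹ * (u' * ζ')⁻¹ by
    rw [commutatorElement_def]; group, ← h1.eq, mul_inv_cancel_right,
    show u * (u' * ζ') * u⁻¹ * (u' * ζ')⁻¹ = u * u' * (ζ' * u⁻¹) * (u' * ζ')⁻¹ by group, ← h2.eq,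
    commutatorElement_def]
  group

theorem cardQ2 : Nat.card (RA ι ⊓ centralizer {y} : Subgroup G) = 32 := by
  obtain ⟨f, hf⟩ := h.exists_five
  have h1 := Coprime.card_sup_mul_card_inf (K := ZZ ι) (A := RA ι ⊓ centralizer {y})
    (inf_le_left.trans (RA_le_LL.trans h.LnZ))
  have h2 : ZZ ι ⊓ (RA ι ⊓ centralizer {y}) = zpowers (zz ι) := le_antisymm
    (fun ζ hζ => h.es1.mem_zpowers.2 (h.CZy hζ.1 (mem_centralizer_singleton_iff.1 hζ.2.2)))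
    (zpowers_le.2 ⟨zz_mem, ZZ_le_RA zz_mem, mem_centralizer_singleton_iff.2 (h.es1.comm_z y h.yQ).symm⟩)
  rw [h2, card_z h.es1, h.cardZ, sup_comm] at h1
  have h3 : RA ι ⊓ centralizer {y} ⊔ ZZ ι ≤ RA ι := sup_le inf_le_left ZZ_le_RA
  rcases h.card_five hf le_sup_right h3 (h.nsup hf.mem (h.A2Q hf.mem)) with e | e | e
  · have h4 := eq_of_le_of_card_ge (le_sup_right : ZZ ι ≤ RA ι ⊓ centralizer {y} ⊔ ZZ ι)
      (by rw [e, h.cardZ])
    have h5 := card_le_of_le (show RA ι ≤ RA ι ⊓ centralizer {y} ⊔ ZZ ι from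
      fun r hr => h.memM hr (h4.ge (h.commM hr)))
    rw [e, h.cardRA] at h5
    omega
  · omega
  · have h4 := eq_of_le_of_card_ge h3 (by rw [e, h.cardRA])
    obtain ⟨r, hr, r', hr', e1⟩ := h.exists_commR h.sZ
    obtain ⟨u, hu, ζ, hζ, rfl⟩ := h.mem_supZ inf_le_left (h4.ge hr)
    obtain ⟨u', hu', ζ', hζ', rfl⟩ := h.mem_supZ inf_le_left (h4.ge hr')
    rw [h.comm_mulZ hu.1 hu'.1 hζ hζ'] at e1
    have h5 : ⁅u, u'⁆ ∈ centralizer ({y} : Set G) :=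
      mul_mem (mul_mem (mul_mem hu.2 hu'.2) (inv_mem hu.2)) (inv_mem hu'.2)
    exact absurd (Commute.symm (mem_centralizer_singleton_iff.1 (e1 ▸ h5))) h.ys

theorem not_le_Z : ¬ RA ι ⊓ centralizer {y} ≤ ZZ ι := fun e => by
  have := card_le_of_le e
  rw [h.cardQ2, h.cardZ] at this
  omega

theorem cenQ2 {u : G} (hu : u ∈ RA ι ⊓ centralizer {y})
    (hc : ∀ q ∈ RA ι ⊓ centralizer {y}, q * u = u * q) : u ∈ ZZ ι := by
  by_contra hn
  set Q2 := RA ι ⊓ centralizer {y} with hQ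
  have h0 : Q2 ⊓ centralizer (Q2 : Set G) ≤ RA ι := inf_le_left.trans inf_le_left
  obtain ⟨a, ha, b, hb, h1⟩ := h.nonab (M := Q2 ⊓ centralizer (Q2 : Set G) ⊔ ZZ ι)
    (lt_of_le_of_ne le_sup_right fun e => hn (e.ge (mem_sup_left ⟨hu, hc⟩))) (sup_le h0 ZZ_le_RA)
    fun a ha => h.nsup ha (by
      rw [mem_normalizer_iff_cj, cj_inf, cj_centralizer, mem_normalizer_iff_cj.1 (h.A2Q ha)])
  obtain ⟨u, hu, ζ, hζ, rfl⟩ := h.mem_supZ h0 ha
  obtain ⟨u', hu', ζ', hζ', rfl⟩ := h.mem_supZ h0 hb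
  rw [← commutatorElement_eq_one_iff_commute, h.comm_mulZ (h0 hu) (h0 hu') hζ hζ',
    commutatorElement_eq_one_iff_commute] at h1
  exact h1 (hu'.2 u hu.1)

theorem es2 : ES (RA ι ⊓ centralizer {y}) (zz ι) where
  ne_one := h.zz_ne
  mul_self := h.es1.mul_self
  mem := ⟨ZZ_le_RA zz_mem, mem_centralizer_singleton_iff.2 (h.es1.comm_z y h.yQ).symm⟩
  comm_z := fun _ hx => h.LZ (RA_le_LL hx.1) zz_mem
  center := fun _ hx hc => h.CZy (h.cenQ2 hx hc) (mem_centralizer_singleton_iff.1 hx.2)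
  comm := fun a ha b hb => by
    have h5 : ⁅a, b⁆ ∈ centralizer ({y} : Set G) :=
      mul_mem (mul_mem (mul_mem ha.2 hb.2) (inv_mem ha.2)) (inv_mem hb.2)
    refine (h.CZy (h.commR ha.1 hb.1) (mem_centralizer_singleton_iff.1 h5)).imp
      (fun e => commutatorElement_eq_one_iff_commute.1 e) fun e => ?_
    rw [← e, commutatorElement_def]; group
  nonab := by
    by_contra hn
    push Not at hn
    exact h.not_le_Z fun u hu => h.cenQ2 hu fun q hq => hn q hq u hu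

theorem min2 : MinusType (RA ι ⊓ centralizer {y}) (zz ι) 1 := by
  obtain ⟨f, hf⟩ := h.exists_five
  refine A5.min (g := f) ⟨h.es2, h.cardQ2, h.A2Q hf.mem, h.LZ (A2_le_LL hf.mem) zz_mem,
    fun q _ => hf.pow ▸ Commute.one_left q, ?_⟩
  by_contra hn
  push Not at hn
  exact h.not_le_Z fun u hu => hf.fR u hu.1 (by
    rw [commutatorElement_eq_one_iff_commute.2 (hn u hu)]; exact one_mem _)

theorem RQ {r q : G} (hr : r ∈ RA ι) (hq : q ∈ Q1) : ⁅r, q⁆ ∈ Q1 ⊔ RA ι ⊓ centralizer {y} := by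
  by_cases h1 : Commute q s
  · rw [commutatorElement_eq_one_iff_commute.2 (h.SL q (h.memW hq h1) r (RA_le_LL hr)).symm]
    exact one_mem _
  have h2 := (h.SL _ (h.mul_memW h.yQ hq h.ys h1) r (RA_le_LL hr)).symm
  have e : ⁅r, q⁆ = ⁅r, y⁆ := by
    rw [show ⁅r, q⁆ = r * y⁻¹ * r⁻¹ * (r * (y * q)) * r⁻¹ * q⁻¹ by rw [commutatorElement_def]; group,
      h2.eq, commutatorElement_def, h.yi]
    group
  exact e ▸ (sup_le le_sup_right (h.ZQ1.trans le_sup_left)) (h.commM hr)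

theorem ne2 {a : G} (ha : a ∈ A2 ι) (hc : ∀ u ∈ RA ι ⊓ centralizer {y}, ⁅a, u⁆ ∈ ZZ ι) : a = 1 := by
  obtain ⟨f, hf⟩ := h.exists_five
  rcases simple_inf (B := cmod (RA ι ⊓ centralizer {y}) (ZZ ι)) h.simpleA2
    (fun b hb => mem_normalizer_of_forall fun _ hx =>
      conj_mem_cmod (h.A2Q hb) (h.LnZ (A2_le_LL hb)) hx) with e | e
  · exact mem_bot.1 (e.le ⟨⟨h.LnZ (A2_le_LL ha), hc⟩, ha⟩)
  · exact absurd (fun u hu => hf.fR u hu.1 ((e hf.mem).2 u hu)) h.not_le_Z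

/-! ### the centraliser of `Q₁` -/

theorem cQ1_of {o u a : G} (ho : o ∈ O) (hu : u ∈ RA ι ⊓ centralizer {y}) (ha : a ∈ A2 ι) {q : G}
    (hq : q ∈ Q1) : Commute (o * u * a) q :=
  ((h.commQ1 (fun c hc => (h.SO c hc o ho).symm) (h.Oy ho) hq).mul_left
    (h.commQ1 (fun c hc => (h.SL c hc u (RA_le_LL hu.1)).symm)
      (mem_centralizer_singleton_iff.1 hu.2) hq)).mul_left (h.Q1A q hq a ha).symm

theorem cvZ {v g : G} (hv : v ∈ V) (v1 : v ≠ 1) (h1 : Commute g v) (h2 : ∀ ζ ∈ ZZ ι, Commute g ζ) :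
    ∃ w ∈ V, ∃ o ∈ O, ∃ l ∈ LL ι, g = w * o * l := by
  obtain ⟨k, hk, a, ha, rfl⟩ := mem_KA.1 (h.inner_of_Z
    (h.norm ▸ h.mem_H_of_comm (h.VK hv) (h.orderOf_V hv v1) h1) h2)
  have h3 := h1.mul_left (comm_KA (h.VK hv) ha).symm.inv_left
  have h4 := (comm_KA hk (XX_le 11 zz_mem)).inv_left.mul_left (h2 _ zz_mem)
  rw [mul_inv_cancel_right] at h3
  rw [inv_mul_cancel_left] at h4
  obtain ⟨w, hw, o, ho, rfl⟩ := h.cK hv v1 hk h3
  exact ⟨w, hw, o, ho, a, h.cent_zz ha h4, rfl⟩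

theorem cent_OL {c o l : G} (hc : c ∈ S) (ho : o ∈ O) (hl : l ∈ LL ι)
    (hg : ∀ q ∈ Q1, Commute (c * o * l) q) : c ∈ ZZ ι :=
  h.centW hc fun w hw => by
    have := (hg w hw.2).mul_left ((h.SO w hw.1 o ho).mul_right (h.SL w hw.1 l hl)).symm.inv_left
    rwa [show c * o * l * (o * l)⁻¹ = c by group] at this

theorem CYv {v g : G} (hv : v ∈ V) (v1 : v ≠ 1) (hg : ∀ q ∈ Q1, Commute g q) (h1 : Commute g v) :
    ∃ o ∈ O, ∃ u ∈ RA ι ⊓ centralizer {y}, ∃ a ∈ A2 ι, g = o * u * a := by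
  obtain ⟨w, hw, o, ho, l, hl, rfl⟩ := h.cvZ hv v1 h1 fun ζ hζ => hg ζ (h.ZQ1 hζ)
  obtain rfl : w = 1 := mem_bot.1 (h.V_inf_Z.le ⟨hw, h.cent_OL (h.VS hw) ho hl hg⟩)
  obtain ⟨r, hr, a, ha, rfl⟩ := h.mem_LL.1 hl
  refine ⟨o, ho, r, ⟨hr, mem_centralizer_singleton_iff.2 ?_⟩, a, ha, by rw [one_mul, mul_assoc]⟩
  have := ((h.Oy ho).inv_left.mul_left (hg y h.yQ)).mul_left (h.Q1A y h.yQ a ha).symm.inv_left
  rwa [show o⁻¹ * (1 * o * (r * a)) * a⁻¹ = r by group] at this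

theorem no_vz {v g : G} (hv : v ∈ V) (v1 : v ≠ 1) (hg : ∀ q ∈ Q1, Commute g q)
    (h1 : g * v * g⁻¹ = v * zz ι) : False := by
  obtain ⟨c, hc, e⟩ := h.trans v hv v1 _ zz_mem
  have h3 : Commute (c⁻¹ * g) v := by
    have : c⁻¹ * g * v * (c⁻¹ * g)⁻¹ = v := by
      rw [show c⁻¹ * g * v * (c⁻¹ * g)⁻¹ = c⁻¹ * (g * v * g⁻¹) * c by group, h1, ← e]; group
    exact mul_inv_eq_iff_eq_mul.1 this
  obtain ⟨w, hw, o, ho, l, hl, e1⟩ := h.cvZ hv v1 h3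
    fun ζ hζ => (h.SZ hc hζ).inv_left.mul_left (hg ζ (h.ZQ1 hζ))
  have h4 := h.cent_OL (mul_mem hc (h.VS hw)) ho hl (by
    rwa [show c * w * o * l = c * (w * o * l) by group, ← e1, mul_inv_cancel_left])
  have h5 := (h.SZ (h.VS hv) h4).symm.mul_left (h.commV hw hv).inv_left
  rw [mul_inv_cancel_right] at h5
  rw [h5.eq, mul_inv_cancel_right] at e
  exact h.zz_ne (left_eq_mul.1 e)

theorem iso {v g : G} (hv : v ∈ V) (v1 : v ≠ 1) (hg : ∀ q ∈ Q1, Commute g q)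
    (h1 : Commute v (g * v * g⁻¹)) : g * v * g⁻¹ = v := by
  have hY := mem_cent.2 hg
  have h2 : v⁻¹ * g * v * g⁻¹ ∈ centralizer (Q1 : Set G) := by
    have := conj_mem_cent (inv_mem (h.SQ1 (h.VS hv))) hY
    rw [inv_inv] at this
    exact mul_mem this (inv_mem hY)
  obtain ⟨c, ec⟩ : ∃ c, v⁻¹ * g * v * g⁻¹ = c := ⟨_, rfl⟩
  have e1 : g * v * g⁻¹ = v * c := by rw [← ec]; group
  have vc : Commute c v := by
    have := (Commute.refl v).inv_right.mul_right h1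
    rw [e1, inv_mul_cancel_left] at this
    exact this.symm
  have c2 : c * c = 1 := by
    have := vc.mul_mul_mul_comm v c
    rwa [← e1, conj_mul, h.sqV v hv, mul_one, mul_inv_cancel, one_mul, eq_comm] at this
  rw [ec] at h2
  obtain ⟨o, ho, u, hu, a, ha, e2⟩ := h.CYv hv v1 (mem_cent.1 h2) vc
  have hl : u * a ∈ LL ι := mul_mem (RA_le_LL hu.1) (A2_le_LL ha)
  rw [mul_assoc] at e2
  rw [h.mem_L ho hl (e2 ▸ c2), one_mul] at e2
  by_cases hn : ∃ u' ∈ RA ι ⊓ centralizer {y}, ¬ Commute c u'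
  · obtain ⟨u', hu', e3⟩ := exists_conj h.es2 h.min2 (e2 ▸ mul_mem (le_normalizer hu) (h.A2Q ha)) c2
      (h.LZ (e2 ▸ hl) zz_mem) hn
    have h3 : ∀ q ∈ Q1, Commute u' q := fun q hq => by
      simpa using h.cQ1_of (one_mem _) hu' (one_mem _) hq
    have h4 : u' * c * u'⁻¹ = c * zz ι := by
      rw [(h.LZ (e2 ▸ hl) zz_mem).eq, ← h.es1.inv_eq, ← e3, commutatorElement_def]; group
    refine (h.no_vz hv v1 (g := g⁻¹ * u' * g) (fun q hq =>
      ((hg q hq).inv_left.mul_left (h3 q hq)).mul_left (hg q hq)) ?_).elim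
    rw [show g⁻¹ * u' * g * v * (g⁻¹ * u' * g)⁻¹ = g⁻¹ * (u' * (g * v * g⁻¹) * u'⁻¹) * g by group, e1,
      ← conj_mul, h4, (comm_KA (h.VK hv) (LL_le (RA_le_LL hu'.1))).symm.eq, mul_inv_cancel_right,
      ← mul_assoc v, ← e1, mul_assoc, mul_assoc, ← (hg _ h.es1.mem).eq]
    group
  push Not at hn
  have a1 : a = 1 := h.ne2 ha fun u' hu' => by
    have := h.commR (inv_mem hu.1) hu'.1
    rwa [show a = u⁻¹ * c by rw [e2, inv_mul_cancel_left], show ⁅u⁻¹ * c, u'⁆ =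
      u⁻¹ * (c * u') * (u⁻¹ * c)⁻¹ * u'⁻¹ by rw [commutatorElement_def]; group, (hn u' hu').eq,
      show u⁻¹ * (u' * c) * (u⁻¹ * c)⁻¹ * u'⁻¹ = ⁅u⁻¹, u'⁆ by rw [commutatorElement_def]; group]
  rw [a1, mul_one] at e2
  rcases h.es2.center c (e2 ▸ hu) fun q hq => (hn q hq).symm with e | e
  · rw [e1, e, mul_one]
  · exact (h.no_vz hv v1 hg (e ▸ e1)).elim

theorem comm_V {v g : G} (hv : v ∈ V) (hg : ∀ q ∈ Q1, Commute g q) : Commute g v := by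
  by_cases v1 : v = 1
  · exact v1 ▸ Commute.one_right g
  have hVY : V ≤ normalizer (centralizer (Q1 : Set G) : Set G) := fun w hw =>
    mem_normalizer_of_forall fun _ hx => conj_mem_cent (h.SQ1 (h.VS hw)) hx
  set X := centralizer (Q1 : Set G) ⊔ V with hX
  have hI : IsIsolatedInvolution (⟨v, mem_sup_right hv⟩ : X) := ⟨by
    rw [orderOf_mk]; exact h.orderOf_V hv v1, fun x hx => by
      obtain ⟨b, hb, w, hw, e⟩ := (Coprime.mem_sup_iff_of_le_normalizer hVY).1 x.2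
      have e1 : (x : G) * v * (x : G)⁻¹ = b * v * b⁻¹ := by
        rw [← e, show b * w * v * (b * w)⁻¹ = b * (w * v * w⁻¹) * b⁻¹ by group, (h.commV hw hv).eq,
          mul_inv_cancel_right]
      exact Subtype.ext (e1.trans (h.iso hv v1 (mem_cent.1 hb) (e1 ▸ congrArg Subtype.val hx)))⟩
  have hD : Odd (Nat.card ((pPrimeCore 2 X).map X.subtype)) := by
    rw [card_subtype]; exact Core.odd_card_oddCore X
  have := Core.pPrimeCore_characteristic 2 X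
  have h1 : (pPrimeCore 2 X).map X.subtype ≤ centralizer (Q1 : Set G) := fun d hd => by
    obtain ⟨b, hb, w, hw, rfl⟩ := (Coprime.mem_sup_iff_of_le_normalizer hVY).1 (map_subtype_le _ hd)
    have h5 : orderOf (b * w) ∣ Nat.card ((pPrimeCore 2 X).map X.subtype) := by
      rw [← orderOf_mk _ hd]; exact orderOf_dvd_natCard _
    obtain ⟨m, hm⟩ := exists_pow_eq_self_of_coprime (x := b * w) (n := 2)
      ((Nat.coprime_two_left.2 hD).coprime_dvd_right h5)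
    rw [← hm, pow_two, show b * w * (b * w) = b * (w * b * w⁻¹) * (w * w) by group, h.sqV w hw, mul_one]
    exact Subgroup.pow_mem _ (mul_mem hb (conj_mem_of_mem_normalizer (hVY hw) hb)) _
  have h2 : (pPrimeCore 2 X).map X.subtype ≤ centralizer {v} :=
    Gold.le_of_cent1 h.sqV h.cardV.ge hD (fun w hw => mem_normalizer_of_forall (by
      rintro _ ⟨d, hd, rfl⟩
      exact ⟨_, Normal.conj_mem inferInstance d hd ⟨w, mem_sup_right hw⟩, rfl⟩)) fun w hw w1 d hd => by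
        obtain ⟨o, ho, u, hu, a, ha, rfl⟩ := h.CYv hw w1 (mem_cent.1 (h1 hd.1))
          (mem_centralizer_singleton_iff.1 hd.2)
        exact mem_centralizer_singleton_iff.2 (((h.OV o ho v hv).mul_left
          (comm_KA (h.VK hv) (LL_le (RA_le_LL hu.1))).symm).mul_left
            (comm_KA (h.VK hv) (LL_le (A2_le_LL ha))).symm)
  have h3 : ⁅v, g⁆ ∈ (pPrimeCore 2 X).map X.subtype :=
    ⟨_, ZStar.zstar hI ⟨g, mem_sup_left (mem_cent.2 hg)⟩, rfl⟩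
  refine (commutatorElement_eq_one_iff_commute.1 (eq_one_of_odd hD h3 (k := 1) ?_)).symm
  have h4 : Commute ⁅v, g⁆ v := mem_centralizer_singleton_iff.1 (h2 h3)
  have vi := inv_eq_of_mul_eq_one_right (h.sqV v hv)
  rw [pow_one, pow_two, show ⁅v, g⁆ * ⁅v, g⁆ = ⁅v, g⁆ * v * (g * v⁻¹ * g⁻¹) by
    rw [commutatorElement_def]; group, h4.eq, commutatorElement_def, vi,
    show v * (v * g * v * g⁻¹) * (g * v * g⁻¹) = v * v * g * (v * v) * g⁻¹ by group, h.sqV v hv]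
  simp

end Dat

end P3a

open P3a in
theorem S2.exists_S2b {V O : Subgroup G} {n τ : G} {S Q1 : Subgroup G} {φ : G}
    (h : S2 ι V O n τ S Q1 φ) : ∃ Q2, S2b ι V O n τ S Q1 φ Q2 := by
  have φs : ∀ s ∈ ZZ ι, s ≠ 1 → s ≠ zz ι → ¬ Commute s (φ * s * φ⁻¹) := fun s hs s1 sz =>
    (a5 h).not_comm (h.ZQ1 hs) (h.sqZ hs) s1 sz
  have hs := h.tau.s_mem
  have s1 := Tau.s_ne_one h.toEmb τ
  have sz := h.tau.s_ne h.toEmb
  have d : Dat ι V O n τ S Q1 φ _ (φ * (τ * zz ι * τ⁻¹) * φ⁻¹) := ⟨h, hs, s1, sz,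
    conj_mem_of_mem_normalizer (a5 h).norm (h.ZQ1 hs), by rw [conj_mul, h.sqZ hs]; simp,
    fun e => φs _ hs s1 sz e.symm⟩
  obtain ⟨v, hv, v1⟩ := h.exists_v
  exact ⟨_, h, fun _ hv v1 _ hk hc => d.cK hv v1 hk hc, (a5 h).min, d.min2, φs,
    fun _ he hq => d.EQ1 he hq, inf_le_left, d.A2Q, fun _ hr _ hq => d.RQ hr hq,
    fun _ ha hc => d.ne2 ha hc, fun g => ⟨fun hg => d.CYv hv v1 hg (d.comm_V hv hg),
      fun ⟨_, ho, _, hu, _, ha, e⟩ _ hq => e ▸ d.cQ1_of ho hu ha hq⟩⟩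

end CfsgLib.G2C
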