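import Cfsg.Agent.Lib.G2C.Defs
import Cfsg.Agent.Lib.Co1Rec.CT
import Cfsg.Agent.Lib.ClassSz.Isaacs

/-! Package QB: the action on the extraspecial group (plans/G2C2.md) -/

set_option autoImplicit false
set_option linter.unusedSectionVars false
set_option linter.unusedVariables false

namespace CfsgLib.G2C

open Subgroup Cfsg CfsgLib.Tech CfsgLib.StdR2 CfsgLib.Chev CfsgLib.OrthE CfsgLib.ExtraTwo
  CfsgLib.Co1Rec QuadraticMap
open scoped commutatorElement

variable {F : Type*} [Field F] [Fintype F] {G : Type*} [Group G] [Finite G] {ι : Γ F →* G}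

variable {Q O : Subgroup G} {z : G} {π : G → V8} {ρ : G → OrthE.O q8}

theorem qb_N_z (e : ES Q z) {g : G} (hg : g ∈ normalizer (Q : Set G)) : g * z * g⁻¹ = z :=
  e.eq_of_comm (fun k => e.ne_one (conj_eq_one_iff.1 k)) (conj_mem_of_mem_normalizer hg e.mem) fun q hq => by
    calc _ = g * (g⁻¹ * q * g * z) * g⁻¹ := by group
      _ = _ := by rw [e.comm_z _ (conj_mem_of_mem_normalizer' hg hq)]; group

/-- the induced isometries -/
theorem exists_ρ (c : Coord Q z q8 π) : ∃ ρ : G → OrthE.O q8,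
    ∀ g ∈ normalizer (Q : Set G), ∀ u ∈ Q, (ρ g).1 (π u) = π (g * u * g⁻¹) := by
  classical
  choose s hs hs' using c.surj
  have key : ∀ g ∈ normalizer (Q : Set G), ∀ x ∈ Q, π (g * s (π x) * g⁻¹) = π (g * x * g⁻¹) := fun g hg x hx => by
    rcases (c.eq_iff hx (hs (π x))).1 (hs' _).symm with e | e <;> rw [e]
    rw [← conj_mul, qb_N_z c.es hg, c.map_mul_z (conj_mem_of_mem_normalizer hg hx)]
  let f : ∀ g ∈ normalizer (Q : Set G), V8 →ₗ[ZMod 2] V8 := fun g hg =>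
    linOfAdd (fun v => π (g * s v * g⁻¹)) fun a b => by
      rw [← c.map_mul _ (conj_mem_of_mem_normalizer hg (hs a)) _ (conj_mem_of_mem_normalizer hg (hs b)), conj_mul,
        ← key g hg _ (mul_mem (hs a) (hs b)), c.map_mul _ (hs a) _ (hs b), hs', hs']
  have hf : ∀ g hg, ∀ x ∈ Q, f g hg (π x) = π (g * x * g⁻¹) := key
  have inv : ∀ g hg k hk, g * k = 1 → ∀ v, f g hg (f k hk v) = v := fun g hg k hk e v => by
    rw [← hs' v, hf k hk _ (hs v), hf g hg _ (conj_mem_of_mem_normalizer hk (hs v)),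
      show g * (k * s v * k⁻¹) * g⁻¹ = g * k * s v * (g * k)⁻¹ by group, e]
    simp
  refine ⟨fun g => if hg : g ∈ normalizer (Q : Set G) then mkO (f g hg) (f g⁻¹ (inv_mem hg))
    (inv _ hg _ (inv_mem hg) (mul_inv_cancel g)) (inv _ (inv_mem hg) _ hg (inv_mul_cancel g)) (fun v => ?_)
    else 1, fun g hg u hu => ?_⟩
  · rw [← hs' v, hf g hg _ (hs v)]
    apply zmod2_eq_of_iff
    rw [c.sq _ (conj_mem_of_mem_normalizer hg (hs v)), c.sq _ (hs v), conj_mul, conj_eq_one_iff]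
  · simp only [dif_pos hg]
    exact hf g hg u hu

/-- two opposite unipotent radicals generate `Ω₈⁺(2)` -/
theorem E_le_of_hyp {s t : V8} (hs : q8 s = 0) (ht : q8 t = 0) (hst : polar q8 s t = 1)
    {J : Subgroup (OrthE.O q8)} (h1 : ∀ w, polar q8 s w = 0 → eich q8 s w ∈ J)
    (h2 : ∀ w, polar q8 t w = 0 → eich q8 t w ∈ J) : OrthE.E q8 ≤ J :=
  have h : Hyp q8 s t := ⟨hs, ht, hst⟩
  h.E_le nd8 (h.exists_nonsingular nd8 (by simp)) J (fun w a _ => h1 w (by rwa [polar_comm]))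
    fun w _ a => h2 w (by rwa [polar_comm])

theorem card_sing8 : Nat.card {v : V8 // q8 v = 0 ∧ v ≠ 0} = 135 := by
  have h1 := card_zeros_qPlus_two 3
  have h2 := Set.ncard_sdiff_singleton_add_one (s := {v : V8 | q8 v = 0}) (a := 0) q8.map_zero
  change Set.ncard {v : V8 | q8 v = 0 ∧ v ≠ 0} + 1 = _ at h2
  change 2 * Set.ncard {v : V8 | q8 v = 0} = _ at h1
  change Set.ncard {v : V8 | q8 v = 0 ∧ v ≠ 0} = _
  omega

/-- transitivity on the non-singular vectors of `s^⊥ / s` -/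
theorem exists_E_ns {s w w' : V8} (hs : q8 s = 0) (s0 : s ≠ 0) (hw : q8 w = 1) (hw' : q8 w' = 1)
    (h1 : polar q8 s w = 0) (h2 : polar q8 s w' = 0) :
    ∃ e ∈ OrthE.E q8, e.1 s = s ∧ (e.1 w = w' ∨ e.1 w = w' + s) := by
  obtain ⟨n, n0, n1, n2, n3⟩ := ns_two (t := s) (v := w) hw' (ne_of_q hw q8.map_zero) (ne_of_q hw hs)
    (fun h => ne_of_q hw' q8.map_zero (left_eq_add.1 h)) (fun h => by
      rw [add_left_comm, left_eq_add, add_eq_zero_zmod2] at h
      exact ne_of_q hw' hs h.symm)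
  have a : q8 (n + w) = 1 := by rw [Q_add, n0, hw, n2]; rfl
  have b : q8 (n + w') = 1 := by rw [Q_add, n0, hw', n3]; rfl
  rw [polar_comm] at n1
  refine ⟨_, refl_mul_mem b a, ?_, Or.inl ?_⟩
  · rw [O_mul_apply, refl_apply_of_orth (v := n + w) (by rw [polar_add_right, n1, h1, add_zero]),
      refl_apply_of_orth (by rw [polar_add_right, n1, h2, add_zero])]
  · rw [O_mul_apply, refl8 a, polar_add_right, polar_self8, polar_comm, n2, add_zero, one_smul, add_comm n w, aa',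
      refl8 b, polar_add_right, polar_self8, n3, zero_add, one_smul, aa']

theorem eich_eq_iff {s w w' : V8} (hs : q8 s = 0) (s0 : s ≠ 0) (h1 : polar q8 s w = 0)
    (h2 : polar q8 s w' = 0) : eich q8 s w = eich q8 s w' ↔ w' = w ∨ w' = w + s := by
  refine ⟨fun e => ?_, ?_⟩
  · rcases mem1 (a := s) (x := w + w') (fun x hx => by
      have := congrArg (fun g : OrthE.O q8 => g.1 x) e
      simp only [eich_apply_of_orth_left hs h1 hx, eich_apply_of_orth_left hs h2 hx, add_right_inj] at this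
      rw [polar_add_right, smul_left_injective _ s0 this, CharTwo.add_self_eq_zero]) with k | k
    · exact Or.inl (add_eq_zero_zmod2.1 k).symm
    · exact Or.inr (by rw [← k, aa'])
  · rintro (rfl | rfl)
    · rfl
    · simpa using (eich_add_smul_self 1 hs h1).symm

theorem finite_O8 : Finite (OrthE.O q8) := Nat.finite_of_card_ne_zero (by rw [card_O8]; simp)

theorem card_perp (a b c d : V8) :
    (64 ≤ Nat.card {x : V8 // polar q8 x a = 0 ∧ polar q8 x b = 0}) ∧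
      16 ≤ Nat.card {x : V8 // (polar q8 x a = 0 ∧ polar q8 x b = 0) ∧ polar q8 x c = 0 ∧ polar q8 x d = 0} := by
  have k : ∀ {W : Type} [AddCommGroup W] [Finite W] (f : V8 →+ W), 256 ≤ Nat.card f.ker * Nat.card W := fun f => by
    have := f.ker.card_mul_index
    rw [AddSubgroup.index_ker, show Nat.card V8 = 256 by simp] at this
    exact this ▸ Nat.mul_le_mul_left _ (AddSubgroup.card_le_card_addGroup _)
  let l : V8 → V8 →+ ZMod 2 := fun v => ((polarBilin q8).flip v).toAddMonoidHom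
  have h1 := k ((l a).prod (l b))
  have h2 := k (((l a).prod (l b)).prod ((l c).prod (l d)))
  simp only [Nat.card_prod, Nat.card_zmod] at h1 h2
  rw [Nat.card_congr (Equiv.subtypeEquivRight (q := fun x => polar q8 x a = 0 ∧ polar q8 x b = 0) fun x => by
    simp [l, Prod.ext_iff])] at h1
  rw [Nat.card_congr (Equiv.subtypeEquivRight (q := fun x => (polar q8 x a = 0 ∧ polar q8 x b = 0) ∧
    polar q8 x c = 0 ∧ polar q8 x d = 0) fun x => by simp [l, Prod.ext_iff])] at h2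
  omega

/-- a 2-group of order `2^10` in the centraliser of a long root element -/
theorem exists_J {a b : V8} (ha : q8 a = 0) (hb : q8 b = 0) (hab : polar q8 a b = 0) (a0 : a ≠ 0) (b0 : b ≠ 0)
    (hne : a ≠ b) : ∃ J ≤ OrthE.E q8, 2 ^ 10 ∣ Nat.card J ∧ eich q8 a b ∈ J ∧ ∀ e ∈ J,
      e * eich q8 a b * e⁻¹ = eich q8 a b ∧ ∀ u, polar q8 u a = 0 → polar q8 u b = 0 →
        e.1 u + u = 0 ∨ e.1 u + u = a ∨ e.1 u + u = b ∨ e.1 u + u = a + b := by
  have := finite_O8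
  have ba : polar q8 b a = 0 := by rwa [polar_comm]
  let J : Subgroup (OrthE.O q8) :=
    { carrier := {e | e ∈ OrthE.E q8 ∧ e.1 a = a ∧ ∀ s u, polar q8 s a = 0 → polar q8 s b = 0 → polar q8 u a = 0 →
        polar q8 u b = 0 → polar q8 s (e.1 u) = polar q8 s u}
      one_mem' := ⟨one_mem _, rfl, fun _ _ _ _ _ _ => rfl⟩
      mul_mem' := by
        rintro e f ⟨e1, e2, e3⟩ ⟨f1, f2, f3⟩
        refine ⟨mul_mem e1 f1, by rw [O_mul_apply, f2, e2], fun s u s1 s2 u1 u2 => ?_⟩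
        rw [O_mul_apply, e3 s _ s1 s2 (by rw [← f2, O_polar, u1])
          (by rw [polar_comm, f3 b u ba (polar_self8 b) u1 u2, polar_comm, u2]), f3 s u s1 s2 u1 u2]
      inv_mem' := by
        rintro e ⟨e1, e2, e3⟩
        refine ⟨inv_mem e1, O_inv_apply_eq e e2, fun s u s1 s2 u1 u2 => ?_⟩
        rw [← O_polar_left, polar_comm, e3 u s u1 u2 s1 s2, polar_comm] }
  have k1 : ∀ e ∈ J, ∀ u, polar q8 u a = 0 → polar q8 u b = 0 →
      e.1 u + u = 0 ∨ e.1 u + u = a ∨ e.1 u + u = b ∨ e.1 u + u = a + b := fun e he u u1 u2 =>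
    mem2 fun s s1 s2 => by rw [polar_add_right, he.2.2 s u s1 s2 u1 u2, CharTwo.add_self_eq_zero]
  have k2 : ∀ e ∈ J, e.1 b = b ∨ e.1 b = b + a := fun e he => by
    rcases k1 e he b ba (polar_self8 b) with k | k | k | k
    · exact Or.inl (add_eq_zero_zmod2.1 k)
    · exact Or.inr (by rw [← k, add_comm, aa''])
    · exact absurd (add_eq_right.1 k) (O_apply_ne_zero e b0)
    · exact absurd (e.1.injective (he.2.1.trans (add_right_cancel k).symm)) hne
  have k3 : ∀ e ∈ J, ∀ u, polar q8 u a = 0 → polar q8 u b = 0 → (e * e).1 u = u ∨ (e * e).1 u = u + a :=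
    fun e he u u1 u2 => by
      have k : ∀ m, e.1 u + u = m → (e * e).1 u = u + (m + e.1 m) := fun m k => by
        rw [O_mul_apply, ← k, map_add, add_comm (e.1 u) u, ← add_assoc, aa', add_comm, aa'']
      rcases k1 e he u u1 u2 with k' | k' | k' | k' <;> rw [k _ k'] <;> rcases k2 e he with e2 | e2 <;>
        simp [he.2.1, e2, aa, aa', add_assoc, add_left_comm b a]
  have two : IsPGroup 2 J := isPGroup_iff_mem.2 fun e he => ⟨3, by
    rw [show e ^ 2 ^ 3 = e * e * (e * e) * (e * e * (e * e)) by norm_num [pow_succ, mul_assoc]]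
    rcases root_cases ha hb hab a0 b0 hne (g := e * e * (e * e)) (fun u u1 u2 => by
      rw [O_mul_apply]
      rcases k3 e he u u1 u2 with k | k
      · rw [k, k]
      · rw [k, map_add, k, (mul_mem he he).2.1, aa'']) with k | k <;> rw [k]
    · rfl
    · rw [eich_mul ha hab hab, aa, eich_zero_right]⟩
  have m1 : ∀ w, polar q8 w a = 0 → eich q8 a w ∈ J := fun w hw => ⟨eich_mem_E _ _, eich_apply_self _ _,
    fun s u s1 _ u1 _ => by
      rw [eich_apply_of_orth_left ha (by rwa [polar_comm]) u1, polar_add_right, polar_smul_right, s1, smul_zero,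
        add_zero]⟩
  have m2 : ∀ w, polar q8 w a = 0 → polar q8 w b = 0 → eich q8 b w ∈ J := fun w h1 h2 => ⟨eich_mem_E _ _,
    eich_apply_of_orth hab (by rwa [polar_comm]), fun s u _ s2 _ u2 => by
      rw [eich_apply_of_orth_left hb (by rwa [polar_comm]) u2, polar_add_right, polar_smul_right, s2, smul_zero,
        add_zero]⟩
  refine ⟨J, fun e he => he.1, ?_, m1 b ba, fun e he => ⟨?_, k1 e he⟩⟩
  · obtain ⟨a', a1, a2⟩ := sep1 a0 hne
    obtain ⟨b', b1, b2⟩ := sep1 b0 hne.symm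
    have h1 := (card_perp a a' 0 0).1
    have h2 := (card_perp a b a' b').2
    have h3 := Nat.card_le_card_of_injective (fun p : {x : V8 // polar q8 x a = 0 ∧ polar q8 x a' = 0} ×
        {x : V8 // (polar q8 x a = 0 ∧ polar q8 x b = 0) ∧ polar q8 x a' = 0 ∧ polar q8 x b' = 0} =>
        (⟨_, mul_mem (m1 p.1.1 p.1.2.1) (m2 p.2.1 p.2.2.1.1 p.2.2.1.2)⟩ : J)) (by
      rintro ⟨⟨w, w1, w2⟩, u, ⟨u1, u2⟩, u3, u4⟩ ⟨⟨w', w1', w2'⟩, u', ⟨u1', u2'⟩, u3', u4'⟩ e
      replace e : eich q8 a w * eich q8 b u = eich q8 a w' * eich q8 b u' := congrArg Subtype.val e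
      rw [polar_comm] at w1 w1' u2 u2' a1 a2 b1 b2
      clear k1 k2 k3 m1 m2 two
      have e1 : u = u' := by
        have p1 : polar q8 (u + u') a' = 0 := by rw [polar_add_left, u3, u3', add_zero]
        have p2 : polar q8 (u + u') b' = 0 := by rw [polar_add_left, u4, u4', add_zero]
        rcases mem2 (a := a) (b := b) (x := u + u') (fun x x1 x2 => by
          have := congrArg (fun g : OrthE.O q8 => polar q8 (g.1 x) b') e
          have k : ∀ c : ZMod 2, polar q8 (x + c • b) a = 0 := fun c => by simp [x1, ba]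
          simp only [O_mul_apply, eich_apply_of_orth_left hb u2 x2, eich_apply_of_orth_left hb u2' x2,
            eich_apply_of_orth_left ha w1 (k _), eich_apply_of_orth_left ha w1' (k _), polar_add_left,
            polar_smul_left, b1, b2, add_zero, smul_eq_mul, mul_one, mul_zero, add_right_inj] at this
          rw [polar_add_right, this, CharTwo.add_self_eq_zero]) with k | k | k | k
        · exact add_eq_zero_zmod2.1 k
        all_goals rw [k] at p1 p2; simp_all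
      subst e1
      obtain rfl : w' = w := ((eich_eq_iff ha a0 w1 w1').1 (mul_right_cancel e)).resolve_right fun k => by
        rw [k] at w2'
        simp_all
      rfl)
    obtain ⟨n, hn⟩ := two.exists_card_eq
    rw [Nat.card_prod, hn] at h3
    rw [hn]
    exact pow_dvd_pow 2 ((Nat.pow_le_pow_iff_right one_lt_two).1 (le_trans (by nlinarith) h3))
  · rw [conj_eich, he.2.1]
    rcases k2 e he with k | k <;> rw [k]
    simpa using eich_add_smul_self 1 ha hab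

/-- the action as a function of the hypotheses `co`, `act` only -/
structure QA (Q : Subgroup G) (z : G) (π : G → V8) (ρ : G → OrthE.O q8) : Prop where
  co : Coord Q z q8 π
  act : ∀ g ∈ normalizer (Q : Set G), ∀ u ∈ Q, (ρ g).1 (π u) = π (g * u * g⁻¹)

theorem QX0.qa (h : QX0 Q O z π ρ) : QA Q z π ρ := ⟨h.co, h.act⟩

namespace QA

variable (h : QA Q z π ρ)
include h

theorem cardQ : Nat.card Q = 512 := by
  rw [h.co.card_eq]; simp

theorem N_z {g : G} (hg : g ∈ normalizer (Q : Set G)) : Commute g z :=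
  mul_inv_eq_iff_eq_mul.1 (qb_N_z h.co.es hg)

theorem ext' {a b : OrthE.O q8} (e : ∀ x ∈ Q, a.1 (π x) = b.1 (π x)) : a = b :=
  O_ext fun v => by obtain ⟨x, hx, rfl⟩ := h.co.surj v; exact e x hx

theorem ρ_mul {g k : G} (hg : g ∈ normalizer (Q : Set G)) (hk : k ∈ normalizer (Q : Set G)) :
    ρ (g * k) = ρ g * ρ k := h.ext' fun x hx => by
  rw [O_mul_apply, h.act k hk x hx, h.act g hg _ (conj_mem_of_mem_normalizer hk hx), h.act _ (mul_mem hg hk) x hx]
  congr 1; group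

theorem ρ_one : ρ 1 = 1 := h.ext' fun x hx => by
  rw [h.act 1 (one_mem _) x hx]; simp

theorem ρ_inv {g : G} (hg : g ∈ normalizer (Q : Set G)) : ρ g⁻¹ = (ρ g)⁻¹ :=
  eq_inv_of_mul_eq_one_left (by rw [← h.ρ_mul (inv_mem hg) hg, inv_mul_cancel, h.ρ_one])

theorem ρ_conj {g k : G} (hg : g ∈ normalizer (Q : Set G)) (hk : k ∈ normalizer (Q : Set G)) :
    ρ (g * k * g⁻¹) = ρ g * ρ k * (ρ g)⁻¹ := by
  rw [h.ρ_mul (mul_mem hg hk) (inv_mem hg), h.ρ_mul hg hk, h.ρ_inv hg]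

theorem ρ_eq_one {g : G} (hg : g ∈ normalizer (Q : Set G)) :
    ρ g = 1 ↔ ∀ x ∈ Q, g * x * g⁻¹ = x ∨ g * x * g⁻¹ = x * z := by
  refine ⟨fun e x hx => (h.co.eq_iff hx (conj_mem_of_mem_normalizer hg hx)).1 (by rw [← h.act g hg x hx, e]; rfl),
    fun e => h.ext' fun x hx => ?_⟩
  rw [h.act g hg x hx]
  exact ((h.co.eq_iff hx (conj_mem_of_mem_normalizer hg hx)).2 (e x hx)).symm

theorem ρ_Q {u : G} (hu : u ∈ Q) : ρ u = 1 :=
  (h.ρ_eq_one (le_normalizer hu)).2 fun _ hx => h.co.es.conj hx hu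

theorem cent_N {c : G} (hc : ∀ y ∈ Q, Commute c y) : c ∈ normalizer (Q : Set G) :=
  centralizer_le_normalizer _ fun y hy => (hc y hy).symm

theorem π_comm {g x : G} (hg : g ∈ normalizer (Q : Set G)) (hx : x ∈ Q) :
    π (g * x * g⁻¹ * x⁻¹) = (ρ g).1 (π x) + π x := by
  rw [h.co.map_mul _ (conj_mem_of_mem_normalizer hg hx) _ (inv_mem hx), h.co.map_inv hx, h.act g hg x hx]

theorem π_ne {x : G} (hx : x ∈ Q) (h1 : x ≠ 1) (hz : x ≠ z) : π x ≠ 0 :=
  fun e => ((h.co.ker x hx).1 e).elim h1 hz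

/-- the action as a homomorphism -/
theorem exists_hom : ∃ φ : normalizer (Q : Set G) →* OrthE.O q8, ∀ g, φ g = ρ g :=
  ⟨MonoidHom.mk' (fun g => ρ g) fun a b => h.ρ_mul a.2 b.2, fun _ => rfl⟩

theorem ker' {g : G} (hg : g ∈ normalizer (Q : Set G)) :
    ρ g = 1 ↔ ∃ u ∈ Q, ∃ c, (∀ y ∈ Q, Commute c y) ∧ g = u * c := by
  refine ⟨fun e => ?_, ?_⟩
  · obtain ⟨u, hu, hc⟩ := h.co.es.inner_conj ((h.ρ_eq_one hg).1 e)
    exact ⟨u, hu, _, fun y hy => (hc y hy).symm, by group⟩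
  · rintro ⟨u, hu, c, hc, rfl⟩
    rw [h.ρ_mul (le_normalizer hu) (h.cent_N hc), h.ρ_Q hu, one_mul]
    exact (h.ρ_eq_one (h.cent_N hc)).2 fun x hx => Or.inl (by rw [(hc x hx).eq, mul_inv_cancel_right])

theorem conj (g : G) : QA (cj g Q) (g * z * g⁻¹) (fun y => π (g⁻¹ * y * g))
    (fun y => ρ (g⁻¹ * y * g)) := by
  refine ⟨⟨h.co.es.map_conj g, fun x hx y hy => ?_, fun v => ?_, fun x hx => ?_, fun x hx => ?_⟩,
    fun k hk x hx => ?_⟩
  · rw [← h.co.map_mul _ (mem_cj.1 hx) _ (mem_cj.1 hy)]; congr 1; group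
  · obtain ⟨x, hx, rfl⟩ := h.co.surj v
    exact ⟨g * x * g⁻¹, ⟨x, hx, rfl⟩, by simp [mul_assoc]⟩
  · rw [h.co.ker _ (mem_cj.1 hx)]
    exact or_congr (by rw [← conj_eq_one_iff (a := g⁻¹) (b := x), inv_inv])
      ⟨fun e => by rw [← e]; group, fun e => by rw [e]; group⟩
  · rw [h.co.sq _ (mem_cj.1 hx), show g⁻¹ * x * g * (g⁻¹ * x * g) = g⁻¹ * (x * x) * g⁻¹⁻¹ by group, conj_eq_one_iff]
  · rw [← cj_normalizer, mem_cj] at hk
    rw [h.act _ hk _ (mem_cj.1 hx)]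
    congr 1; group

end QA

namespace QX0

variable (h : QX0 Q O z π ρ)
include h

theorem OQ {o u : G} (ho : o ∈ O) (hu : u ∈ Q) : Commute o u := (h.cQ o).2 ⟨o, ho, .inl rfl⟩ u hu

theorem O_le_N : O ≤ normalizer (Q : Set G) := fun _ ho => h.qa.cent_N fun _ => h.OQ ho

theorem odd_O {o : G} (ho : o ∈ O) : Odd (orderOf o) := h.oddO.of_dvd_nat (orderOf_dvd_natCard O ho)

/-- elements of odd order that centralise `Q` -/
theorem mem_O {g : G} (h1 : ∀ u ∈ Q, Commute g u) (h2 : Odd (orderOf g)) : g ∈ O := by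
  obtain ⟨o, ho, rfl | rfl⟩ := (h.cQ g).1 h1
  · exact ho
  · have c := h.OQ ho h.co.es.mem
    obtain ⟨k, hk⟩ := h2.mul (h.odd_O ho)
    have := c.symm.mul_pow (orderOf (z * o) * orderOf o)
    rw [pow_mul, pow_orderOf_eq_one, one_pow, pow_mul' o, pow_orderOf_eq_one, one_pow, mul_one, hk, pow_succ, pow_mul,
      pow_two, h.co.es.mul_self, one_pow, one_mul] at this
    exact absurd this.symm h.co.es.ne_one

theorem N_O : normalizer (Q : Set G) ≤ normalizer (O : Set G) := fun g hg =>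
  mem_normalizer_of_forall fun o ho => h.mem_O (fun u hu => by
    simpa [mul_assoc] using (h.OQ ho (conj_mem_of_mem_normalizer' hg hu)).conj g)
    ((MulEquiv.orderOf_eq (MulAut.conj g) o).symm ▸ h.odd_O ho)

theorem ker {g : G} (hg : g ∈ normalizer (Q : Set G)) : ρ g = 1 ↔ ∃ u ∈ Q, ∃ o ∈ O, g = u * o := by
  rw [h.qa.ker' hg]
  refine ⟨?_, fun ⟨u, hu, o, ho, e⟩ => ⟨u, hu, o, fun _ => h.OQ ho, e⟩⟩
  rintro ⟨u, hu, c, hc, rfl⟩
  obtain ⟨o, ho, rfl | rfl⟩ := (h.cQ c).1 hc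
  · exact ⟨u, hu, c, ho, rfl⟩
  · exact ⟨u * z, mul_mem hu h.co.es.mem, o, ho, by group⟩

theorem ker2 {g : G} (hg : g ∈ normalizer (Q : Set G)) (h1 : ρ g = 1) {j : ℕ} (h2 : g ^ 2 ^ j = 1) :
    g ∈ Q := by
  obtain ⟨u, hu, o, ho, rfl⟩ := (h.ker hg).1 h1
  have h3 : o ^ (2 ^ j * 2 ^ 2) = 1 := by
    have := (h.OQ ho hu).symm.mul_pow (2 ^ j * 2 ^ 2)
    rwa [pow_mul, h2, one_pow, pow_mul' u, show u ^ 2 ^ 2 = 1 from h.co.es.pow_four hu, one_pow, one_mul,
      eq_comm] at this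
  rw [← pow_add] at h3
  rwa [orderOf_eq_one_iff.1 (Nat.eq_one_of_dvd_coprimes ((h.odd_O ho).coprime_two_right.pow_right _) dvd_rfl
    (orderOf_dvd_of_pow_eq_one h3)), mul_one]

/-- the order of the preimage of a subgroup of the image -/
theorem card_pre {J : Subgroup (OrthE.O q8)} (hJ : ∀ e ∈ J, ∃ g ∈ normalizer (Q : Set G), ρ g = e) :
    ∃ Y : Subgroup G, (∀ g, g ∈ Y ↔ g ∈ normalizer (Q : Set G) ∧ ρ g ∈ J) ∧
      Nat.card Y = 512 * Nat.card O * Nat.card J := by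
  obtain ⟨φ, hφ⟩ := h.qa.exists_hom
  have c : ∀ o ∈ O, ∀ u ∈ Q, Commute o u := fun _ ho _ => h.OQ ho
  have hk : φ.ker.map (normalizer (Q : Set G)).subtype = Q ⊔ O := by
    refine le_antisymm ?_ (sup_le (fun u hu => ⟨⟨u, le_normalizer hu⟩, (hφ _).trans (h.qa.ρ_Q hu), rfl⟩)
      fun o ho => ⟨⟨o, h.O_le_N ho⟩, (hφ _).trans ((h.ker (h.O_le_N ho)).2 ⟨1, one_mem _, o, ho, by simp⟩), rfl⟩)
    rintro _ ⟨g, hg, rfl⟩
    obtain ⟨u, hu, o, ho, e⟩ := (h.ker g.2).1 ((hφ g).symm.trans hg)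
    exact (e ▸ mul_mem_sup hu ho : (g : G) ∈ _)
  refine ⟨(J.comap φ).map (normalizer (Q : Set G)).subtype, fun g => ⟨?_, fun ⟨a, b⟩ => ⟨⟨g, a⟩, ?_, rfl⟩⟩, ?_⟩
  · rintro ⟨g, hg, rfl⟩
    exact ⟨g.2, hφ g ▸ hg⟩
  · exact mem_comap.2 ((hφ ⟨g, a⟩).symm ▸ b)
  · rw [card_subtype, ← card_mul_relIndex' (ker_le_comap φ J), relIndex_ker, map_comap_eq_self fun e he => by
      obtain ⟨g, hg, rfl⟩ := hJ e he
      exact ⟨⟨g, hg⟩, hφ _⟩, ← card_subtype, hk, ← h.qa.cardQ]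
    rw [Core.card_sup_of_le_normalizer_of_disjoint (h.N_O.trans' le_normalizer) (disjoint_of_coprime_natCard
      (h.qa.cardQ.symm ▸ (Nat.coprime_two_left.2 h.oddO).pow_left 9 : (Nat.card Q).Coprime _)).eq_bot]

theorem exists_conj {u u' : G} (hu : u ∈ Q) (u2 : u * u = 1) (u1 : u ≠ 1) (uz : u ≠ z) (hu' : u' ∈ Q)
    (u2' : u' * u' = 1) (u1' : u' ≠ 1) (uz' : u' ≠ z) :
    ∃ g ∈ normalizer (Q : Set G), g * u * g⁻¹ = u' := by
  obtain ⟨e, he, k⟩ := exists_E_sing ((h.co.sq u hu).2 u2) (h.qa.π_ne hu u1 uz) ((h.co.sq u' hu').2 u2')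
    (h.qa.π_ne hu' u1' uz')
  obtain ⟨g, hg, rfl⟩ := h.surj e he
  rw [h.act g hg u hu] at k
  rcases (h.co.eq_iff hu' (conj_mem_of_mem_normalizer hg hu)).1 k.symm with e | e
  · exact ⟨g, hg, e⟩
  · obtain ⟨a, ha, e'⟩ := h.co.es.exists_conj hu' u1' uz'
    refine ⟨a⁻¹ * g, mul_mem (inv_mem (le_normalizer ha)) hg, ?_⟩
    calc _ = a⁻¹ * (g * u * g⁻¹) * a := by group
      _ = u' := by rw [e, ← e']; group

theorem conj (g : G) : QX0 (cj g Q) (cj g O) (g * z * g⁻¹) (fun y => π (g⁻¹ * y * g))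
    (fun y => ρ (g⁻¹ * y * g)) := by
  refine ⟨(h.qa.conj g).co, (h.qa.conj g).act, fun e he => ?_, by rw [card_cj]; exact h.oddO, fun k => ?_⟩
  · obtain ⟨k, hk, rfl⟩ := h.surj e he
    exact ⟨g * k * g⁻¹, cj_normalizer g Q ▸ conj_mem_cj.2 hk, by simp [mul_assoc]⟩
  · refine Iff.trans ⟨fun c u hu => ?_, fun c u hu => ?_⟩ ((h.cQ (g⁻¹ * k * g)).trans ⟨?_, ?_⟩)
    · simpa [mul_assoc] using (c _ (conj_mem_cj.2 hu)).conj g⁻¹
    · simpa [mul_assoc] using (c _ (mem_cj.1 hu)).conj g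
    · rintro ⟨o, ho, e⟩
      exact ⟨_, conj_mem_cj.2 ho, e.imp (fun e => by rw [← e]; group) fun e => by rw [conj_mul, ← e]; group⟩
    · rintro ⟨o, ho, e⟩
      exact ⟨_, mem_cj.1 ho, e.imp (fun e => by rw [e]) fun e => by rw [e]; group⟩

/-- the centraliser of an involution over a long root element -/
theorem dvd_cent {y : G} (hy : y ∈ normalizer (Q : Set G)) (y2 : y * y = 1) {a b : V8} (ha : q8 a = 0)
    (hb : q8 b = 0) (hab : polar q8 a b = 0) (a0 : a ≠ 0) (b0 : b ≠ 0) (hne : a ≠ b)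
    (e : ρ y = eich q8 a b) : 2 ^ 16 ∣ Nat.card (centralizer ({y} : Set G)) := by
  obtain ⟨J, JE, cJ, mJ, hJ⟩ := exists_J ha hb hab a0 b0 hne
  obtain ⟨Y, hY, cY⟩ := h.card_pre fun e he => h.surj e (JE he)
  obtain ⟨T, hT, yT⟩ := exists_isSylowIn_ge (p := 2) (isPGroup_zpowers_of_pow (x := y) (k := 1) (by simpa [pow_two]))
    (zpowers_le.2 ((hY y).2 ⟨hy, e ▸ mJ⟩))
  replace yT : y ∈ T := yT (mem_zpowers y)
  have yi : y⁻¹ = y := inv_eq_of_mul_eq_one_left y2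
  have yz := h.qa.N_z hy
  have k0 : ∀ c ∈ Q, ∀ m ∈ Q, q8 (π m) = 0 → (ρ y).1 (π c) + π c = π m → Commute y m := fun c hc m hm m0 k => by
    have h1 := mul_mem (conj_mem_of_mem_normalizer hy hc) (inv_mem hc)
    rw [← h.qa.π_comm hy hc] at k
    have h2 : Commute y (y * c * y⁻¹ * c⁻¹) := by
      have := eq_inv_of_mul_eq_one_left ((h.co.sq _ h1).1 (k ▸ m0))
      show _ = _
      conv_rhs => rw [this, yi]
      calc _ = y * y * c * y * c⁻¹ := by rw [yi]; group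
        _ = _ := by simp only [mul_inv_rev, inv_inv, yi, y2, one_mul, mul_assoc, mul_one]
    rcases (h.co.eq_iff h1 hm).1 k with k | k <;> rw [k]
    exacts [h2, h2.mul_right yz]
  have k1 : ∀ m ∈ Q, π m = 0 ∨ π m = a ∨ π m = b ∨ π m = a + b → Commute y m := fun m hm k => by
    obtain ⟨a', a1, a2⟩ := sep1 a0 hne
    obtain ⟨b', b1, b2⟩ := sep1 b0 hne.symm
    have k2 : ∀ v, q8 (π m) = 0 → π m = polar q8 v b • a + polar q8 v a • b → Commute y m := fun v m0 k => by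
      obtain ⟨c, hc, rfl⟩ := h.co.surj v
      refine k0 c hc m hm m0 ?_
      rw [e, eich8 ha hab, hb, zero_mul, zero_smul, add_zero, k, add_assoc (π c), add_comm (π c), aa'']
    rcases k with k | k | k | k
    · exact k2 0 (by simp [k]) (by simp [k])
    · exact k2 b' (k ▸ ha) (by simp [k, b1, b2])
    · exact k2 a' (k ▸ hb) (by simp [k, a1, a2])
    · exact k2 (a' + b') (by rw [k, Q_add, ha, hb, hab]; rfl) (by simp [k, a1, a2, b1, b2])
  have k3 : (centralizer ({y} : Set G)).relIndex T ≤ 8 := by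
    rw [ClassSz.relIndex_cent_eq_ncard]
    have h1 := h.co.card_filter fun v => v ∈ ({0, a, b, a + b} : Set V8)
    have h2 : Nat.card {v // v ∈ ({0, a, b, a + b} : Set V8)} ≤ 4 := (Set.ncard_insert_le _ _).trans
      (Nat.succ_le_succ ((Set.ncard_insert_le _ _).trans (Nat.succ_le_succ ((Set.ncard_insert_le _ _).trans (by simp)))))
    refine le_trans (Set.ncard_le_ncard_of_injOn (t := {x | x ∈ Q ∧ π x ∈ ({0, a, b, a + b} : Set V8)})
      (fun x => y⁻¹ * x) ?_ (fun _ _ _ _ => mul_left_cancel) (Set.toFinite _)) (by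
        change Nat.card {x // x ∈ Q ∧ π x ∈ ({0, a, b, a + b} : Set V8)} ≤ 8
        omega)
    rintro _ ⟨g, hg, rfl⟩
    obtain ⟨gN, gJ⟩ := (hY g).1 (hT.le hg)
    have yN := mul_mem (mul_mem gN hy) (inv_mem gN)
    obtain ⟨j, hj⟩ := isPGroup_iff_mem.1 hT.pgroup _ (mul_mem (inv_mem yT) (mul_mem (mul_mem hg yT) (inv_mem hg)))
    have hq := h.ker2 (mul_mem (inv_mem hy) yN) (by
      rw [h.qa.ρ_mul (inv_mem hy) yN, h.qa.ρ_inv hy, h.qa.ρ_conj gN hy, e, (hJ _ gJ).1, inv_mul_cancel]) hj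
    refine ⟨hq, mem2 fun s s1 s2 => ?_⟩
    obtain ⟨u, hu, rfl⟩ := h.co.surj s
    refine (h.co.polar_iff hu hq).2 ?_
    have h3 := k1 _ (mul_mem (conj_mem_of_mem_normalizer (inv_mem gN) hu) (inv_mem hu)) (by
      rw [h.qa.π_comm (inv_mem gN) hu, h.qa.ρ_inv gN]
      exact (hJ _ (inv_mem gJ)).2 _ s1 s2)
    have h4 : y * u * y⁻¹ = u ∨ y * u * y⁻¹ = u * z := (h.co.eq_iff hu (conj_mem_of_mem_normalizer hy hu)).1 (by
      rw [← h.act y hy u hu, e, eich_apply_of_orth s1 s2])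
    obtain ⟨ε, ε1, ε2⟩ : ∃ ε, g * ε * g⁻¹ = ε ∧ y * u * y⁻¹ = u * ε :=
      h4.elim (fun k => ⟨1, by simp, by simpa using k⟩) fun k => ⟨z, qb_N_z h.co.es gN, k⟩
    have h5 : g * y * g⁻¹ * u * (g * y * g⁻¹)⁻¹ = y * u * y⁻¹ := by
      calc _ = g * (y * (g⁻¹ * u * g⁻¹⁻¹ * u⁻¹) * y⁻¹ * (y * u * y⁻¹)) * g⁻¹ := by group
        _ = u * (g * ε * g⁻¹) := by rw [h3.eq, ε2]; group
        _ = _ := by rw [ε1, ε2]
    calc _ = y⁻¹ * (y * u * y⁻¹) * (g * y * g⁻¹) := by group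
      _ = _ := by rw [← h5]; group
  have h1 := card_mul_relIndex' hT.le
  have h2 : 2 ^ 19 ∣ Nat.card T := by
    refine Nat.Coprime.dvd_of_dvd_mul_right ((Nat.prime_two.coprime_iff_not_dvd.2 hT.not_dvd).pow_left 19) ?_
    rw [h1, cY, mul_right_comm]
    exact Dvd.dvd.mul_right (mul_dvd_mul (by norm_num : 2 ^ 9 ∣ 512) cJ) _
  have h3 := card_mul_relIndex' (inf_le_left : T ⊓ centralizer {y} ≤ T)
  rw [inf_relIndex_left] at h3
  obtain ⟨n, hn⟩ := (hT.pgroup.to_le (inf_le_left : T ⊓ centralizer {y} ≤ T)).exists_card_eq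
  refine dvd_trans ?_ (card_dvd_of_le (inf_le_right : T ⊓ centralizer {y} ≤ _))
  have := Nat.le_of_dvd Nat.card_pos h2
  rw [hn] at h3 ⊢
  exact pow_dvd_pow 2 ((Nat.pow_le_pow_iff_right one_lt_two).1 (by nlinarith))

end QX0

theorem QX.conj (h : QX Q O z π ρ) (g : G) : QX (cj g Q) (cj g O) (g * z * g⁻¹)
    (fun y => π (g⁻¹ * y * g)) (fun y => ρ (g⁻¹ * y * g)) :=
  ⟨h.toQX0.conj g, fun k hk => h.memE _ (by rwa [← cj_normalizer, mem_cj] at hk)⟩

end CfsgLib.G2C
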