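import Cfsg.Agent.Lib.G2C.Zero
import Cfsg.Agent.Lib.G2C.QB

/-! Package P3b: the extraspecial group Q = Q1 Q2 (plans/G2C2.md) -/

set_option autoImplicit false
set_option linter.unusedSectionVars false
set_option linter.unusedVariables false

namespace CfsgLib.G2C

open Subgroup Cfsg CfsgLib.Tech CfsgLib.StdR2 CfsgLib.Chev CfsgLib.OrthE CfsgLib.ExtraTwo
  CfsgLib.Co1Rec QuadraticMap
open scoped commutatorElement

variable {F : Type*} [Field F] [Fintype F] {G : Type*} [Group G] [Finite G] {ι : Γ F →* G}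

section
variable {A B : Subgroup G} {z g : G}

theorem p3_le (c : ∀ a ∈ A, ∀ b ∈ B, Commute a b) : A ≤ normalizer (B : Set G) := fun a ha =>
  centralizer_le_normalizer _ fun b hb => (c a ha b hb).symm

theorem p3_mem (c : ∀ a ∈ A, ∀ b ∈ B, Commute a b) : g ∈ A ⊔ B ↔ ∃ a ∈ A, ∃ b ∈ B, a * b = g :=
  Core.mem_sup_of_le_normalizer_right (p3_le c)

theorem p3_nm (a : ∀ x ∈ A, g * x * g⁻¹ ∈ A ⊔ B) (b : ∀ x ∈ B, g * x * g⁻¹ ∈ A ⊔ B) :
    g ∈ normalizer ((A ⊔ B : Subgroup G) : Set G) :=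
  mem_normalizer_of_cj_le (by rw [cj_sup]; exact sup_le (cj_le_iff.2 a) (cj_le_iff.2 b))

theorem p3_half {n : ℕ} (c : Nat.card A = 2 * n) {x : G} (hx : x ∈ A) (h : x ∉ B) : Nat.card (A ⊓ B : Subgroup G) ≤ n := by
  have h1 := card_mul_relIndex' (inf_le_left : A ⊓ B ≤ A)
  have h2 : (A ⊓ B).relIndex A ≠ 1 := fun e => h (relIndex_eq_one.1 e hx).2
  have h3 : (A ⊓ B).relIndex A ≠ 0 := fun e => by rw [e] at h1; exact Nat.card_pos.ne h1
  have h4 : 2 ≤ (A ⊓ B).relIndex A := by omega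
  nlinarith

/-- central products of extraspecial groups -/
theorem p3_es (a : ES A z) (b : ES B z) (c : ∀ a ∈ A, ∀ b ∈ B, Commute a b) : ES (A ⊔ B) z := by
  have cz : ∀ x ∈ A ⊔ B, Commute x z := fun x hx => by
    obtain ⟨p, hp, q, hq, rfl⟩ := (p3_mem c).1 hx
    exact Commute.mul_left (a.comm_z p hp) (b.comm_z q hq)
  refine ⟨a.ne_one, a.mul_self, mem_sup_left a.mem, cz, fun x hx k => ?_, fun x hx y hy => ?_,
    let ⟨x, hx, y, hy, e⟩ := a.nonab; ⟨x, mem_sup_left hx, y, mem_sup_left hy, e⟩⟩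
  · obtain ⟨p, hp, q, hq, rfl⟩ := (p3_mem c).1 hx
    have k1 := a.center p hp fun u hu => by
      simpa using (Commute.mul_right (k u (mem_sup_left hu)) (c u hu q hq).inv_right).eq
    have k2 := b.center q hq fun u hu => by
      simpa using (Commute.mul_right (c p hp u hu).symm.inv_right (k u (mem_sup_right hu))).eq
    rcases k1 with rfl | rfl <;> rcases k2 with rfl | rfl <;> simp [a.mul_self]
  · obtain ⟨p, hp, q, hq, rfl⟩ := (p3_mem c).1 hx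
    obtain ⟨p', hp', q', hq', rfl⟩ := (p3_mem c).1 hy
    rw [(c p' hp' q hq).symm.mul_mul_mul_comm, (c p hp q' hq').symm.mul_mul_mul_comm]
    have k : p' * p * (z * (q' * q)) = z * (p' * p * (q' * q)) := by
      rw [← mul_assoc, a.comm_z _ (mul_mem hp' hp), mul_assoc]
    rcases a.comm p hp p' hp' with e | e <;> rcases b.comm q hq q' hq' with e' | e' <;> rw [e, e']
    · exact Or.inl rfl
    · exact Or.inr k
    · exact Or.inr (mul_assoc _ _ _)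
    · exact Or.inl (by rw [mul_assoc, k, a.zz])

theorem p3_plus (a : MinusType A z 1) (b : MinusType B z 1) (c : ∀ a ∈ A, ∀ b ∈ B, Commute a b) :
    ∃ π, Coord (A ⊔ B) z q8 π := by
  obtain ⟨π, c1⟩ := a.coord
  obtain ⟨π', c2⟩ := b.coord
  have cA : Nat.card A = 32 := by rw [c1.card_eq]; simp
  have cB : Nat.card B = 32 := by rw [c2.card_eq]; simp
  have hI : A ⊓ B = zpowers z := le_antisymm
    (fun x hx => c1.es.mem_zpowers.2 (c1.es.center x hx.1 fun q hq => c q hq x hx.2))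
    (zpowers_le.2 ⟨c1.es.mem, c2.es.mem⟩)
  have h1 := Core.card_sup_mul_card_inf_of_le_normalizer (p3_le c)
  rw [hI, Nat.card_zpowers, c1.es.orderOf_eq, cA, cB] at h1
  let D : Subgroup G :=
    { carrier := {x | ∃ p ∈ A, ∃ q ∈ B, π p = π' q ∧ p * q = x}
      one_mem' := ⟨1, one_mem _, 1, one_mem _, by rw [c1.map_one, c2.map_one], mul_one _⟩
      mul_mem' := by
        rintro _ _ ⟨p, hp, q, hq, e, rfl⟩ ⟨p', hp', q', hq', e', rfl⟩
        exact ⟨_, mul_mem hp hp', _, mul_mem hq hq', by rw [c1.map_mul p hp p' hp', c2.map_mul q hq q' hq', e, e'],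
          ((c p' hp' q hq).symm.mul_mul_mul_comm _ _).symm⟩
      inv_mem' := by
        rintro _ ⟨p, hp, q, hq, e, rfl⟩
        exact ⟨_, inv_mem hp, _, inv_mem hq, by rw [c1.map_inv hp, c2.map_inv hq, e],
          by rw [(c p hp q hq).eq, mul_inv_rev]⟩ }
  refine ((p3_es c1.es c2.es c).plusType_of_exists (n := 4) (by omega) (A := D) ?_ ?_ ?_).coord
  · rintro _ ⟨p, hp, q, hq, -, rfl⟩
    exact mul_mem_sup hp hq
  · rintro _ ⟨p, hp, q, hq, e, rfl⟩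
    rw [(c p hp q hq).mul_pow, pow_two, pow_two]
    rcases c1.es.sq hp with k | k
    · rw [k, (c2.sq q hq).1 (e ▸ (c1.sq p hp).2 k), mul_one]
    · rw [k, (c2.sq_one hq).1 (e ▸ (c1.sq_one hp).2 k), c1.es.mul_self]
  · choose s hs hs' using c2.surj
    have := Nat.card_le_card_of_injective (fun p : A => (⟨_, p, p.2, s (π p), hs _, (hs' _).symm, rfl⟩ : D)) (by
      rintro ⟨p, hp⟩ ⟨p', hp'⟩ e
      replace e : p * s (π p) = p' * s (π p') := congrArg Subtype.val e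
      have k : p'⁻¹ * p ∈ A ⊓ B := mem_inf.2 ⟨mul_mem (inv_mem hp') hp, by
        rw [show p'⁻¹ * p = s (π p') * (s (π p))⁻¹ by rw [eq_mul_inv_iff_mul_eq, mul_assoc, e]; group]
        exact mul_mem (hs _) (inv_mem (hs _))⟩
      have k2 := (c1.ker _ k.1).2 (c1.es.mem_zpowers.1 (hI ▸ k))
      rw [c1.map_mul _ (inv_mem hp') _ hp, c1.map_inv hp', add_eq_zero_zmod2] at k2
      rw [k2] at e
      exact Subtype.ext (mul_right_cancel e))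
    omega

end

namespace S2b

variable {V O : Subgroup G} {n τ : G} {S Q1 : Subgroup G} {φ : G} {Q2 : Subgroup G} {π : G → V8}
  {ρ : G → OrthE.O q8} {g q r u : G} (h : S2b ι V O n τ S Q1 φ Q2)
include h

theorem es2 : ES Q2 (zz ι) := h.min2.coord.choose_spec.es

theorem c12 : ∀ q ∈ Q1, ∀ u ∈ Q2, Commute q u := fun q hq u hu =>
  ((h.cQ1 u).2 ⟨1, one_mem _, u, hu, 1, one_mem _, by simp⟩ q hq).symm

theorem Q2L : Q2 ≤ LL ι := h.Q2R.trans RA_le_LL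

theorem OA {o a : G} (ho : o ∈ O) (ha : a ∈ LL ι) : Commute o a := comm_KA (h.OK ho) (LL_le ha)

theorem eq_one_O {o : G} (ho : o ∈ O) {j : ℕ} (e : o ^ 2 ^ j = 1) : o = 1 :=
  orderOf_eq_one_iff.1 (Nat.eq_one_of_dvd_coprimes
    ((h.odd.of_dvd_nat (orderOf_dvd_natCard O ho)).coprime_two_right.pow_right _) dvd_rfl
    (orderOf_dvd_of_pow_eq_one e))

theorem cQ (g : G) : (∀ u ∈ Q1 ⊔ Q2, Commute g u) ↔ ∃ o ∈ O, g = o ∨ g = zz ι * o := by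
  refine ⟨fun c => ?_, ?_⟩
  · obtain ⟨o, ho, u, hu, a, ha, rfl⟩ := (h.cQ1 g).1 fun q hq => c q (mem_sup_left hq)
    have k : ∀ y ∈ Q2, Commute (u * a) y := fun y hy => by
      simpa [mul_assoc] using (h.OA ho (h.Q2L hy)).inv_left.mul_left (c y (mem_sup_right hy))
    obtain rfl := h.ne2 a ha fun y hy => by
      rw [show ⁅a, y⁆ = u⁻¹ * (u * a * y * (u * a)⁻¹) * u⁻¹⁻¹ * y⁻¹ by rw [commutatorElement_def]; group, (k y hy).eq,
        mul_inv_cancel_right]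
      rcases h.es2.commutator (inv_mem hu) hy with e | e <;> rw [e]
      exacts [one_mem _, zz_mem]
    refine ⟨o, ho, ?_⟩
    rcases h.es2.center u hu fun y hy => by simpa using (k y hy).symm.eq with rfl | rfl
    · simp
    · exact Or.inr (by rw [mul_one, (h.OA ho (h.Q2L hu)).eq])
  · rintro ⟨o, ho, e⟩ y hy
    have k : Commute o y := by
      obtain ⟨p, hp, q, hq, rfl⟩ := (p3_mem h.c12).1 hy
      exact ((h.cQ1 o).2 ⟨o, ho, 1, one_mem _, 1, one_mem _, by simp⟩ p hp).mul_right (h.OA ho (h.Q2L hq))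
    rcases e with rfl | rfl
    exacts [k, Commute.mul_left (Commute.symm ((p3_es h.es1 h.es2 h.c12).comm_z y hy)) k]

theorem memR : r ∈ RR ι S ↔ ∃ c ∈ S, ∃ a ∈ RA ι, c * a = r := p3_mem fun c hc _ ha => h.SL c hc _ (RA_le_LL ha)

theorem RZ (hr : r ∈ RR ι S) {ζ : G} (hζ : ζ ∈ ZZ ι) : Commute r ζ := by
  obtain ⟨c, hc, a, ha, rfl⟩ := h.memR.1 hr
  exact (h.SL c hc _ (ZZ_le_LL hζ)).mul_left (h.LZ (RA_le_LL ha) hζ)

theorem commRR {r' : G} (hr : r ∈ RR ι S) (hr' : r' ∈ RR ι S) : r * r' * r⁻¹ * r'⁻¹ ∈ ZZ ι := by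
  obtain ⟨c, hc, a, ha, rfl⟩ := h.memR.1 hr
  obtain ⟨d, hd, b, hb, rfl⟩ := h.memR.1 hr'
  have e : c * a * (d * b) * (c * a)⁻¹ = c * d * c⁻¹ * (a * b * a⁻¹) := by
    rw [← conj_mul, mul_inv_rev, show c * a * d * (a⁻¹ * c⁻¹) = c * (a * d * a⁻¹) * c⁻¹ by group,
      show c * a * b * (a⁻¹ * c⁻¹) = c * (a * b * a⁻¹) * c⁻¹ by group, ← (h.SL d hd a (RA_le_LL ha)).eq,
      (h.SL c hc _ (RA_le_LL (mul_mem (mul_mem ha hb) (inv_mem ha)))).eq, mul_inv_cancel_right, mul_inv_cancel_right]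
  rw [e, show c * d * c⁻¹ * (a * b * a⁻¹) * (d * b)⁻¹ = ⁅c, d⁆ * (d * ⁅a, b⁆ * d⁻¹) by
    simp only [commutatorElement_def]; group, (h.SL d hd _ (ZZ_le_LL (h.commR ha hb))).eq, mul_inv_cancel_right]
  exact mul_mem (h.commS c hc d hd) (h.commR ha hb)

theorem SQ1 {c : G} (hc : c ∈ S) : c ∈ normalizer (Q1 : Set G) :=
  h.norm1 c (fun a ha => h.SL c hc a (A2_le_LL ha)) (h.SL c hc _ (ZZ_le_LL zz_mem))

theorem RAN : RA ι ≤ normalizer ((Q1 ⊔ Q2 : Subgroup G) : Set G) := fun r hr =>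
  p3_nm (fun x hx => (mul_mem_cancel_right (inv_mem (mem_sup_left hx))).1 (h.RQ r hr x hx)) fun x hx =>
    (mul_mem_cancel_right (inv_mem (mem_sup_right hx))).1 (mem_sup_left (h.ZQ1 (h.commR hr (h.Q2R hx))))

theorem RN : RR ι S ≤ normalizer ((Q1 ⊔ Q2 : Subgroup G) : Set G) :=
  sup_le (fun c hc => p3_nm (fun x hx => mem_sup_left (conj_mem_of_mem_normalizer (h.SQ1 hc) hx)) fun x hx => by
    rw [(h.SL c hc x (h.Q2L hx)).eq, mul_inv_cancel_right]; exact mem_sup_right hx) h.RAN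

theorem LN : LL ι ≤ normalizer ((Q1 ⊔ Q2 : Subgroup G) : Set G) :=
  sup_le h.RAN fun a ha => p3_nm (fun x hx => by
    rw [← (h.Q1A x hx a ha).eq, mul_inv_cancel_right]; exact mem_sup_left hx)
    fun x hx => mem_sup_right (conj_mem_of_mem_normalizer (h.A2Q ha) hx)

theorem φN : φ ∈ normalizer ((Q1 ⊔ Q2 : Subgroup G) : Set G) := by
  have n1 := h.norm1 φ h.φA h.φz
  have k : ∀ y ∈ cj φ Q2, ∃ u ∈ Q2, ∃ a ∈ A2 ι, y = u * a := by
    rintro _ ⟨y, hy, rfl⟩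
    obtain ⟨o, ho, u, hu, a, ha, e⟩ := (h.cQ1 (φ * y * φ⁻¹)).1 fun q hq => by
      simpa [mul_assoc] using (h.c12 _ (conj_mem_of_mem_normalizer' n1 hq) y hy).symm.conj φ
    have m := mul_mem (h.Q2L hu) (A2_le_LL ha)
    have e2 : o ^ 2 ^ 2 * (u * a) ^ 2 ^ 2 = 1 := by
      rw [← (h.OA ho m).mul_pow, ← mul_assoc, ← e, conj_pow, show y ^ 2 ^ 2 = 1 from h.es2.pow_four hy]; group
    rw [h.eq_one_O ho (h.eq_one_KA (h.OK (pow_mem ho _))
      (eq_inv_of_mul_eq_one_left e2 ▸ inv_mem (LL_le (pow_mem m _)))), one_mul] at e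
    exact ⟨u, hu, a, ha, e⟩
  have l : cj φ Q2 ≤ LL ι := fun y hy => by
    obtain ⟨u, hu, a, ha, rfl⟩ := k y hy
    exact mul_mem (h.Q2L hu) (A2_le_LL ha)
  have := h.twoL (B := cj φ Q2 ⊔ RA ι) (sup_le l RA_le_LL) (sup_le (le_sup_right.trans le_normalizer) fun a ha => by
    rw [mem_normalizer_iff_cj, cj_sup, ← cj_mul, ← (h.φA a ha).eq, cj_mul, mem_normalizer_iff_cj.1 (h.A2Q ha),
      mem_normalizer_iff_cj.1 (h.LR (A2_le_LL ha))])
    ((isPGroup_cj φ h.es2.isPGroup).to_sup_of_normal_right' h.twoR (l.trans h.LR))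
  refine p3_nm (fun x hx => mem_sup_left (conj_mem_of_mem_normalizer n1 hx)) fun x hx => ?_
  obtain ⟨u, hu, a, ha, e⟩ := k _ (conj_mem_cj.2 hx)
  have a1 : a ∈ RA ι ⊓ A2 ι :=
    ⟨(mul_mem_cancel_left (h.Q2R hu)).1 (e ▸ this (mem_sup_left (conj_mem_cj.2 hx))), ha⟩
  rw [h.RA_inf_A2, mem_bot] at a1
  rw [e, a1, mul_one]
  exact mem_sup_right hu

theorem sQ : τ * zz ι * τ⁻¹ ∈ Q1 := h.ZQ1 h.tau.s_mem

theorem memZ {ζ : G} : ζ ∈ ZZ ι ↔ ζ = 1 ∨ ζ = zz ι ∨ ζ = τ * zz ι * τ⁻¹ ∨ ζ = zz ι * (τ * zz ι * τ⁻¹) :=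
  h.mem_ZZ h.tau.s_mem (Tau.s_ne_one h.toEmb τ) (h.tau.s_ne h.toEmb)

theorem mem_S (hq : q ∈ Q1) (c : Commute q (τ * zz ι * τ⁻¹)) : q ∈ S := by
  obtain ⟨y, hy, e⟩ := h.es1.exists_not_comm h.sQ (Tau.s_ne_one h.toEmb τ) (h.tau.s_ne h.toEmb)
  have := eq_of_le_of_card_ge (H := S ⊓ Q1) (K := Q1 ⊓ centralizer {τ * zz ι * τ⁻¹})
    (fun x hx => ⟨hx.2, mem_centralizer_singleton_iff.2 (h.SL x hx.1 _ (ZZ_le_LL h.tau.s_mem))⟩)
    (h.cardSQ ▸ p3_half h.card1 hy fun k => e (mem_centralizer_singleton_iff.1 k))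
  exact (this.ge ⟨hq, mem_centralizer_singleton_iff.2 c⟩).1

theorem mem_R (hu : u ∈ Q1 ⊔ Q2) (c : Commute u (τ * zz ι * τ⁻¹)) : u ∈ RR ι S := by
  obtain ⟨p, hp, q, hq, rfl⟩ := (p3_mem h.c12).1 hu
  exact mul_mem_sup (h.mem_S hp (by simpa using c.mul_left (h.c12 _ h.sQ q hq).symm.inv_left)) (h.Q2R hq)

theorem ker2 (a : QA (Q1 ⊔ Q2) (zz ι) π ρ) (hr : r ∈ RR ι S) (e : ρ r = 1) : r ∈ Q1 ⊔ Q2 := by
  obtain ⟨u, hu, c, hc, rfl⟩ := (a.ker' (h.RN hr)).1 e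
  have h2 : c ^ 2 ^ 16 = 1 := by
    have := (hc u hu).symm.mul_pow (2 ^ 14 * 2 ^ 2)
    rwa [pow_mul, ← h.cardR, show (u * c) ^ Nat.card (RR ι S) = 1 from
      congrArg Subtype.val (pow_card_eq_one' (x := (⟨_, hr⟩ : RR ι S))), one_pow, pow_mul' u,
      show u ^ 2 ^ 2 = 1 from a.co.es.pow_four hu, one_pow, one_mul, h.cardR, ← pow_add, eq_comm] at this
  obtain ⟨o, ho, rfl | rfl⟩ := (h.cQ c).1 hc
  · rwa [h.eq_one_O ho h2, mul_one]
  · rw [(h.OA ho (ZZ_le_LL zz_mem)).symm.mul_pow, pow_succ' 2, pow_mul, pow_two, h.es1.mul_self, one_pow, one_mul,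
      ← pow_succ'] at h2
    rw [h.eq_one_O ho h2, mul_one]
    exact mul_mem hu a.co.es.mem

theorem hyp (a : QA (Q1 ⊔ Q2) (zz ι) π ρ) :
    Hyp q8 (π (τ * zz ι * τ⁻¹)) ((ρ φ).1 (π (τ * zz ι * τ⁻¹))) := by
  have m := mem_sup_left (T := Q2) h.sQ
  have k := (a.co.sq _ m).2 (h.sqZ h.tau.s_mem)
  refine ⟨k, (O_map _ _).trans k, zmod2_ne_zero.1 fun e => ?_⟩
  rw [a.act φ h.φN _ m, a.co.polar_iff m (conj_mem_of_mem_normalizer h.φN m)] at e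
  exact h.φs _ h.tau.s_mem (Tau.s_ne_one h.toEmb τ) (h.tau.s_ne h.toEmb) e

theorem ρR (a : QA (Q1 ⊔ Q2) (zz ι) π ρ) (hr : r ∈ RR ι S) : ∃ w, polar q8 w (π (τ * zz ι * τ⁻¹)) = 0 ∧
    polar q8 w ((ρ φ).1 (π (τ * zz ι * τ⁻¹))) = 0 ∧ ρ r = eich q8 (π (τ * zz ι * τ⁻¹)) w := by
  have m := mem_sup_left (T := Q2) h.sQ
  refine eq_eich (h.hyp a) (by rw [a.act r (h.RN hr) _ m, (h.RZ hr h.tau.s_mem).eq, mul_inv_cancel_right])
    fun v hv => ?_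
  obtain ⟨u, hu, rfl⟩ := a.co.surj v
  have k := a.π_comm (h.RN hr) hu
  rcases h.memZ.1 (h.commRR hr (h.mem_R hu ((a.co.polar_iff hu m).1 hv))) with e | e | e | e <;> rw [e] at k
  · exact Or.inl (add_eq_zero_zmod2.1 (k.symm.trans a.co.map_one))
  · exact Or.inl (add_eq_zero_zmod2.1 (k.symm.trans a.co.map_z))
  · exact Or.inr (by rw [k, add_comm, aa''])
  · exact Or.inr (by rw [← zero_add (π (τ * zz ι * τ⁻¹)), ← a.co.map_z, ← a.co.map_mul _ a.co.es.mem _ m, k, add_comm, aa''])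

theorem Rρ (a : QA (Q1 ⊔ Q2) (zz ι) π ρ) {w : V8} (hw : polar q8 (π (τ * zz ι * τ⁻¹)) w = 0) :
    ∃ r ∈ RR ι S, ρ r = eich q8 (π (τ * zz ι * τ⁻¹)) w := by
  have := finite_O8
  have y := h.hyp a
  obtain ⟨ψ, hψ⟩ := a.exists_hom
  obtain ⟨u, hu, e⟩ := a.co.es.exists_not_comm (mem_sup_left h.sQ) (Tau.s_ne_one h.toEmb τ) (h.tau.s_ne h.toEmb)
  have h1 := p3_half (n := 256) a.cardQ hu fun k => e (mem_centralizer_singleton_iff.1 k)
  have h2 := card_mul_relIndex' (inf_le_left (b := ψ.ker) (a := (RR ι S).subgroupOf _))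
  rw [inf_relIndex_left, relIndex_ker, Nat.card_congr (subgroupOfEquivOfLe h.RN).toEquiv, h.cardR,
    ← card_subtype] at h2
  have h3 := (card_le_of_le (show ((RR ι S).subgroupOf _ ⊓ ψ.ker).map (normalizer _).subtype ≤
    (Q1 ⊔ Q2) ⊓ centralizer {τ * zz ι * τ⁻¹} by
      rintro _ ⟨g, hg, rfl⟩
      exact ⟨h.ker2 a hg.1 ((hψ g).symm.trans hg.2), mem_centralizer_singleton_iff.2 (h.RZ hg.1 h.tau.s_mem)⟩)).trans h1
  have h4 := Set.eq_of_subset_of_ncard_le (s := (((RR ι S).subgroupOf _).map ψ : Subgroup _))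
    (t := Set.range fun x : W q8 _ _ => eich q8 (π (τ * zz ι * τ⁻¹)) x) (by
      rintro _ ⟨g, hg, rfl⟩
      obtain ⟨w, w1, w2, e⟩ := h.ρR a hg
      exact ⟨⟨w, mem_W.2 ⟨w1, w2⟩⟩, ((hψ g).trans e).symm⟩) (by
      refine (Finite.card_range_le _).trans ?_
      have := y.finrank_eq
      rw [finrank_V8] at this
      rw [Module.natCard_eq_pow_finrank (K := ZMod 2), Nat.card_zmod, show Module.finrank (ZMod 2) _ = 6 by omega]
      change _ ≤ Nat.card (((RR ι S).subgroupOf _).map ψ)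
      nlinarith)
  obtain ⟨g, hg, e⟩ := h4.ge ⟨⟨_, y.pr_mem w⟩, (y.eich_eq_pr hw).symm⟩
  exact ⟨g, hg, (hψ g).symm.trans e⟩

theorem surj (a : QA (Q1 ⊔ Q2) (zz ι) π ρ) : ∀ e ∈ OrthE.E q8,
    ∃ g ∈ normalizer ((Q1 ⊔ Q2 : Subgroup G) : Set G), ρ g = e := fun e he => by
  obtain ⟨ψ, hψ⟩ := a.exists_hom
  have y := h.hyp a
  have k : ∀ w, polar q8 (π (τ * zz ι * τ⁻¹)) w = 0 → eich q8 (π (τ * zz ι * τ⁻¹)) w ∈ ψ.range := fun w hw =>
    let ⟨r, hr, e⟩ := h.Rρ a hw; ⟨⟨r, h.RN hr⟩, (hψ _).trans e⟩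
  obtain ⟨g, rfl⟩ := E_le_of_hyp y.he y.hf y.hef k (fun w hw => by
    have m : ρ φ ∈ ψ.range := ⟨⟨φ, h.φN⟩, hψ _⟩
    rw [← O_apply_inv_apply (ρ φ) w, ← conj_eich]
    exact mul_mem (mul_mem m (k _ (by rwa [O_polar_left] at hw))) (inv_mem m)) he
  exact ⟨g, g.2, (hψ g).symm⟩

theorem cnt (a : QA (Q1 ⊔ Q2) (zz ι) π ρ) {v : G} (hv : v ∈ V) (v1 : v ≠ 1) :
    Nat.card {u : G // u ∈ Q1 ⊔ Q2 ∧ v * u * (v * u) = 1} ≤ 48 := by
  have vE : v ∈ EE ι V := mem_sup_left hv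
  have vS := h.leS vE
  have vZ : v ∉ ZZ ι := fun k => v1 (h.eq_one_KA (h.VK hv) (LL_le (ZZ_le_LL k)))
  have vi : v⁻¹ = v := inv_eq_of_mul_eq_one_left (h.sqV v hv)
  have v2 : ∀ y ∈ Q2, Commute v y := fun y hy => h.SL v vS y (h.Q2L hy)
  have vz : ∀ y ∈ ZZ ι, Commute v y := fun y hy => h.SL v vS y (ZZ_le_LL hy)
  have m := mem_sup_left (T := Q2) h.sQ
  have cZ : ∀ c ∈ S, c ∈ Q1 → Commute v c → c ∈ ZZ ι := fun c hc h1 k => by
    by_contra k2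
    exact vZ (h.cenS c hc (fun e => k2 (h.EQ1 c e h1)) v vE k.symm)
  have k1 : ∀ p ∈ Q1, v * p * v⁻¹ = p ∨ v * p * v⁻¹ = p * zz ι → p ∈ S := fun p hp k => by
    have hp' := mem_sup_left (T := Q2) hp
    refine h.mem_S hp ((a.co.polar_iff hp' m).1 (by_contra fun k2 => ?_))
    obtain ⟨w, w1, -, e⟩ := h.ρR a (mem_sup_left vS)
    rw [polar_comm] at w1
    have k3 := (a.co.eq_iff hp' (conj_mem_of_mem_normalizer (h.RN (mem_sup_left vS)) hp')).2 k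
    rw [← a.act v (h.RN (mem_sup_left vS)) p hp', e, eich8 (h.hyp a).he w1, zmod2_ne_zero.1 k2, one_smul, add_assoc,
      add_assoc, left_eq_add, add_left_comm, ← add_smul, add_eq_zero_zmod2] at k3
    obtain ⟨p, hp, q, hq, rfl⟩ := (p3_mem h.c12).1 (h.ker2 a (mem_sup_left vS) (by rw [e, k3, eich_smul_self]))
    refine vZ (h.EQ1 _ vE (mul_mem hp ?_))
    rcases h.es2.center q hq fun y hy => by
      simpa using ((h.c12 p hp y hy).inv_left.mul_left (v2 y hy)).symm.eq with rfl | rfl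
    exacts [one_mem _, h.es1.mem]
  obtain ⟨c, hc⟩ : ∃ c, ∀ p ∈ Q1, v * p * v⁻¹ = p * zz ι → c⁻¹ * p ∈ ZZ ι := by
    by_cases e : ∃ c ∈ Q1, v * c * v⁻¹ = c * zz ι
    · obtain ⟨c, hc, e⟩ := e
      refine ⟨c, fun p hp e' => cZ _ (mul_mem (inv_mem (k1 c hc (Or.inr e))) (k1 p hp (Or.inr e')))
        (mul_mem (inv_mem hc) hp) (mul_inv_eq_iff_eq_mul.1 ?_)⟩
      rw [← conj_mul, ← conj_inv, e, e', h.es1.comm_z p hp, h.es1.comm_z c hc]
      group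
    · exact ⟨1, fun p hp k => absurd ⟨p, hp, k⟩ e⟩
  have key : ∀ u : {u : G // u ∈ Q1 ⊔ Q2 ∧ v * u * (v * u) = 1}, ∃ i : Fin 2 × Fin 2,
      ∃ y : {x : G // x ∈ Q2 ∧ x ^ 2 = 1}, (u : G) = c ^ i.1.1 * (τ * zz ι * τ⁻¹) ^ i.2.1 * y := by
    rintro ⟨_, hu, e⟩
    obtain ⟨p, hp, q, hq, rfl⟩ := (p3_mem h.c12).1 hu
    have e1 : v * p * v⁻¹ * (p * p * (q * q)) * p⁻¹ = 1 := by
      rw [← mul_assoc v p q, ((v2 q hq).mul_left (h.c12 p hp q hq)).symm.mul_mul_mul_comm] at e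
      rw [mul_assoc p p, (h.c12 p hp _ (mul_mem hq hq)).eq, vi, ← e]; group
    have k2 : ∀ ζ ∈ ZZ ι, ∀ i : Fin 2, q * q = 1 → p = c ^ i.1 * ζ → ∃ i : Fin 2 × Fin 2,
        ∃ y : {x : G // x ∈ Q2 ∧ x ^ 2 = 1}, p * q = c ^ i.1.1 * (τ * zz ι * τ⁻¹) ^ i.2.1 * y := fun ζ hζ i q2 k => by
      have zq : zz ι * q ∈ Q2 ∧ (zz ι * q) ^ 2 = 1 := ⟨mul_mem h.es2.mem hq, by
        rw [(Commute.symm (h.es2.comm_z q hq)).mul_pow, pow_two, pow_two, q2, h.es2.mul_self, mul_one]⟩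
      rcases h.memZ.1 hζ with e | e | e | e <;> rw [k, e]
      · exact ⟨(i, 0), ⟨q, hq, by rwa [pow_two]⟩, by simp⟩
      · exact ⟨(i, 0), ⟨_, zq⟩, by simp [mul_assoc]⟩
      · exact ⟨(i, 1), ⟨q, hq, by rwa [pow_two]⟩, by simp⟩
      · exact ⟨(i, 1), ⟨_, zq⟩, by rw [← h.es1.comm_z _ h.sQ]; simp [mul_assoc]⟩
    have k3 : p * p * (q * q) = 1 ∨ p * p * (q * q) = zz ι := by
      rcases h.es1.sq hp with e | e <;> rcases h.es2.sq hq with e' | e' <;> simp [e, e', h.es1.mul_self]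
    rcases k3 with k3 | k3 <;> rw [k3, mul_inv_eq_one] at e1
    · rw [mul_one] at e1
      have pZ := cZ p (k1 p hp (Or.inl e1)) hp (mul_inv_eq_iff_eq_mul.1 e1)
      exact k2 p pZ 0 (by rwa [h.sqZ pZ, one_mul] at k3) (by simp)
    · replace e1 : v * p * v⁻¹ = p * zz ι := by rw [← e1, h.es1.zz']; rw [e1]
      refine k2 _ (hc p hp e1) 1 ((h.es2.sq hq).resolve_right fun q2 => ?_) (by simp)
      rw [q2, mul_eq_right] at k3
      have cp : ∀ y ∈ ZZ ι, ∀ x ∈ zpowers p, Commute y x := by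
        rintro y hy _ ⟨i, rfl⟩
        exact (h.SL p (k1 p hp (Or.inr e1)) y (ZZ_le_LL hy)).symm.zpow_right i
      have h1 := h.min1.card_le (ZZ ι ⊔ zpowers p) (sup_le h.ZQ1 (zpowers_le.2 hp)) fun x hx => by
        obtain ⟨y, hy, x', hx', rfl⟩ := (p3_mem cp).1 hx
        rw [(cp y hy x' hx').mul_pow, pow_two, pow_two, h.sqZ hy]
        rcases (mem_zpowers_iff_of_mul_self k3).1 hx' with rfl | rfl <;> simp [k3]
      have h2 := eq_of_le_of_card_ge (le_sup_left : ZZ ι ≤ ZZ ι ⊔ zpowers p) (h.cardZ ▸ h1)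
      rw [(vz p (h2.ge (mem_sup_right (mem_zpowers p)))).eq, mul_inv_cancel_right, left_eq_mul] at e1
      exact h.es1.ne_one e1
  choose i y hy using key
  have h1 := Nat.card_le_card_of_injective (fun u => (i u, y u)) fun u u' e =>
    Subtype.ext (by rw [hy u, hy u', (Prod.mk.inj e).1, (Prod.mk.inj e).2])
  have h2 := h.min2.card_sq
  simp only [Nat.card_prod, Nat.card_fin] at h1
  omega

end S2b

theorem S2b.exists_S3 {V O : Subgroup G} {n τ : G} {S Q1 : Subgroup G} {φ : G} {Q2 : Subgroup G}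
    (h : S2b ι V O n τ S Q1 φ Q2) : ∃ Q π ρ, S3 ι V O n τ S Q π ρ := by
  obtain ⟨π, c⟩ := p3_plus h.min1 h.min2 h.c12
  obtain ⟨ρ, hρ⟩ := exists_ρ c
  have a : QA (Q1 ⊔ Q2) (zz ι) π ρ := ⟨c, hρ⟩
  obtain ⟨⟨v, hv⟩, v1⟩ := ne_bot_iff_exists_ne_one.1 (fun e : V = ⊥ => by simpa [e] using h.cardV)
  exact ⟨_, π, ρ, h.toS1, ⟨c, hρ, h.surj a, h.odd, h.cQ⟩, h.cK, h.ZQ1.trans le_sup_left, h.RN, h.LN,
    fun u hu => ⟨fun k _ hζ => (h.RZ k hζ).symm, fun k => h.mem_R hu (Commute.symm (k _ h.tau.s_mem))⟩,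
    fun r hr => let ⟨w, w1, _, e⟩ := h.ρR a hr; ⟨w, by rwa [polar_comm], e⟩, fun w hw => h.Rρ a hw,
    v, hv, fun e => v1 (Subtype.ext e), h.cnt a hv fun e => v1 (Subtype.ext e)⟩

end CfsgLib.G2C
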