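import Cfsg.Agent.Lib.G2C.Zero
import Cfsg.Agent.Lib.G2C.QB
import Cfsg.Agent.Lib.G2C.LA

/-! Package P4m: the tensor model of R (plans/G2C2.md) -/

set_option autoImplicit false
set_option linter.unusedSectionVars false

namespace CfsgLib.G2C

open Subgroup Cfsg CfsgLib.Tech CfsgLib.StdR2 CfsgLib.Chev CfsgLib.OrthE CfsgLib.ExtraTwo
  CfsgLib.Co1Rec QuadraticMap
open scoped commutatorElement

variable {F : Type*} [Field F] [Fintype F] {G : Type*} [Group G] [Finite G] {ι : Γ F →* G}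

namespace P4mx

/-- `R₁ = Q ∩ R` with its two maps onto the natural module -/
structure AB (D : Set G) (Z R P : Subgroup G) (z1 z2 τ : G) (α β : G → V6) (ν : G → OrthE.O q6) :
    Prop where
  Dconj : ∀ d ∈ D, ∀ g, g * d * g⁻¹ ∈ D
  memZ : ∀ ζ, ζ ∈ Z ↔ ζ = 1 ∨ ζ = z1 ∨ ζ = z2 ∨ ζ = z1 * z2
  o1 : orderOf z1 = 2
  o2 : orderOf z2 = 2
  ne : z1 ≠ z2
  ZP : Z ≤ P
  PR : P ≤ R
  cen : R ≤ centralizer (Z : Set G)
  τR : τ ∈ normalizer (R : Set G)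
  τZ : τ ∈ normalizer (Z : Set G)
  τ1 : τ * z1 * τ⁻¹ = z2
  τ2 : τ * z2 * τ⁻¹ = z1 * z2
  αmul : ∀ x ∈ P, ∀ y ∈ P, α (x * y) = α x + α y
  αsurj : ∀ v, ∃ x ∈ P, α x = v
  αker : ∀ x ∈ P, α x = 0 ↔ x ∈ Z
  αsq : ∀ x ∈ P, x * x = z1 ^ (q6 (α x)).val
  βmul : ∀ x ∈ R, ∀ y ∈ R, β (x * y) = β x + β y
  βker : ∀ x ∈ R, β x = 0 ↔ x ∈ P
  αact : ∀ g ∈ normalizer (R : Set G), g ∈ centralizer (Z : Set G) → ∀ x ∈ P,
    g * x * g⁻¹ ∈ P ∧ α (g * x * g⁻¹) = (ν g).1 (α x)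
  βact : ∀ g ∈ normalizer (R : Set G), g ∈ centralizer (Z : Set G) → ∀ x ∈ R,
    β (g * x * g⁻¹) = (ν g).1 (β x)
  memE : ∀ g ∈ normalizer (R : Set G), g ∈ centralizer (Z : Set G) → ν g ∈ OrthE.E q6
  νsurj : ∀ a b, q6 a = 1 → q6 b = 1 → ∃ g ∈ normalizer (R : Set G), g ∈ centralizer (Z : Set G) ∧
    ν g = OrthE.refl q6 a * OrthE.refl q6 b
  comm : ∀ x ∈ P, ∀ r ∈ R, r * x * r⁻¹ * x⁻¹ ∈ Z ∧
    (polar q6 (α x) (β r) = 0 ↔ r * x * r⁻¹ * x⁻¹ = 1 ∨ r * x * r⁻¹ * x⁻¹ = z1)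
  memD : ∀ r ∈ R, r ∈ D ↔ r * r = 1 ∧ q6 (β r) = 1
  notD : ∀ x ∈ P, x ∉ D
  ker2 : ∀ g ∈ normalizer (R : Set G), g ∈ centralizer (Z : Set G) → ν g = 1 → g ^ 4 = 1 → g ∈ R
  DN : ∀ c ∈ centralizer (Z : Set G), ∀ r ∈ R, r ∈ D → c * r * c⁻¹ ∈ R → c ∈ normalizer (R : Set G)

theorem conj_cent {Z : Subgroup G} {t g : G} (ht : t ∈ normalizer (Z : Set G))
    (hg : g ∈ centralizer (Z : Set G)) : t * g * t⁻¹ ∈ centralizer (Z : Set G) := fun ζ hζ => by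
  have := hg _ (conj_mem_of_mem_normalizer' ht hζ)
  calc ζ * (t * g * t⁻¹) = t * (t⁻¹ * ζ * t * g) * t⁻¹ := by group
    _ = _ := by rw [this]; group

theorem pow_val_add {z : G} (hz : z * z = 1) (a b : ZMod 2) :
    z ^ (a + b).val = z ^ a.val * z ^ b.val := by
  rcases zmod2_cases a with rfl | rfl <;> rcases zmod2_cases b with rfl | rfl <;>
    simp [ZMod.val_one, show (1 : ZMod 2) + 1 = 0 from rfl, hz]

namespace AB

variable {D : Set G} {Z R P : Subgroup G} {z1 z2 τ : G} {α β : G → V6} {ν : G → OrthE.O q6}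
  (h : AB D Z R P z1 z2 τ α β ν)
include h

theorem s1 : z1 * z1 = 1 := mul_self_of_orderOf h.o1

theorem s2 : z2 * z2 = 1 := mul_self_of_orderOf h.o2

theorem n1 : z1 ≠ 1 := ne_one_of_orderOf h.o1

theorem n2 : z2 ≠ 1 := ne_one_of_orderOf h.o2

theorem m1 : z1 ∈ Z := (h.memZ _).2 (by simp)

theorem m2 : z2 ∈ Z := (h.memZ _).2 (by simp)

theorem cZ {r ζ : G} (hr : r ∈ R) (hζ : ζ ∈ Z) : Commute ζ r := h.cen hr ζ hζ

theorem c12 : Commute z1 z2 := h.cZ (h.PR (h.ZP h.m2)) h.m1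

theorem n3 : z1 * z2 ≠ 1 := fun e => h.ne (mul_left_cancel (h.s1.trans e.symm))

theorem sqZ {ζ : G} (hζ : ζ ∈ Z) : ζ * ζ = 1 := by
  rcases (h.memZ ζ).1 hζ with rfl | rfl | rfl | rfl
  · exact one_mul 1
  · exact h.s1
  · exact h.s2
  · rw [mul_assoc, ← mul_assoc z2, ← h.c12.eq, mul_assoc, h.s2, mul_one, h.s1]

theorem τ3 : τ * (z1 * z2) * τ⁻¹ = z1 := by
  rw [show τ * (z1 * z2) * τ⁻¹ = τ * z1 * τ⁻¹ * (τ * z2 * τ⁻¹) by group, h.τ1, h.τ2, h.c12.eq,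
    ← mul_assoc, h.s2, one_mul]

theorem β_one : β 1 = 0 := (h.βker 1 (one_mem _)).2 (one_mem _)

theorem β_inv {r : G} (hr : r ∈ R) : β r⁻¹ = β r := by
  have := h.βmul _ (inv_mem hr) _ hr
  rw [inv_mul_cancel, h.β_one] at this
  exact add_eq_zero_zmod2.1 this.symm

theorem α_inv {r : G} (hr : r ∈ P) : α r⁻¹ = α r := by
  have := h.αmul _ (inv_mem hr) _ hr
  rw [inv_mul_cancel, (h.αker 1 (one_mem _)).2 (one_mem _)] at this
  exact add_eq_zero_zmod2.1 this.symm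

/-- the comparison of `α` and `β` along a conjugation -/
theorem exists_θ {t : G} (tR : t ∈ normalizer (R : Set G)) (tZ : t ∈ normalizer (Z : Set G))
    (tz : t * z1 * t⁻¹ ≠ z1) : ∃ θ : V6 →+ V6, (∀ x ∈ P, θ (α x) = β (t * x * t⁻¹)) ∧
      (∀ g ∈ normalizer (R : Set G), g ∈ centralizer (Z : Set G) → ∀ v,
        θ ((ν g).1 v) = (ν (t * g * t⁻¹)).1 (θ v)) ∧ Function.Bijective θ ∧
      ∀ v, q6 (θ v) = q6 v := by
  choose σ σ1 σ2 using h.αsurj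
  have cR : ∀ x ∈ P, t * x * t⁻¹ ∈ R := fun x hx => conj_mem_of_mem_normalizer tR (h.PR hx)
  have k : ∀ x ∈ P, β (t * σ (α x) * t⁻¹) = β (t * x * t⁻¹) := fun x hx => by
    have m : σ (α x) * x⁻¹ ∈ P := mul_mem (σ1 _) (inv_mem hx)
    have : σ (α x) * x⁻¹ ∈ Z := (h.αker _ m).1 (by
      rw [h.αmul _ (σ1 _) _ (inv_mem hx), σ2, h.α_inv hx, LAx.aa])
    rw [show t * σ (α x) * t⁻¹ = t * (σ (α x) * x⁻¹) * t⁻¹ * (t * x * t⁻¹) by group,
      h.βmul _ (cR _ m) _ (cR _ hx),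
      (h.βker _ (cR _ m)).2 (h.ZP (conj_mem_of_mem_normalizer tZ this)), zero_add]
  let θ : V6 →+ V6 := AddMonoidHom.mk' (fun v => β (t * σ v * t⁻¹)) fun v w => by
    have := k _ (mul_mem (σ1 v) (σ1 w))
    rw [h.αmul _ (σ1 v) _ (σ1 w), σ2, σ2] at this
    rw [this, ← h.βmul _ (cR _ (σ1 v)) _ (cR _ (σ1 w))]
    congr 1; group
  have k1 : ∀ x ∈ P, θ (α x) = β (t * x * t⁻¹) := k
  have k2 : ∀ g ∈ normalizer (R : Set G), g ∈ centralizer (Z : Set G) → ∀ v,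
      θ ((ν g).1 v) = (ν (t * g * t⁻¹)).1 (θ v) := fun g g1 g2 v => by
    obtain ⟨x, hx, rfl⟩ := h.αsurj v
    rw [← (h.αact g g1 g2 x hx).2, k1 _ (h.αact g g1 g2 x hx).1, k1 x hx,
      ← h.βact _ (mul_mem (mul_mem tR g1) (inv_mem tR)) (conj_cent tZ g2) _ (cR x hx)]
    congr 1; group
  have k3 : Function.Injective θ := by
    rcases irr6 θ.ker (fun a b ha hb v hv => by
      obtain ⟨g, g1, g2, e⟩ := h.νsurj a b ha hb
      rw [AddMonoidHom.mem_ker] at hv ⊢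
      rw [← e, k2 g g1 g2, hv, map_zero]) with e | e
    · exact (AddMonoidHom.ker_eq_bot_iff θ).1 e
    · exfalso
      obtain ⟨d, hd⟩ := exists_ns6
      obtain ⟨x, hx, rfl⟩ := h.αsurj d
      have h1 : θ (α x) = 0 := AddMonoidHom.mem_ker.1 (e ▸ AddSubgroup.mem_top _)
      have h2 := h.αsq _ ((h.βker _ (cR x hx)).1 (k1 x hx ▸ h1))
      rw [show t * x * t⁻¹ * (t * x * t⁻¹) = t * (x * x) * t⁻¹ by group, h.αsq x hx, hd,
        ZMod.val_one, pow_one] at h2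
      rcases zmod2_cases (q6 (α (t * x * t⁻¹))) with c | c <;> rw [c] at h2
      · exact h.n1 (by simpa using h2)
      · exact tz (by simpa [ZMod.val_one] using h2)
  have k4 : ∀ v, q6 v = 0 → q6 (θ v) = 0 := fun v hv => by
    obtain ⟨x, hx, rfl⟩ := h.αsurj v
    have h1 := h.αsq x hx
    rw [hv, ZMod.val_zero, pow_zero] at h1
    by_contra c
    have := h.Dconj _ ((h.memD _ (cR x hx)).2 ⟨by
      rw [show t * x * t⁻¹ * (t * x * t⁻¹) = t * (x * x) * t⁻¹ by group, h1]; group,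
      k1 x hx ▸ zmod2_ne_zero.1 c⟩) t⁻¹
    exact h.notD x hx (by convert this using 1; group)
  refine ⟨θ, k1, k2, Finite.injective_iff_bijective.1 k3, fun v => zmod2_eq_of_iff ⟨fun e => ?_, k4 v⟩⟩
  let f : {v // q6 v = 0} → {v // q6 v = 0} := fun w => ⟨θ w.1, k4 _ w.2⟩
  obtain ⟨w, hw⟩ := Finite.injective_iff_surjective.1
    (show Function.Injective f from fun a b e => Subtype.ext (k3 (congrArg Subtype.val e))) ⟨_, e⟩
  exact k3 (congrArg Subtype.val hw) ▸ w.2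

theorem exists_RM : ∃ p ν, RM D Z R z1 z2 p ν := by
  have τR' := inv_mem h.τR
  have τZ' := inv_mem h.τZ
  obtain ⟨θ, a1, a2, a3, a4⟩ := h.exists_θ h.τR h.τZ (by rw [h.τ1]; exact h.ne.symm)
  obtain ⟨η, b1, b2, b3, b4⟩ := h.exists_θ τR' τZ' fun e => h.ne (by
    rw [← h.τ1]; conv_rhs => rw [← e]
    group)
  simp only [inv_inv] at b1 b2
  have cR : ∀ x ∈ R, τ * x * τ⁻¹ ∈ R := fun x hx => conj_mem_of_mem_normalizer h.τR hx
  have cR' : ∀ x ∈ R, τ⁻¹ * x * τ ∈ R := fun x hx => conj_mem_of_mem_normalizer' h.τR hx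
  have a5 : ∀ v w, polar q6 (θ v) (θ w) = polar q6 v w := fun v w => by
    rw [polar, ← map_add, a4, a4, a4, polar]
  have a6 : ∀ g ∈ normalizer (R : Set G), g ∈ centralizer (Z : Set G) → ∀ v,
      θ ((ν (τ⁻¹ * g * τ)).1 v) = (ν g).1 (θ v) := fun g g1 g2 v => by
    rw [a2 _ (mul_mem (mul_mem τR' g1) h.τR) (by simpa using conj_cent τZ' g2)]
    congr 3; group
  have ab : ∀ v, θ (η v) = v := by
    refine (schur6 (θ.comp η) fun a b ha hb v => ?_).resolve_left fun e => ?_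
    · obtain ⟨g, g1, g2, e⟩ := h.νsurj a b ha hb
      rw [← e, AddMonoidHom.comp_apply, b2 g g1 g2, a6 g g1 g2]; rfl
    · obtain ⟨d, hd⟩ := exists_ns6
      have : q6 (θ (η d)) = 1 := by rw [a4, b4, hd]
      rw [show θ (η d) = 0 from e d, map_zero] at this
      exact zero_ne_one this
  let p : G → V6 × V6 := fun r => (θ (β (τ⁻¹ * r * τ)), β r)
  have pmul : ∀ r ∈ R, ∀ s ∈ R, p (r * s) = p r + p s := fun r hr s hs => by
    simp only [p, Prod.mk_add_mk]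
    rw [← map_add, ← h.βmul _ (cR' r hr) _ (cR' s hs), h.βmul r hr s hs]
    congr 3; group
  have p1 : ∀ x ∈ P, p x = (α x, 0) := fun x hx => by
    simp only [p]; rw [← b1 x hx, ab, (h.βker x (h.PR hx)).2 hx]
  have p2 : ∀ x ∈ P, p (τ * x * τ⁻¹) = (0, θ (α x)) := fun x hx => by
    simp only [p]
    rw [show τ⁻¹ * (τ * x * τ⁻¹) * τ = x by group, (h.βker x (h.PR hx)).2 hx, map_zero, a1 x hx]
  have pker : ∀ r ∈ R, p r = 0 ↔ r ∈ Z := fun r hr => by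
    refine ⟨fun e => ?_, fun e => by rw [p1 r (h.ZP e), (h.αker r (h.ZP e)).2 e]; rfl⟩
    have m := (h.βker r hr).1 (congrArg Prod.snd e)
    rw [p1 r m] at e
    exact (h.αker r m).1 (congrArg Prod.fst e)
  have dec : ∀ v, ∃ x ∈ P, ∃ y ∈ P, p (x * (τ * y * τ⁻¹)) = v ∧ v = (α x, θ (α y)) := fun v => by
    obtain ⟨x, hx, e⟩ := h.αsurj v.1
    obtain ⟨w, e'⟩ := a3.2 v.2
    obtain ⟨y, hy, rfl⟩ := h.αsurj w
    refine ⟨x, hx, y, hy, ?_, by rw [e, e']⟩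
    rw [pmul x (h.PR hx) _ (cR y (h.PR hy)), p1 x hx, p2 y hy, e, e']; simp
  have com : ∀ x ∈ P, ∀ y ∈ P, τ * y * τ⁻¹ * x =
      (z1 * z2) ^ (polar q6 (α x) (θ (α y))).val * (x * (τ * y * τ⁻¹)) := fun x hx y hy => by
    obtain ⟨c1, c2⟩ := h.comm x hx _ (cR y (h.PR hy))
    obtain ⟨d1, d2⟩ := h.comm y hy _ (cR' x (h.PR hx))
    rw [← a1 y hy] at c2
    rw [← b1 x hx, ← a5, ab, polar_comm] at d2
    have e : τ⁻¹ * x * τ * y * (τ⁻¹ * x * τ)⁻¹ * y⁻¹ =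
        τ⁻¹ * (τ * y * τ⁻¹ * x * (τ * y * τ⁻¹)⁻¹ * x⁻¹)⁻¹ * τ := by group
    rw [e, inv_eq_of_mul_eq_one_right (h.sqZ c1)] at d2
    rw [show τ * y * τ⁻¹ * x = τ * y * τ⁻¹ * x * (τ * y * τ⁻¹)⁻¹ * x⁻¹ * (x * (τ * y * τ⁻¹)) by group]
    generalize τ * y * τ⁻¹ * x * (τ * y * τ⁻¹)⁻¹ * x⁻¹ = ζ at c1 c2 d2
    have d3 : (τ⁻¹ * ζ * τ = 1 ∨ τ⁻¹ * ζ * τ = z1) ↔ ζ = 1 ∨ ζ = z2 := by
      rw [← h.τ1]
      exact or_congr ⟨fun e => by simpa [mul_assoc, inv_mul_eq_one] using e, fun e => by simp [e]⟩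
        ⟨fun e => by rw [← e]; group, fun e => by rw [e]; group⟩
    rw [d3] at d2
    congr 1
    have n1 := h.n1
    have n2 := h.n2
    have n3 := h.ne
    rcases zmod2_cases (polar q6 (α x) (θ (α y))) with c | c <;> rw [c] at c2 d2 ⊢
    · rcases c2.1 rfl with e | e
      · simpa using e
      · rcases d2.1 rfl with e' | e'
        · simpa using e'
        · exact absurd (e.symm.trans e') n3
    · rcases (h.memZ ζ).1 c1 with e | e | e | e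
      · exact absurd (c2.2 (Or.inl e)) one_ne_zero
      · exact absurd (c2.2 (Or.inr e)) one_ne_zero
      · exact absurd (d2.2 (Or.inr e)) one_ne_zero
      · rw [e, ZMod.val_one, pow_one]
  have psq : ∀ r ∈ R, r * r = z1 ^ (q6 (p r).1 + polar q6 (p r).1 (p r).2).val *
      z2 ^ (q6 (p r).2 + polar q6 (p r).1 (p r).2).val := fun r hr => by
    obtain ⟨x, hx, y, hy, e, e'⟩ := dec (p r)
    have yR := cR y (h.PR hy)
    have m := mul_mem (h.PR hx) yR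
    have pi : p (x * (τ * y * τ⁻¹))⁻¹ = p (x * (τ * y * τ⁻¹)) := by
      have := pmul _ (inv_mem m) _ m
      rw [inv_mul_cancel, (pker 1 (one_mem _)).2 (one_mem _)] at this
      exact add_eq_zero_zmod2.1 this.symm
    have mZ : r * (x * (τ * y * τ⁻¹))⁻¹ ∈ Z := (pker _ (mul_mem hr (inv_mem m))).1 (by
      rw [pmul _ hr _ (inv_mem m), pi, e, LAx.aa])
    have y2 : τ * y * τ⁻¹ * (τ * y * τ⁻¹) = z2 ^ (q6 (θ (α y))).val := by
      rw [show τ * y * τ⁻¹ * (τ * y * τ⁻¹) = τ * (y * y) * τ⁻¹ by group, h.αsq y hy, a4, ← h.τ1,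
        conj_pow]
    have c := com x hx y hy
    rw [e', pow_val_add h.s1, pow_val_add h.s2, ← h.αsq x hx, ← y2]
    rw [h.c12.mul_pow] at c
    have k1 := h.cZ (h.PR hx) (pow_mem h.m1 (polar q6 (α x) (θ (α y))).val)
    have k2 := h.cZ (h.PR hx) (pow_mem h.m2 (polar q6 (α x) (θ (α y))).val)
    have k3 := h.cZ yR (pow_mem h.m2 (polar q6 (α x) (θ (α y))).val)
    have k4 := h.cZ m mZ
    have k5 := h.sqZ mZ
    generalize z1 ^ (polar q6 (α x) (θ (α y))).val = u1 at c k1 ⊢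
    generalize z2 ^ (polar q6 (α x) (θ (α y))).val = u2 at c k2 k3 ⊢
    generalize τ * y * τ⁻¹ = w at c k3 k4 k5 ⊢
    obtain ⟨ζ, rfl⟩ : ∃ ζ, r = ζ * (x * w) := ⟨r * (x * w)⁻¹, by group⟩
    rw [mul_inv_cancel_right] at k4 k5
    calc ζ * (x * w) * (ζ * (x * w)) = ζ * (x * w * ζ) * (x * w) := by group
      _ = ζ * ζ * x * (w * x) * w := by rw [← k4.eq]; group
      _ = x * (u1 * (u2 * x)) * w * w := by rw [k5, c]; group
      _ = x * (u1 * x) * (u2 * w) * w := by rw [k2.eq]; group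
      _ = x * (x * u1) * (w * u2) * w := by rw [k1.eq, k3.eq]
      _ = x * x * u1 * w * (u2 * w) := by group
      _ = _ := by rw [k3.eq]; group
  refine ⟨p, ν, h.Dconj, h.memZ, h.o1, h.o2, h.ne, h.ZP.trans h.PR, h.cen, pmul, fun v => ?_, pker,
    psq, fun g g1 g2 r hr => ?_, h.memE, h.ker2, fun r hr => ?_, h.DN⟩
  · obtain ⟨x, hx, y, hy, e, -⟩ := dec v
    exact ⟨_, mul_mem (h.PR hx) (cR y (h.PR hy)), e⟩
  · simp only [p]
    rw [h.βact g g1 g2 r hr, ← a6 g g1 g2, ← h.βact _ (mul_mem (mul_mem τR' g1) h.τR)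
      (by simpa using conj_cent τZ' g2) _ (cR' r hr)]
    congr 3; group
  · rw [h.memD r hr, psq r hr, show β r = (p r).2 from rfl]
    generalize q6 (p r).1 = a
    generalize q6 (p r).2 = b
    generalize polar q6 (p r).1 (p r).2 = c
    have n1 := h.n1
    have n2 := h.n2
    have n3 := h.n3
    rcases zmod2_cases a with rfl | rfl <;> rcases zmod2_cases b with rfl | rfl <;>
      rcases zmod2_cases c with rfl | rfl <;>
      simp [ZMod.val_one, show (1 : ZMod 2) + 1 = 0 from rfl, n1, n2, n3]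

end AB

theorem exists_AB {V O : Subgroup G} {n τ : G} {S Q : Subgroup G} {π : G → V8}
    {ρ : G → OrthE.O q8} (h : S4 ι V O n τ S Q π ρ) :
    ∃ α β ν, AB (DD ι) (ZZ ι) (RR ι S) (Q ⊓ RR ι S) (zz ι) (τ * zz ι * τ⁻¹) τ α β ν := by
  have hE : Emb ι := h.toEmb
  have h0 : S0 ι V O n := h.toS0
  have qa := h.qx.qa
  have co := h.qx.co
  have sZ := h.tau.s_mem
  have s1 := Tau.s_ne_one hE τ
  have s2 := Tau.s_ne hE h.tau
  have s3 := Tau.s_conj hE h.tau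
  have mZ := fun ζ => hE.mem_ZZ sZ s1 s2 (ζ := ζ)
  have ρR := h.ρR
  have Rρ := h.Rρ
  have Dc2 := h.Dc2
  obtain ⟨s, hs⟩ : ∃ s, s = τ * zz ι * τ⁻¹ := ⟨_, rfl⟩
  rw [← hs] at sZ s1 s2 s3 mZ ρR Rρ Dc2 ⊢
  have sQ : s ∈ Q := h.ZQ sZ
  have qs : q8 (π s) = 0 := (co.sq s sQ).2 (hE.sqZ sZ)
  have s0 : π s ≠ 0 := qa.π_ne sQ s1 s2
  have cen : RR ι S ≤ centralizer (ZZ ι : Set G) :=
    sup_le (fun c hc ζ hζ => (h.SL c hc ζ (ZZ_le_LL hζ)).eq.symm)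
      fun r hr ζ hζ => (hE.LZ (RA_le_LL hr) hζ).eq.symm
  have ZR : ZZ ι ≤ RR ι S := ZZ_le_RA.trans le_sup_right
  have cz : ∀ g, Commute g (zz ι) → Commute g s → g ∈ centralizer (ZZ ι : Set G) :=
    fun g g1 g2 ζ hζ => by
      rcases (mZ ζ).1 hζ with rfl | rfl | rfl | rfl
      exacts [(Commute.one_right g).eq.symm, g1.eq.symm, g2.eq.symm, (g1.mul_right g2).eq.symm]
  have ort : ∀ x ∈ Q, x ∈ RR ι S ↔ polar q8 (π s) (π x) = 0 := fun x hx => by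
    rw [co.polar_iff sQ hx, h.QR x hx]
    exact ⟨fun e => e s sZ, fun e => cz x (co.es.comm_z x hx) e.symm⟩
  have πZ : ∀ x ∈ Q, (π x = 0 ∨ π x = π s) ↔ x ∈ ZZ ι := fun x hx => by
    rw [co.ker x hx, eq_comm (a := π x), co.eq_iff sQ hx, mZ, co.es.comm_z s sQ, or_assoc]
  obtain ⟨μ, m1, m2, m3, m4⟩ := exists_quot qs s0
  choose! ν ν1 ν2 using m4
  choose! w w1 w2 using ρR
  have m5 : ∀ a b, polar q8 (π s) a = 0 → polar q8 (π s) b = 0 → polar q6 (μ a) (μ b) = polar q8 a b :=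
    fun a b ha hb => by
      rw [polar, ← map_add, m1 a ha, m1 b hb, m1 _ (by rw [polar_add_right, ha, hb]; rfl), polar]
  have ms : μ (π s) = 0 := (m3 _ (polar_self8 _)).2 (Or.inr rfl)
  have βw : ∀ r ∈ RR ι S, ∀ v, polar q8 (π s) v = 0 → ρ r = eich q8 (π s) v → μ (w r) = μ v :=
    fun r hr v v1 v2 => by
      rcases (eich_eq_iff qs s0 v1 (w1 r hr)).1 (v2.symm.trans (w2 r hr)) with e | e <;> rw [e]
      rw [map_add, ms, add_zero]
  have MQ : ∀ g ∈ normalizer (RR ι S : Set G), g ∈ centralizer (ZZ ι : Set G) →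
      g ∈ normalizer (Q : Set G) ∧ (ρ g).1 (π s) = π s := fun g g1 g2 => by
    have := h.NRQ g g1 (g2 _ zz_mem).symm
    refine ⟨this, ?_⟩
    rw [qa.act g this s sQ, ← g2 s sZ, mul_inv_cancel_right]
  have fo : ∀ {e : OrthE.O q8} {v}, e.1 (π s) = π s → polar q8 (π s) v = 0 →
      polar q8 (π s) (e.1 v) = 0 := fun {e v} h1 h2 => by rw [← h1, O_polar, h2]
  have two : ∀ r ∈ RR ι S, r ^ 2 ^ 14 = 1 := fun r hr => by
    have := pow_card_eq_one' (x := (⟨r, hr⟩ : RR ι S))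
    rw [h.cardR] at this
    exact congrArg Subtype.val this
  refine ⟨fun x => μ (π x), fun r => μ (w r), fun g => ν (ρ g), fun d hd g => DD_conj hd g, mZ,
    hE.orderOf_zz, orderOf_eq_two s1 (hE.sqZ sZ), s2.symm, le_inf h.ZQ ZR, inf_le_right, cen,
    h.NE (h0.tau_NE h.tau), h.tau.nZ, hs.symm, s3, fun x hx y hy => ?_, fun v => ?_,
    fun x hx => ?_, fun x hx => ?_, fun x hx y hy => ?_, fun x hx => ?_, fun g g1 g2 x hx => ?_,
    fun g g1 g2 x hx => ?_, fun g g1 g2 => ?_, fun a b ha hb => ?_, fun x hx r hr => ?_,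
    fun r hr => ?_, fun x hx hd => ?_, fun g g1 g2 e g4 => ?_, h.DN⟩
  · rw [co.map_mul x hx.1 y hy.1, map_add]
  · obtain ⟨u, u1, rfl⟩ := m2 v
    obtain ⟨x, hx, rfl⟩ := co.surj u
    exact ⟨x, ⟨hx, (ort x hx).2 u1⟩, rfl⟩
  · rw [m3 _ ((ort x hx.1).1 hx.2), πZ x hx.1]
  · rw [m1 _ ((ort x hx.1).1 hx.2)]
    rcases zmod2_cases (q8 (π x)) with c | c <;> rw [c]
    · rw [(co.sq x hx.1).1 c, ZMod.val_zero, pow_zero]
    · rw [(co.sq_one hx.1).1 c, ZMod.val_one, pow_one]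
  · rw [← map_add]
    refine βw _ (mul_mem hx hy) _ (by rw [polar_add_right, w1 x hx, w1 y hy]; rfl) ?_
    rw [qa.ρ_mul (h.RN hx) (h.RN hy), w2 x hx, w2 y hy, eich_mul qs (w1 x hx) (w1 y hy)]
  · refine ⟨fun e => ⟨h.qx.ker2 (h.RN hx) ?_ (two x hx), hx⟩, fun e => ?_⟩
    · rcases (m3 _ (w1 x hx)).1 e with e | e <;> rw [w2 x hx, e]
      · exact eich_zero_right _
      · simpa using eich_smul_self (Q := q8) 1 (π s)
    · rw [βw x hx 0 (polar_zero_right _ _) (by rw [qa.ρ_Q e.1, eich_zero_right]), map_zero]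
  · obtain ⟨g3, g4⟩ := MQ g g1 g2
    refine ⟨⟨conj_mem_of_mem_normalizer g3 hx.1, conj_mem_of_mem_normalizer g1 hx.2⟩, ?_⟩
    rw [← qa.act g g3 x hx.1, ν2 _ (h.memE g g3) g4 _ ((ort x hx.1).1 hx.2)]
  · obtain ⟨g3, g4⟩ := MQ g g1 g2
    rw [← ν2 _ (h.memE g g3) g4 _ (w1 x hx)]
    refine βw _ (conj_mem_of_mem_normalizer g1 hx) _ (fo g4 (w1 x hx)) ?_
    rw [qa.ρ_conj g3 (h.RN hx), w2 x hx, conj_eich, g4]
  · obtain ⟨g3, g4⟩ := MQ g g1 g2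
    exact ν1 _ (h.memE g g3) g4
  · obtain ⟨a, a1, rfl⟩ := m2 a
    obtain ⟨b, b1, rfl⟩ := m2 b
    have a2 : q8 a = 1 := (m1 a a1).symm.trans ha
    have b2 : q8 b = 1 := (m1 b b1).symm.trans hb
    have k : ∀ v, q8 v = 1 → polar q8 (π s) v = 0 → ∀ y, polar q8 (π s) y = 0 →
        μ ((OrthE.refl q8 v).1 y) = (OrthE.refl q6 (μ v)).1 (μ y) := fun v hv v1 y hy => by
      rw [refl8 hv, refl6 ((m1 v v1).trans hv), m5 y v hy v1, map_add]
      rcases zmod2_cases (polar q8 y v) with c | c <;> simp [c]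
    have mE := refl_mul_mem a2 b2
    have fx : (OrthE.refl q8 a * OrthE.refl q8 b).1 (π s) = π s := by
      rw [O_mul_apply, refl_apply_of_orth b1, refl_apply_of_orth a1]
    obtain ⟨g, g1, g2, g3⟩ : ∃ g ∈ normalizer (Q : Set G),
        ρ g = OrthE.refl q8 a * OrthE.refl q8 b ∧ Commute g s := by
      obtain ⟨g, g1, g2⟩ := h.qx.surj _ mE
      have e := qa.act g g1 s sQ
      rw [g2, fx] at e
      rcases (co.eq_iff sQ (conj_mem_of_mem_normalizer g1 sQ)).1 e with e | e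
      · exact ⟨g, g1, g2, mul_inv_eq_iff_eq_mul.1 e⟩
      · obtain ⟨u, hu, e'⟩ := co.es.exists_conj sQ s1 s2
        refine ⟨u⁻¹ * g, mul_mem (le_normalizer (inv_mem hu)) g1, by
          rw [qa.ρ_mul (le_normalizer (inv_mem hu)) g1, qa.ρ_Q (inv_mem hu), one_mul, g2], ?_⟩
        rw [← e'] at e
        calc u⁻¹ * g * s = u⁻¹ * (g * s * g⁻¹) * g := by group
          _ = s * (u⁻¹ * g) := by rw [e]; group
    have g4 := cz g (qa.N_z g1) g3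
    refine ⟨g, h.NQR g g1 (centralizer_le_normalizer _ g4), g4, O_ext fun y => ?_⟩
    obtain ⟨y, y1, rfl⟩ := m2 y
    rw [g2, ← ν2 _ mE fx y y1, O_mul_apply, O_mul_apply,
      k a a2 a1 _ (fo (refl_apply_of_orth b1) y1), k b b2 b1 y y1]
  · have x1 := (ort x hx.1).1 hx.2
    have mQ : r * x * r⁻¹ * x⁻¹ ∈ Q :=
      mul_mem (conj_mem_of_mem_normalizer (h.RN hr) hx.1) (inv_mem hx.1)
    have e := qa.π_comm (h.RN hr) hx.1
    rw [w2 r hr, eich_apply_of_orth_left qs (w1 r hr) (by rwa [polar_comm]), add_comm (π x),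
      aa''] at e
    rw [m5 _ _ x1 (w1 r hr), ← co.ker _ mQ, ← πZ _ mQ, e]
    rcases zmod2_cases (polar q8 (π x) (w r)) with c | c <;> simp [c, s0]
  · rw [Dc2 r hr _ (w1 r hr) (w2 r hr), m1 _ (w1 r hr)]
  · have x2 := mul_self_of_orderOf hd.1
    by_cases e : x = zz ι
    · exact h0.notD_Z zz_mem (e ▸ hd)
    · obtain ⟨g, -, e'⟩ := h.qx.exists_conj hx.1 x2 (ne_one_of_orderOf hd.1) e sQ (hE.sqZ sZ) s1 s2
      exact h0.notD_Z sZ (e' ▸ DD_conj hd g)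
  · obtain ⟨g3, g5⟩ := MQ g g1 g2
    obtain ⟨f, hf⟩ := nd8.exists_hyp qs s0
    obtain ⟨v, v1, -, v2⟩ := eq_eich hf g5 fun u hu => by
      rw [polar_comm] at hu
      have := ν2 _ (h.memE g g3) g5 u hu
      rw [e, O_one_apply, ← add_eq_zero_zmod2, ← map_add,
        m3 _ (by rw [polar_add_right, fo g5 hu, hu]; rfl)] at this
      exact this.imp add_eq_zero_zmod2.1 LAx.eq_add
    obtain ⟨r, hr, e'⟩ := Rρ v (by rwa [polar_comm])
    have r' := inv_mem hr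
    have m : (g * r⁻¹) ^ 4 ∈ RR ι S := by
      rw [show (g * r⁻¹) ^ 4 = g * (r⁻¹ * (g * (r⁻¹ * (g * r⁻¹ * g⁻¹)) * g⁻¹)) * g⁻¹ *
        (g ^ 4 * (g⁻¹ * (g * r⁻¹ * g⁻¹) * g)) by simp only [pow_succ, pow_zero]; group, g4, one_mul]
      exact mul_mem (conj_mem_of_mem_normalizer g1 (mul_mem r' (conj_mem_of_mem_normalizer g1
        (mul_mem r' (conj_mem_of_mem_normalizer g1 r')))))
        (conj_mem_of_mem_normalizer' g1 (conj_mem_of_mem_normalizer g1 r'))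
    have mQ : g * r⁻¹ ∈ Q := h.qx.ker2 (j := 16) (mul_mem g3 (h.RN r')) (by
      rw [qa.ρ_mul g3 (h.RN r'), qa.ρ_inv (h.RN hr), e', v2, mul_inv_cancel]) (by
      rw [show 2 ^ 16 = 4 * 2 ^ 14 from rfl, pow_mul, two _ m])
    have := mul_mem ((h.QR _ mQ).2 (mul_mem g2 (cen r'))) hr
    rwa [inv_mul_cancel_right] at this

end P4mx

theorem S4.exists_RM {V O : Subgroup G} {n τ : G} {S Q : Subgroup G} {π : G → V8}
    {ρ : G → OrthE.O q8} (h : S4 ι V O n τ S Q π ρ) :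
    ∃ p ν, RM (DD ι) (ZZ ι) (RR ι S) (zz ι) (τ * zz ι * τ⁻¹) p ν :=
  let ⟨_, _, _, k⟩ := P4mx.exists_AB h; k.exists_RM

end CfsgLib.G2C
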