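import Cfsg.Agent.Lib.G2C.Zero
import Cfsg.Agent.Lib.G2C.QB
import Cfsg.Agent.Lib.Fgs.ConjCount

/-! Package P4n: the normaliser of R by counting (plans/G2C2.md) -/

set_option autoImplicit false
set_option linter.unusedSectionVars false

namespace CfsgLib.G2C

open Subgroup Cfsg CfsgLib.Tech CfsgLib.StdR2 CfsgLib.Chev CfsgLib.OrthE CfsgLib.ExtraTwo
  CfsgLib.Co1Rec QuadraticMap
open scoped commutatorElement

variable {F : Type*} [Field F] [Fintype F] {G : Type*} [Group G] [Finite G] {ι : Γ F →* G}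

/-- the 28 non-singular points of `s^⊥ / s` -/
theorem exists_28 {s : V8} (hs : q8 s = 0) (s0 : s ≠ 0) : ∃ T : Finset V8, T.card ≤ 28 ∧
    ∀ w, q8 w = 1 → polar q8 s w = 0 → w ∈ T ∨ w + s ∈ T := by
  classical
  obtain ⟨g, -, rfl⟩ := exists_E_sing (a := vb 1) (by rw [q_vb 1 (by decide)]; decide +kernel)
    (fun e => absurd (vb_eq_zero 1 (by decide) e) (by decide)) hs s0
  refine ⟨((Finset.range 256).filter fun n => qN n = true ∧ bN 1 n = false ∧ bN 16 n = false).image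
    fun n => g.1 (vb n), Finset.card_image_le.trans (by decide +kernel), fun w h1 h2 => ?_⟩
  obtain ⟨n, hn, e⟩ := vb_surj (g⁻¹.1 w)
  obtain rfl : w = g.1 (vb n) := by rw [e, O_apply_inv_apply]
  rw [O_map, q_vb n hn] at h1
  rw [O_polar, polar_vb (by decide) hn] at h2
  have k := (by decide +kernel : ∀ n < 256, qN n = true → bN 1 n = false → bN 16 n = false ∨ (n ^^^ 1 < 256 ∧
    qN (n ^^^ 1) = true ∧ bN 1 (n ^^^ 1) = false ∧ bN 16 (n ^^^ 1) = false)) n hn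
  have k1 : qN n = true := by by_contra h; simp [h] at h1
  have k2 : bN 1 n = false := by by_contra h; simp [Bool.not_eq_false _ ▸ h] at h2
  rw [← map_add, ← vb_xor]
  exact (k k1 k2).imp (fun h => Finset.mem_image_of_mem _ (by simp [hn, k1, k2, h]))
    fun h => Finset.mem_image_of_mem _ (by simpa using h)

theorem card_eq_orb (M : Subgroup G) (y : G) : Nat.card M =
    {u | ∃ m ∈ M, u = m * y * m⁻¹}.ncard * Nat.card (centralizer {y} ⊓ M : Subgroup G) := by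
  rw [Fgs.ncard_conj_by_subgroup, ← card_mul_relIndex' (inf_le_right (a := centralizer {y})), inf_relIndex_right,
    mul_comm]

theorem eq_one_of_odd {O : Subgroup G} (h : Odd (Nat.card O)) {o : G} (ho : o ∈ O) {j : ℕ} (e : o ^ 2 ^ j = 1) :
    o = 1 := orderOf_eq_one_iff.1 (Nat.eq_one_of_dvd_coprimes ((Nat.coprime_two_left.2 h).pow_left j)
      (orderOf_dvd_of_pow_eq_one e) (O.orderOf_dvd_natCard ho))

variable {V O : Subgroup G} {n τ : G} {S Q : Subgroup G} {π : G → V8} {ρ : G → OrthE.O q8}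

/-- elements of `H` that centralise `z` -/
theorem Std.norm_Z (h : Std ι) {c : G} (hc : c ∈ HH ι) (hz : Commute c (zz ι)) : c ∈ normalizer (ZZ ι : Set G) :=
  mem_normalizer_of_forall fun ζ hζ => h.centL (h.conj_A hc (LL_le (ZZ_le_LL hζ))) fun l hl => by
    have h1 := h.conj_A (inv_mem hc) (LL_le hl)
    have h2 := h.LZ (h.cent_Z h1 zz_mem h.zz_ne
      ((hz.inv_left.mul_left (h.LZ hl zz_mem)).mul_left hz.inv_left.inv_left)) hζ
    simpa [mul_assoc] using h2.symm.conj c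

namespace S1

variable (h : S1 ι V O n τ S)
include h

theorem twoR : IsPGroup 2 (RR ι S) := IsPGroup.of_card h.cardR

theorem RZ : RR ι S ≤ centralizer (ZZ ι : Set G) :=
  sup_le (fun c hc ζ hζ => (h.SL c hc ζ (ZZ_le_LL hζ)).eq.symm) fun _ hr _ hζ => (h.LZ (RA_le_LL hr) hζ).eq.symm

theorem RO : RR ι S ≤ centralizer (O : Set G) :=
  sup_le (fun c hc o ho => (h.SO c hc o ho).eq.symm) fun _ hr _ ho => (comm_KA (h.OK ho) (LL_le (RA_le_LL hr))).eq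

theorem VR : V ≤ RR ι S := le_sup_left.trans (h.leS.trans le_sup_left)

theorem V_D {v : G} (hv : v ∈ V) (v1 : v ≠ 1) : v ∈ DD ι := ⟨h.orderOf_V hv v1, 1, by rw [cj_one]; exact h.VK hv⟩

/-- `C(v) ∩ C(z) ≤ N(E)` -/
theorem mem_NE (cK : ∀ v ∈ V, v ≠ 1 → ∀ k ∈ KK ι, Commute k v → ∃ w ∈ V, ∃ o ∈ O, k = w * o) {v c : G} (hv : v ∈ V)
    (v1 : v ≠ 1) (hc : Commute c v) (hz : Commute c (zz ι)) : c ∈ normalizer (EE ι V : Set G) := by
  have hH := h.mem_H_of_comm (h.VK hv) (h.orderOf_V hv v1) hc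
  refine Core.normalizer_inf_le_normalizer_sup _ _ ⟨mem_normalizer_of_forall fun w hw => ?_, h.norm_Z hH hz⟩
  obtain ⟨w', hw', o, ho, e⟩ := cK v hv v1 _ (conj_mem_of_mem_normalizer hH (h.VK hw))
    ((hc.mul_left (h.commV hw hv)).mul_left hc.inv_left)
  have : o ^ 2 ^ 1 = 1 := by
    have := (h.OV o ho w' hw').symm.mul_pow 2
    rw [← e, pow_two, pow_two, conj_mul, h.sqV w hw, h.sqV w' hw', mul_one, mul_inv_cancel, one_mul] at this
    exact this.symm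
  rwa [e, eq_one_of_odd h.odd ho this, mul_one]

end S1

namespace S3

variable (h : S3 ι V O n τ S Q π ρ)
include h

theorem sQ : τ * zz ι * τ⁻¹ ∈ Q := h.ZQ h.tau.s_mem

theorem qs : q8 (π (τ * zz ι * τ⁻¹)) = 0 := (h.qx.co.sq _ h.sQ).2 (h.sqZ h.tau.s_mem)

theorem memZ {ζ : G} : ζ ∈ ZZ ι ↔ ζ = 1 ∨ ζ = zz ι ∨ ζ = τ * zz ι * τ⁻¹ ∨ ζ = zz ι * (τ * zz ι * τ⁻¹) :=
  h.mem_ZZ h.tau.s_mem (Tau.s_ne_one h.toEmb τ) (h.tau.s_ne h.toEmb)

theorem s0 : π (τ * zz ι * τ⁻¹) ≠ 0 := fun e =>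
  ((h.qx.co.ker _ h.sQ).1 e).elim (Tau.s_ne_one h.toEmb τ) (h.tau.s_ne h.toEmb)

theorem fix_iff {g : G} (hg : g ∈ normalizer (Q : Set G)) :
    g ∈ normalizer (ZZ ι : Set G) ↔ (ρ g).1 (π (τ * zz ι * τ⁻¹)) = π (τ * zz ι * τ⁻¹) := by
  have hz : g * zz ι * g⁻¹ = zz ι := by rw [(h.qx.qa.N_z hg).eq, mul_inv_cancel_right]
  rw [h.qx.act g hg _ h.sQ]
  refine ⟨fun hZ => ?_, fun e => mem_normalizer_of_forall fun ζ hζ => ?_⟩
  · rcases h.memZ.1 (conj_mem_of_mem_normalizer hZ h.tau.s_mem) with e | e | e | e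
    · exact absurd (conj_eq_one_iff.1 e) (Tau.s_ne_one h.toEmb τ)
    · exact absurd (mul_left_cancel (mul_right_cancel (e.trans hz.symm))) (h.tau.s_ne h.toEmb)
    · rw [e]
    · rw [e, (h.commZ zz_mem h.tau.s_mem).eq, h.qx.co.map_mul_z h.sQ]
  · have k : g * (τ * zz ι * τ⁻¹) * g⁻¹ ∈ ZZ ι := by
      rcases (h.qx.co.eq_iff h.sQ (conj_mem_of_mem_normalizer hg h.sQ)).1 e.symm with e | e <;> rw [e]
      exacts [h.tau.s_mem, mul_mem h.tau.s_mem zz_mem]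
    rcases h.memZ.1 hζ with rfl | rfl | rfl | rfl
    exacts [by simp, hz.symm ▸ zz_mem, k, by rw [← conj_mul, hz]; exact mul_mem zz_mem k]

theorem ρ_conj {g r : G} (hg : g ∈ normalizer (Q : Set G)) (hZ : g ∈ normalizer (ZZ ι : Set G))
    (hr : r ∈ normalizer (Q : Set G)) {w : V8} (e : ρ r = eich q8 (π (τ * zz ι * τ⁻¹)) w) :
    ρ (g * r * g⁻¹) = eich q8 (π (τ * zz ι * τ⁻¹)) ((ρ g).1 w) := by
  rw [h.qx.qa.ρ_mul (mul_mem hg hr) (inv_mem hg), h.qx.qa.ρ_mul hg hr, h.qx.qa.ρ_inv hg, e, conj_eich,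
    (h.fix_iff hg).1 hZ]

theorem NQR' {g : G} (hg : g ∈ normalizer (Q : Set G)) (hZ : g ∈ normalizer (ZZ ι : Set G)) :
    g ∈ normalizer (RR ι S : Set G) := mem_normalizer_of_forall fun r hr => by
  obtain ⟨w, h1, h2⟩ := h.ρR r hr
  obtain ⟨r', hr', h3⟩ := h.Rρ ((ρ g).1 w) (by rwa [← (h.fix_iff hg).1 hZ, O_polar])
  have k := mul_mem (mul_mem hg (h.RN hr)) (inv_mem hg)
  obtain ⟨u, hu, o, ho, e⟩ := (h.qx.ker (mul_mem (inv_mem (h.RN hr')) k)).1 (by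
    rw [h.qx.qa.ρ_mul (inv_mem (h.RN hr')) k, h.ρ_conj hg hZ (h.RN hr) h2, h.qx.qa.ρ_inv (h.RN hr'), h3, inv_mul_cancel])
  obtain ⟨a, ha⟩ := isPGroup_iff_mem.1 h.twoR r hr
  obtain ⟨b, hb⟩ := isPGroup_iff_mem.1 (h.twoR.to_sup_of_normal_right' h.qx.co.es.isPGroup h.RN) _ (mul_mem_sup hr' hu)
  rw [inv_mul_eq_iff_eq_mul, ← mul_assoc r'] at e
  have c : Commute (r' * u) o := (show Commute o r' from h.RO hr' o ho).symm.mul_left (h.qx.OQ ho hu).symm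
  have o1 : o = 1 := eq_one_of_odd h.odd ho (j := a + b) (by
    have := c.mul_pow (2 ^ (a + b))
    rw [← e, conj_pow, pow_add, pow_mul, ha, one_pow, mul_one, mul_inv_cancel, mul_comm, pow_mul, hb, one_pow,
      one_mul] at this
    rw [pow_add, mul_comm, ← this])
  rw [o1, mul_one] at e
  refine e ▸ mul_mem hr' ((h.QR u hu).2 ?_)
  rw [← inv_mul_cancel_left r' u, ← e]
  exact mul_mem (inv_mem (h.RZ hr')) (conj_mem_of_mem_normalizer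
    (Core.normalizer_le_normalizer_centralizer _ hZ) (h.RZ hr))

theorem ns_of_D {r : G} (hr : r ∈ RR ι S) (hD : r ∈ DD ι) {w : V8} (h1 : polar q8 (π (τ * zz ι * τ⁻¹)) w = 0)
    (e : ρ r = eich q8 (π (τ * zz ι * τ⁻¹)) w) : q8 w = 1 := by
  have r2 := mul_self_of_orderOf hD.1
  refine zmod2_ne_zero.1 fun h0 => ?_
  by_cases hw : w = 0 ∨ w = 0 + π (τ * zz ι * τ⁻¹)
  · rw [← (eich_eq_iff h.qs h.s0 (polar_zero_right _ _) h1).2 hw, eich_zero_right] at e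
    have hQ := h.qx.ker2 (h.RN hr) e (j := 1) (by rwa [pow_one, pow_two])
    by_cases hz : r = zz ι
    · exact h.notD (hz ▸ IsConj.refl _) hD
    obtain ⟨g, -, hg⟩ := h.qx.exists_conj h.sQ (h.sqZ h.tau.s_mem) (Tau.s_ne_one h.toEmb τ) (h.tau.s_ne h.toEmb) hQ r2
      (ne_one_of_orderOf hD.1) hz
    exact h.notD ((isConj_iff.2 ⟨τ, rfl⟩).trans (isConj_iff.2 ⟨g, hg⟩)) hD
  · rw [zero_add, not_or] at hw
    exact h.not_dvd_cent hD (h.qx.dvd_cent (h.RN hr) r2 h.qs h0 h1 h.s0 hw.1 (Ne.symm hw.2) e)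

/-- the involutions of `R` over non-singular vectors -/
theorem ncard_I : {r | r ∈ RR ι S ∧ r * r = 1 ∧ ∃ w, q8 w = 1 ∧ polar q8 (π (τ * zz ι * τ⁻¹)) w = 0 ∧
    ρ r = eich q8 (π (τ * zz ι * τ⁻¹)) w}.ncard ≤ 1344 := by
  classical
  obtain ⟨v, hv, v1, hc⟩ := h.cnt
  obtain ⟨T, hT, cov⟩ := exists_28 h.qs h.s0
  obtain ⟨w0, a1, a2⟩ := h.ρR v (h.VR hv)
  have a3 := h.ns_of_D (h.VR hv) (h.V_D hv v1) a1 a2
  have fib : ∀ w, {r | r ∈ RR ι S ∧ r * r = 1 ∧ q8 w = 1 ∧ polar q8 (π (τ * zz ι * τ⁻¹)) w = 0 ∧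
      ρ r = eich q8 (π (τ * zz ι * τ⁻¹)) w}.ncard ≤ 48 := fun w => by
    by_cases hw : q8 w = 1 ∧ polar q8 (π (τ * zz ι * τ⁻¹)) w = 0
    swap
    · exact (Set.ncard_le_ncard (t := ∅) fun r hr => hw ⟨hr.2.2.1, hr.2.2.2.1⟩).trans (by simp)
    obtain ⟨e, he, e1, e2⟩ := exists_E_ns h.qs h.s0 hw.1 a3 hw.2 a1
    obtain ⟨g, hg, rfl⟩ := h.qx.surj e he
    have hZ := (h.fix_iff hg).2 e1
    refine le_trans (Set.ncard_le_ncard_of_injOn (t := {u | u ∈ Q ∧ v * u * (v * u) = 1})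
      (fun r => v⁻¹ * (g * r * g⁻¹)) (fun r hr => ?_) fun a _ b _ e => by simpa using e) hc
    have k := conj_mem_of_mem_normalizer (h.NQR' hg hZ) hr.1
    obtain ⟨j, hj⟩ := isPGroup_iff_mem.1 h.twoR _ (mul_mem (inv_mem (h.VR hv)) k)
    refine ⟨h.qx.ker2 (h.RN (mul_mem (inv_mem (h.VR hv)) k)) ?_ hj, by
      rw [mul_inv_cancel_left, conj_mul, hr.2.1, mul_one, mul_inv_cancel]⟩
    rw [h.qx.qa.ρ_mul (inv_mem (h.RN (h.VR hv))) (h.RN k), h.qx.qa.ρ_inv (h.RN (h.VR hv)), a2,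
      h.ρ_conj hg hZ (h.RN hr.1) hr.2.2.2.2, (eich_eq_iff h.qs h.s0 a1 (by rw [← e1, O_polar, hw.2])).2 e2, inv_mul_cancel]
  refine le_trans (Set.ncard_le_ncard (t := ⋃ w ∈ T, {r | r ∈ RR ι S ∧ r * r = 1 ∧ q8 w = 1 ∧
    polar q8 (π (τ * zz ι * τ⁻¹)) w = 0 ∧ ρ r = eich q8 (π (τ * zz ι * τ⁻¹)) w}) ?_) ?_
  · rintro r ⟨h1, h2, w, h3, h4, h5⟩
    have h6 : polar q8 (π (τ * zz ι * τ⁻¹)) (w + π (τ * zz ι * τ⁻¹)) = 0 := by
      rw [polar_add_right, h4, polar_self8, add_zero]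
    rcases cov w h3 h4 with k | k <;> refine Set.mem_biUnion k ⟨h1, h2, ?_⟩
    exacts [⟨h3, h4, h5⟩, ⟨by rw [Q_add, h3, h.qs, polar_comm, h4]; rfl, h6,
      h5.trans ((eich_eq_iff h.qs h.s0 h4 h6).2 (.inr rfl))⟩]
  · refine (Finset.set_ncard_biUnion_le _ _).trans ((Finset.sum_le_card_nsmul _ _ 48 fun w _ => fib w).trans ?_)
    rw [smul_eq_mul]; omega

theorem card_cent {v : G} (hv : v ∈ V) (v1 : v ≠ 1) :
    Nat.card (centralizer {v} ⊓ centralizer {zz ι} : Subgroup G) ≤ 491520 * Nat.card O := by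
  have hH : ∀ c ∈ centralizer {v} ⊓ centralizer {zz ι}, c ∈ HH ι ∧ Commute c (zz ι) := fun c hc =>
    ⟨h.mem_H_of_comm (h.VK hv) (h.orderOf_V hv v1) (mem_centralizer_singleton_iff.1 hc.1),
      mem_centralizer_singleton_iff.1 hc.2⟩
  rw [card_eq_orb _ (τ * zz ι * τ⁻¹), show 491520 * Nat.card O = 2 * (Nat.card V * Nat.card O * Nat.card (LL ι)) by
    rw [h.cardV, h.cardL]; ring]
  refine Nat.mul_le_mul ((Set.ncard_le_ncard (t := {τ * zz ι * τ⁻¹, zz ι * (τ * zz ι * τ⁻¹)}) ?_).trans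
    ((Set.ncard_insert_le _ _).trans (by simp))) ?_
  · rintro _ ⟨c, hc, rfl⟩
    obtain ⟨h1, h2⟩ := hH c hc
    rcases h.memZ.1 (conj_mem_of_mem_normalizer (h.norm_Z h1 h2) h.tau.s_mem) with e | e | e | e
    · exact absurd (conj_eq_one_iff.1 e) (Tau.s_ne_one h.toEmb τ)
    · rw [mul_inv_eq_iff_eq_mul, ← h2.eq, mul_right_inj] at e
      exact absurd e (h.tau.s_ne h.toEmb)
    exacts [.inl e, .inr e]
  rw [← Nat.card_prod, ← Nat.card_prod]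
  have : ∀ c : (centralizer {τ * zz ι * τ⁻¹} ⊓ (centralizer {v} ⊓ centralizer {zz ι}) : Subgroup G),
      ∃ x : (V × O) × LL ι, (c : G) = x.1.1 * x.1.2 * x.2 := fun ⟨c, hs, hc⟩ => by
    obtain ⟨h1, h2⟩ := hH c hc
    have h3 : Commute c _ := mem_centralizer_singleton_iff.1 hs
    obtain ⟨k, hk, a, ha, rfl⟩ := mem_KA.1 (h.inner_of_Z (h.norm ▸ h1) fun ζ hζ => by
      rcases h.memZ.1 hζ with rfl | rfl | rfl | rfl
      exacts [Commute.one_right _, h2, h3, h2.mul_right h3])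
    obtain ⟨w, hw, o, ho, rfl⟩ := h.cK v hv v1 k hk (by
      simpa using (show Commute _ v from mem_centralizer_singleton_iff.1 hc.1).mul_left (comm_KA (h.VK hv) ha).symm.inv_left)
    exact ⟨⟨⟨⟨w, hw⟩, ⟨o, ho⟩⟩, a, h.cent_Z ha zz_mem h.zz_ne (by
      simpa only [inv_mul_cancel_left] using (comm_KA hk (LL_le (ZZ_le_LL zz_mem))).inv_left.mul_left h2)⟩, rfl⟩
  choose f hf using this
  exact Nat.card_le_card_of_injective f fun a b e => Subtype.ext (by rw [hf, hf, e])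

end S3

theorem S3.toS4 {V O : Subgroup G} {n τ : G} {S Q : Subgroup G} {π : G → V8} {ρ : G → OrthE.O q8}
    (h : S3 ι V O n τ S Q π ρ) : S4 ι V O n τ S Q π ρ := by
  obtain ⟨v, hv, v1, -⟩ := h.cnt
  obtain ⟨φ, hφ⟩ := h.qx.qa.exists_hom
  have : Finite (OrthE.O q8) := finite_O
  have EJ : OrthE.E q8 ≤ φ.range := fun e he => let ⟨g, hg, e⟩ := h.qx.surj e he; ⟨⟨g, hg⟩, (hφ _).trans e⟩
  obtain ⟨Y, mY, cY⟩ := h.qx.card_pre (J := MulAction.stabilizer _ (π (τ * zz ι * τ⁻¹)) ⊓ φ.range)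
    fun _ ⟨_, g, e⟩ => ⟨g, g.2, (hφ g).symm.trans e⟩
  have c1 := card_mul_relIndex' (inf_le_right (a := MulAction.stabilizer _ (π (τ * zz ι * τ⁻¹))) (b := φ.range))
  have c2 : (MulAction.stabilizer (OrthE.O q8) (π (τ * zz ι * τ⁻¹))).relIndex φ.range ≤ 135 := by
    rw [← card_sing8]
    refine (MulAction.index_stabilizer φ.range (π (τ * zz ι * τ⁻¹))).le.trans (Set.ncard_le_ncard
      (t := {v | q8 v = 0 ∧ v ≠ 0}) ?_)
    rintro _ ⟨g, rfl⟩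
    exact ⟨(O_map g.1 _).trans h.qs, O_apply_ne_zero g.1 h.s0⟩
  rw [inf_relIndex_right] at c1
  have c3 := card_le_of_le EJ
  rw [card_E8] at c3
  set M := normalizer (RR ι S : Set G) ⊓ centralizer {zz ι}
  have YM : Y ≤ M := fun g hg => by
    obtain ⟨h1, h2, -⟩ := (mY g).1 hg
    exact ⟨h.NQR' h1 ((h.fix_iff h1).2 h2), mem_centralizer_singleton_iff.2 (h.qx.qa.N_z h1)⟩
  have c4 := card_le_of_le YM
  have c5 := card_eq_orb M v
  have c6 := (card_le_of_le (inf_le_inf_left (centralizer {v}) (inf_le_right : M ≤ _))).trans (h.card_cent hv v1)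
  have s1 : ∀ u ∈ {u | ∃ m ∈ M, u = m * v * m⁻¹}, u ∈ RR ι S ∧ u ∈ DD ι := by
    rintro _ ⟨m, hm, rfl⟩
    exact ⟨conj_mem_of_mem_normalizer hm.1 (h.VR hv), DD_conj (h.V_D hv v1) m⟩
  have s2 : ∀ r ∈ RR ι S, r ∈ DD ι → r ∈ {r | r ∈ RR ι S ∧ r * r = 1 ∧ ∃ w, q8 w = 1 ∧
      polar q8 (π (τ * zz ι * τ⁻¹)) w = 0 ∧ ρ r = eich q8 (π (τ * zz ι * τ⁻¹)) w} := fun r hr hD =>
    let ⟨w, h1, h2⟩ := h.ρR r hr
    ⟨hr, mul_self_of_orderOf hD.1, w, h.ns_of_D hr hD h1 h2, h1, h2⟩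
  have s3 := fun u hu => s2 u (s1 u hu).1 (s1 u hu).2
  have c7 := h.ncard_I
  have c8 := Set.ncard_le_ncard s3
  have o0 : 0 < Nat.card O := Nat.card_pos
  generalize Nat.card (MulAction.stabilizer (OrthE.O q8) (π (τ * zz ι * τ⁻¹)) ⊓ φ.range :
    Subgroup (OrthE.O q8)) = j at cY c1
  have d1 : Nat.card φ.range ≤ j * 135 := c1 ▸ Nat.mul_le_mul_left j c2
  have d2 : Nat.card M ≤ 1344 * (491520 * Nat.card O) := c5 ▸ Nat.mul_le_mul (c8.trans c7) c6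
  have d3 : 512 * Nat.card O * 1290240 ≤ Nat.card Y := cY ▸ Nat.mul_le_mul_left _ (by omega)
  have d4 : j ≤ 1290240 := Nat.le_of_mul_le_mul_left (cY.ge.trans (by omega)) (by omega)
  have d5 : 1344 ≤ {u | ∃ m ∈ M, u = m * v * m⁻¹}.ncard := Nat.le_of_mul_le_mul_right
    (le_trans (by omega) (c5.le.trans (Nat.mul_le_mul_left _ c6))) (show 0 < 491520 * Nat.card O by omega)
  have e1 := eq_of_le_of_card_ge EJ (by rw [card_E8]; omega)
  have e2 := eq_of_le_of_card_ge YM (by omega)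
  have e3 := Set.eq_of_subset_of_ncard_le s3 (c7.trans d5)
  refine ⟨h, fun g hg => e1 ▸ ⟨⟨g, hg⟩, hφ _⟩, fun g h1 h2 => ((mY g).1 (e2 ▸ ⟨h1, mem_centralizer_singleton_iff.2 h2⟩)).1,
    fun g => h.NQR', fun c hc r hr hD hr' => ?_, fun r hr w h1 h2 => ⟨fun hD => ⟨mul_self_of_orderOf hD.1,
      h.ns_of_D hr hD h1 h2⟩, fun k => (s1 r (e3 ▸ ⟨hr, k.1, w, k.2, h1, h2⟩)).2⟩⟩
  obtain ⟨m, hm, rfl⟩ : r ∈ {u | ∃ m ∈ M, u = m * v * m⁻¹} := e3 ▸ s2 r hr hD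
  obtain ⟨m', hm', e⟩ : _ ∈ {u | ∃ m ∈ M, u = m * v * m⁻¹} := e3 ▸ s2 _ hr' (DD_conj hD c)
  have cz : ∀ x ∈ M, Commute x (zz ι) := fun x hx => mem_centralizer_singleton_iff.1 hx.2
  have := h.NE (h.mem_NE h.cK (c := m'⁻¹ * c * m) hv v1 (by
      rw [Commute, SemiconjBy, ← mul_inv_eq_iff_eq_mul, show m'⁻¹ * c * m * v * (m'⁻¹ * c * m)⁻¹ =
        m'⁻¹ * (c * (m * v * m⁻¹) * c⁻¹) * m' by group, e]; group)
    (((cz _ hm').inv_left.mul_left (hc _ zz_mem).symm).mul_left (cz _ hm)))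
  rwa [Subgroup.mul_mem_cancel_right _ hm.1, Subgroup.mul_mem_cancel_left _ (inv_mem hm'.1)] at this

end CfsgLib.G2C
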