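import Cfsg.Agent.Lib.G2C.P5a

/-! Package P5: C(Z) normalises R (plans/G2C2.md) -/

set_option autoImplicit false
set_option linter.unusedSectionVars false

namespace CfsgLib.G2C

open Subgroup Cfsg CfsgLib.Tech CfsgLib.StdR2 CfsgLib.Chev CfsgLib.OrthE CfsgLib.ExtraTwo
  CfsgLib.Co1Rec QuadraticMap
open scoped commutatorElement

variable {F : Type*} [Field F] [Fintype F] {G : Type*} [Group G] [Finite G] {ι : Γ F →* G}

namespace P5

variable {D : Set G} {Z R R' Y : Subgroup G} {z1 z2 x : G} {p p' : G → V6 × V6} {ν ν' : G → OrthE.O q6}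

theorem exists_ab : ∃ a b : V6, q6 a = 1 ∧ q6 b = 1 ∧ polar q6 a b = 1 :=
  ⟨Sum.elim ![1, 0, 0] ![1, 0, 0], Sum.elim ![1, 1, 0] ![0, 1, 0], by
    simp [qPlus_apply, polar_qPlus, Fin.sum_univ_three]⟩

theorem exists_D (h : RM D Z R z1 z2 p ν) : ∃ r ∈ R, r ∈ D := by
  obtain ⟨a, b, k⟩ := exists_ab
  obtain ⟨r, hr, e⟩ := h.surj (a, b)
  exact ⟨r, hr, (h.memD r hr).2 (e ▸ k)⟩

omit [Finite G] in
theorem cm_symm' {a b : G} {N : Subgroup G} (h : ⁅a, b⁆ ∈ N) : ⁅b, a⁆ ∈ N := by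
  rw [← commutatorElement_inv]; exact inv_mem h

omit [Finite G] in
theorem conj_of_cm {a b : G} {N : Subgroup G} (h : ⁅a, b⁆ ∈ N) (hb : b ∈ N) : a * b * a⁻¹ ∈ N := by
  simpa only [commutatorElement_def, inv_mul_cancel_right] using mul_mem h hb

theorem R_le_mc (h : RM D Z R z1 z2 p ν) (hY : Y ≤ R) : R ≤ centralizer (Z : Set G) ⊓ RuG.mc Y Z :=
  fun _ hr => ⟨h.cen hr, centralizer_le_normalizer _ (h.cen hr), fun _ hy => h.cm_mem hr (hY hy)⟩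

/-- two conjugates of `R` that meet in `Y` -/
structure Two (D : Set G) (Z R R' Y : Subgroup G) (z1 z2 : G) (p p' : G → V6 × V6)
    (ν ν' : G → OrthE.O q6) : Prop where
  h : RM D Z R z1 z2 p ν
  h' : RM D Z R' z1 z2 p' ν'
  ZY : Z ≤ Y
  YR : Y ≤ R
  YR' : Y ≤ R'
  inf : ∀ r ∈ R, r ∈ R' → r ∈ Y
  nD : ∀ r ∈ R, r ∈ normalizer (R' : Set G) → r ∉ D
  nD' : ∀ r ∈ R', r ∈ normalizer (R : Set G) → r ∉ D
  ti : ∀ r ∈ R, ∀ x ∈ R', x ∉ Y → r * x * r⁻¹ ∈ R' → r ∈ normalizer (R' : Set G)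
  ti' : ∀ r ∈ R', ∀ x ∈ R, x ∉ Y → r * x * r⁻¹ ∈ R → r ∈ normalizer (R : Set G)

namespace Two

variable (t : Two D Z R R' Y z1 z2 p p' ν ν')
include t

theorem symm : Two D Z R' R Y z1 z2 p' p ν' ν :=
  ⟨t.h', t.h, t.ZY, t.YR', t.YR, fun r a b => t.inf r b a, t.nD', t.nD, t.ti', t.ti⟩

theorem mem_B (hx : x ∈ R') (hx' : x ∉ Y) {r : G} (hr : r ∈ R) (e : ⁅r, x⁆ ∈ Y) : r ∈ normalizer (R' : Set G) :=
  t.ti r hr x hx hx' (conj_of_cm (t.YR' e) hx)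

theorem a2 (hx : x ∈ R') (hn : x ∈ normalizer (R : Set G)) (hx' : x ∉ Y) :
    ∃ u w, Rk2 (ν x) u w ∧ q6 w = 0 := by
  have xc := t.h'.cen hx
  obtain ⟨u, w, rk⟩ := inv6 (t.h.memE x hn xc) (by
    rw [← t.h.ν_mul hn xc hn xc, t.h.ν_R (t.h.ZR (t.h'.sq_mem hx))])
    fun e => hx' (t.inf x (t.h.ker2 x hn xc e (t.h'.pow4 hx)) hx)
  refine ⟨u, w, rk, (zmod2_cases _).resolve_right fun hw => ?_⟩
  obtain ⟨a, b, h1, h2, h3⟩ := rk.aniso6 hw
  obtain ⟨r, hr, e⟩ := t.h.surj (a, b)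
  exact t.nD r hr (t.mem_B hx hx' hr (t.ZY ((t.h.cm_iff hn xc hr).2 (e ▸ ⟨h1, h2⟩))))
    ((t.h.memD r hr).2 (e ▸ h3))

theorem big (hx : x ∈ R') (hn : x ∈ normalizer (R : Set G)) (hx' : x ∉ Y) :
    2 ^ 14 * Nat.card Y ≤ Nat.card ↥(R ⊓ normalizer (R' : Set G)) ^ 2 := by
  have h1 := RuG.idx (K := R) (N := Y) (N' := R ⊓ normalizer (R' : Set G)) (t := x)
    (le_inf t.YR (t.YR'.trans le_normalizer)) (fun r hr => Ti.le_N_Y t.ZY (R_le_mc t.h t.YR hr).2) fun w hw => by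
      have c := t.h.cm_R hn hw
      refine ⟨c, t.mem_B hx hx' c (cm_symm' ?_)⟩
      rw [commutatorElement_def, Ti.inverts (t.h.cZ (t.h'.sq_mem hx) (inv_mem hw))]
      exact t.ZY (t.h.sq_mem (inv_mem c))
  have h2 := card_le_of_le (show R ⊓ RuG.mc {x} Y ≤ R ⊓ normalizer (R' : Set G) from
    fun r hr => ⟨hr.1, t.mem_B hx hx' hr.1 (hr.2.2 x rfl)⟩)
  rw [t.h.cardR] at h1
  exact h1.trans (by rw [pow_two]; gcongr)

theorem small (hx : x ∈ R') (hn : x ∈ normalizer (R : Set G)) (hx' : x ∉ Y) : Nat.card Y ≤ 1024 := by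
  obtain ⟨u, w, rk, -⟩ := t.a2 hx hn hx'
  have := card_le_of_le (show Y ≤ t.h.sub ((Fix {ν x}).prod (Fix {ν x})) from fun y hy => by
    have k := (t.h.cm_iff hn (t.h'.cen hx) (t.YR hy)).1 (t.h'.cm_mem (t.YR' hy) hx)
    exact ⟨t.YR hy, by rintro _ rfl; exact k.1, by rintro _ rfl; exact k.2⟩)
  rwa [t.h.card_sub, card_prod, rk.card6] at this

theorem exists_mem (hx : x ∈ R') (hn : x ∈ normalizer (R : Set G)) (hx' : x ∉ Y) :
    ∃ y ∈ R ⊓ normalizer (R' : Set G), y ∉ Y := SetLike.not_le_iff_exists.1 fun k => by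
  have h1 := (t.big hx hn hx').trans (Nat.pow_le_pow_left (card_le_of_le k) 2)
  have h2 := t.small hx hn hx'
  have h3 := Nat.card_pos (α := Y)
  nlinarith

theorem false (hx : x ∈ R') (hn : x ∈ normalizer (R : Set G)) (hx' : x ∉ Y) : False := by
  obtain ⟨y, hy, hy'⟩ := t.exists_mem hx hn hx'
  have h1 := t.symm.big hy.1 hy.2 hy'
  have h2 := t.small hx hn hx'
  have h3 := Nat.card_pos (α := Y)
  obtain ⟨J, hJ, -, -, cJ, fx⟩ := t.h.exists_ν (B := R' ⊓ normalizer (R : Set G)) inf_le_right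
    (inf_le_left.trans t.h'.cen) fun b hb => t.h'.sq_mem hb.1
  rw [show R' ⊓ normalizer (R : Set G) ⊓ R = Y from le_antisymm (fun r hr => t.inf r hr.2 hr.1.1)
    (le_inf (le_inf t.YR' (t.YR.trans le_normalizer)) t.YR)] at cJ
  rw [cJ, mul_pow, pow_two (Nat.card Y), ← mul_assoc] at h1
  replace h1 := Nat.le_of_mul_le_mul_right h1 h3
  obtain ⟨c8, f8, hr⟩ := bound6a (J := J) (fun g hg g1 => by
    obtain ⟨b, hb, rfl⟩ := (hJ g).1 hg
    exact t.a2 hb.1 hb.2 fun k => g1 (t.h.ν_R (t.YR k))) (not_le.1 fun k => by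
      have := Nat.mul_le_mul (Nat.pow_le_pow_left k 2) h2
      omega)
  have e : Y = t.h.sub ((Fix (J : Set (OrthE.O q6))).prod (Fix (J : Set (OrthE.O q6)))) :=
    eq_of_le_of_card_ge (fun r hr => ⟨t.YR hr, fx r (t.YR hr) fun b hb => t.h'.cm_mem (t.YR' hr) hb.1⟩) (by
      rw [t.h.card_sub, card_prod, f8]
      have := Nat.mul_le_mul_right (Nat.card Y) (Nat.pow_le_pow_left c8 2)
      omega)
  obtain ⟨r, h4, h5⟩ := exists_D t.h
  have m := (hJ _).2 ⟨x, ⟨hx, hn⟩, rfl⟩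
  refine t.nD r h4 (t.mem_B hx hx' h4 (e.ge ⟨t.h.cm_R hn h4, ?_⟩)) h5
  rw [t.h.p_cm hn (t.h'.cen hx) h4]
  exact ⟨hr _ m _, hr _ m _⟩

end Two

end P5

open P5

theorem RM.cent_le {D : Set G} {Z R : Subgroup G} {z1 z2 : G} {p : G → V6 × V6}
    {ν : G → OrthE.O q6} (h : RM D Z R z1 z2 p ν) :
    centralizer (Z : Set G) ≤ normalizer (R : Set G) := by
  by_contra hn
  obtain ⟨Y, ZY, YR, hX, mx⟩ := Ti.exists_max h.ZR hn
  set X := centralizer (Z : Set G) ⊓ RuG.mc Y Z with eX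
  have XY : X ≤ normalizer (Y : Set G) := inf_le_right.trans (Ti.le_N_Y ZY)
  have RX : R ≤ X := R_le_mc h YR
  have Yc : ∀ g ∈ X, Y ≤ cj g R := fun g hg => (mem_normalizer_iff_cj.1 (XY hg)).ge.trans (cj_mono g YR)
  have cX : ∀ g ∈ X, cj g R ≤ X := fun g hg => (cj_mono g RX).trans (cj_eq_of_mem hg).le
  have YD : ∀ y ∈ Y, y ∉ D := fun y hy hD => hX fun g hg =>
    h.DN g hg.1 y (YR hy) hD (conj_of_cm (h.ZR (hg.2.2 y hy)) (YR hy))
  have ti : ∀ g ∈ X, g ∉ normalizer (R : Set G) → R ⊓ cj g R ≤ Y := fun g hg hg' => by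
    by_contra k
    obtain ⟨d, h1, h2⟩ := exists_D (h.conj hg.1)
    exact hg' (h.U hg.1 h1 h2 (mx _ (lt_of_le_not_ge (le_inf YR (Yc g hg)) k) inf_le_left
      (R_le_mc (h.conj hg.1) inf_le_right h1)))
  have ti2 : ∀ r ∈ X, ∀ x ∈ R, x ∉ Y → r * x * r⁻¹ ∈ R → r ∈ normalizer (R : Set G) := fun r hr x hx hx' e =>
    by_contra fun k => hx' ((mem_normalizer_iff.1 (XY hr) x).2 (ti r hr k ⟨e, conj_mem_cj.2 hx⟩))
  have hodd : ∀ g ∈ X, g ∉ normalizer (R : Set G) → cj g R ⊓ normalizer (R : Set G) ≤ Y := fun g hg hg' x hx => by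
    refine by_contra fun k => Two.false ⟨h, h.conj hg.1, ZY, YR, Yc g hg, fun r a b => ti g hg hg' ⟨a, b⟩,
      fun r a b c => hg' ?_, fun r a b c => hg' (h.U hg.1 a c b), fun r a x b c d => ?_,
      fun r a => ti2 r (cX g hg a)⟩ hx.1 hx.2 k
    · have := (h.conj hg.1).U (inv_mem hg.1) (by rwa [cj_inv_cj]) c b
      rw [← cj_normalizer, mem_cj] at this
      exact inv_mem_iff.1 (by simpa using this)
    · rw [← cj_normalizer, mem_cj]
      refine ti2 _ (mul_mem (mul_mem (inv_mem hg) (RX a)) hg) _ (mem_cj.1 b)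
        (fun k => c ((mem_normalizer_iff_cj.1 (XY hg)).le (mem_cj.2 k))) ?_
      simpa [mul_assoc] using mem_cj.1 d
  have tr := fun r (hr : r ∈ R) r1 s (hs : s ∈ R) s1 =>
    Ti.trans XY YR RX (fun r hr => ZY (h.sq_mem hr)) hodd hX hr r1 hs s1
  have fx : ∀ n ∈ X ⊓ normalizer (R : Set G), ∀ y ∈ Y, (ν n).1 (p y).1 = (p y).1 ∧ (ν n).1 (p y).2 = (p y).2 :=
    fun n hn y hy => (h.cm_iff hn.2 hn.1.1 (YR hy)).1 (cm_symm' (hn.1.2.2 y hy))
  have triv : ∀ n ∈ X ⊓ normalizer (R : Set G), ν n = 1 := fun n hn => O_ext fun v => by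
    by_cases k : ∀ r ∈ R, (p r).2 = 0 → r ∈ Y
    · obtain ⟨r, hr, e⟩ := h.surj (v, 0)
      simpa [e] using (fx n hn r (k r hr (by rw [e]))).1
    · push Not at k
      obtain ⟨r, hr, r0, r1⟩ := k
      obtain ⟨s, hs, e⟩ := h.surj (0, v)
      by_cases s1 : s ∈ Y
      · simpa [e] using (fx n hn s s1).2
      obtain ⟨m, hm, k⟩ := tr r hr r1 s hs s1
      have := (fx n hn _ k).2
      rw [h.mul _ (conj_mem_of_mem_normalizer hm.2 hr) _ (inv_mem hs), h.act m hm.2 hm.1.1 r hr, h.p_inv hs, e, r0] at this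
      simpa using this
  obtain ⟨a, b, h1, h2, h3⟩ := exists_ab
  obtain ⟨r, hr, e⟩ := h.surj (a, b)
  obtain ⟨s, hs, e'⟩ := h.surj (b, a + b)
  obtain ⟨m, hm, k⟩ := tr r hr (fun k => YD r k ((h.memD r hr).2 (e ▸ ⟨h1, h2, h3⟩))) s hs
    fun k => YD s k ((h.memD s hs).2 (e' ▸ (tri h1 h2 h3).1))
  refine YD _ k ((h.memD _ (YR k)).2 ?_)
  rw [h.mul _ (conj_mem_of_mem_normalizer hm.2 hr) _ (inv_mem hs), h.act m hm.2 hm.1.1 r hr, h.p_inv hs, e, e',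
    triv m hm]
  simpa only [O_one_apply, Prod.fst_add, Prod.snd_add, add_comm a b, ← add_assoc, add_self_zmod2, zero_add]
    using (tri h1 h2 h3).2

end CfsgLib.G2C
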