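import Cfsg.Agent.Lib.G2C.P6a

/-! Package P6: C(z) normalises Q (plans/G2C2.md) -/

set_option autoImplicit false
set_option linter.unusedSectionVars false

namespace CfsgLib.G2C

open Subgroup Cfsg CfsgLib.Tech CfsgLib.StdR2 CfsgLib.Chev CfsgLib.OrthE CfsgLib.ExtraTwo
  CfsgLib.Co1Rec QuadraticMap
open scoped commutatorElement

variable {F : Type*} [Field F] [Fintype F] {G : Type*} [Group G] [Finite G] {ι : Γ F →* G}

namespace P6

omit [Finite G] in
theorem mem_cz {g z : G} : g ∈ centralizer ((zpowers z : Subgroup G) : Set G) ↔ Commute g z :=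
  ⟨fun h => (h z (mem_zpowers z)).symm, by rintro h _ ⟨i, rfl⟩; exact (h.zpow_right i).eq.symm⟩

theorem card_orth8 (W : Submodule (ZMod 2) V8) :
    Nat.card W * Nat.card (LinearMap.BilinForm.orthogonal (polarBilin q8) W) = 256 := by
  rw [Ti.card_orth ((nondeg_iff _).1 nd8)]
  simp

/-- the stabiliser of an anisotropic subspace is not transitive on the quotient -/
theorem exists_uv {Y : Submodule (ZMod 2) V8} (hY : ∀ y ∈ Y, q8 y = 0 → y = 0) : ∃ u v, u ∉ Y ∧ v ∉ Y ∧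
    ∀ e : OrthE.O q8, (∀ y ∈ Y, e.1 y = y) → e.1 u + v ∉ Y := by
  have h1 : Nat.card Y ≤ 4 := aniso_le (q := q8) Y.toAddSubgroup hY
  have h2 := card_orth8 Y
  set P := LinearMap.BilinForm.orthogonal (polarBilin q8) Y with hP
  have h3 : 64 ≤ Nat.card P := by
    have := Nat.mul_le_mul_right (Nat.card P) h1
    omega
  obtain ⟨u, hu, u0, u1⟩ : ∃ u ∈ P, q8 u = 0 ∧ u ≠ 0 := by
    by_contra k
    have : Nat.card P ≤ 4 := aniso_le (q := q8) P.toAddSubgroup fun w a b => by_contra fun c => k ⟨w, a, b, c⟩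
    omega
  have eu : ∀ e : OrthE.O q8, (∀ y ∈ Y, e.1 y = y) → e.1 u ∈ P := fun e he y hy => by
    have := O_polar e y u
    rw [he y hy] at this
    exact this.trans (hu y hy)
  by_cases k : ∃ i ∈ Y, i ∈ P ∧ i ≠ 0
  · obtain ⟨i, a, b, c⟩ := k
    obtain ⟨v, hv⟩ := nd8.exists_eq c 1
    refine ⟨u, v, fun k => u1 (hY u k u0), fun k => zero_ne_one ((b v k).symm.trans hv), fun e he k => ?_⟩
    have h4 : polar q8 (e.1 u + v) i = 0 := b _ k
    have h5 : polar q8 i (e.1 u) = 0 := eu e he i a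
    rw [polar_add_left, polar_comm, h5, hv, zero_add] at h4
    exact one_ne_zero h4
  obtain ⟨v, hv, v1⟩ : ∃ v ∈ P, q8 v = 1 := by
    by_contra k'
    have z : ∀ v ∈ P, q8 v = 0 := fun v hv => (zmod2_cases _).resolve_right fun e => k' ⟨v, hv, e⟩
    have h4 := Ti.card_le_sub (show P ≤ LinearMap.BilinForm.orthogonal (polarBilin q8) P from fun a ha b hb => by
      have := z _ (add_mem hb ha)
      rwa [Q_add, z a ha, z b hb, zero_add, zero_add] at this)
    have h5 := card_orth8 P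
    have := Nat.mul_le_mul h3 (h3.trans h4)
    omega
  refine ⟨u, v, fun k => u1 (hY u k u0), fun k' => (zero_ne_one' (ZMod 2)) ?_,
    fun e he k' => (zero_ne_one' (ZMod 2)) ?_⟩
  · rw [← v1, show v = 0 from by_contra fun c => k ⟨v, k', hv, c⟩, map_zero]
  · rw [← v1, ← add_eq_zero_zmod2.1 (by_contra fun c => k ⟨_, k', add_mem (eu e he) hv, c⟩), O_map, u0]

end P6

open P6

theorem QX.cent_le {Q O : Subgroup G} {z : G} {π : G → V8} {ρ : G → OrthE.O q8} (h : QX Q O z π ρ)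
    (sn : SN Q z) {g : G} (hg : Commute g z) : g ∈ normalizer (Q : Set G) := by
  suffices centralizer ((zpowers z : Subgroup G) : Set G) ≤ normalizer (Q : Set G) from this (mem_cz.2 hg)
  by_contra hn
  have es := h.co.es
  obtain ⟨Y, ZY, YQ, hX, mx⟩ := Ti.exists_max (zpowers_le.2 es.mem) hn
  set X := centralizer ((zpowers z : Subgroup G) : Set G) ⊓ RuG.mc Y (zpowers z) with eX
  have XY : X ≤ normalizer (Y : Set G) := inf_le_right.trans (Ti.le_N_Y ZY)
  have le : ∀ {P Y : Subgroup G}, ES P z → Y ≤ P →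
      P ≤ centralizer ((zpowers z : Subgroup G) : Set G) ⊓ RuG.mc Y (zpowers z) := fun e l r hr =>
    ⟨mem_cz.2 (e.comm_z r hr), centralizer_le_normalizer _ (mem_cz.2 (e.comm_z r hr)),
      fun y hy => e.mem_zpowers.2 (e.commutator hr (l hy))⟩
  have QX : Q ≤ X := le es YQ
  have Yc : ∀ g ∈ X, Y ≤ cj g Q := fun g hg => (mem_normalizer_iff_cj.1 (XY hg)).ge.trans (cj_mono g YQ)
  have ti : ∀ g ∈ X, g ∉ normalizer (Q : Set G) → Q ⊓ cj g Q ≤ Y := fun g hg hg' => by
    by_contra k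
    have h' := conj' h (mem_cz.1 hg.1)
    obtain ⟨d, h1, -, h2, h3⟩ := exists_sing h' (W := ⊤) (by rw [Nat.card_congr Submodule.topEquiv.toEquiv]; simp)
    exact hg' (h.lemA sn (mem_cz.1 hg.1) h1 h2 (fun e => h3 (e ▸ one_mem _)) (fun e => h3 (e ▸ mem_zpowers _))
      (mx _ (lt_of_le_not_ge (le_inf YQ (Yc g hg)) k) inf_le_left (le h'.co.es inf_le_right h1)))
  have hodd : ∀ g ∈ X, g ∉ normalizer (Q : Set G) → cj g Q ⊓ normalizer (Q : Set G) ≤ Y := fun g hg hg' x hx => by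
    by_contra k
    have gz := mem_cz.1 hg.1
    have h' := conj' h gz
    obtain ⟨c, h1, h2, h3, h4⟩ := exists_sing h (W := Fix {ρ x}) (lt_of_lt_of_le (by norm_num)
      (le_card_fix (h.memE x hx.2) (by
        rw [← h.toQX0.qa.ρ_mul hx.2 hx.2]
        exact h.toQX0.qa.ρ_Q ((h'.co.es.sq hx.1).elim (· ▸ one_mem _) (· ▸ es.mem)))))
    have cn : c ∈ normalizer ((cj g Q : Subgroup G) : Set G) := by
      rw [← cj_normalizer, mem_cj]
      by_contra k'
      have m := mul_mem (mul_mem (inv_mem hg) (QX h1)) hg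
      have e : c * x * c⁻¹ ∈ cj g Q := by
        simpa only [commutatorElement_def, inv_mul_cancel_right] using
          mul_mem (zpowers_le.2 h'.co.es.mem ((cm_iff h hx.2 h1).2 (mem_Fix.1 h2))) hx.1
      have := ti _ m k' ⟨mem_cj.1 e, mem_cj.2 (by simpa [mul_assoc] using mem_cj.1 hx.1)⟩
      exact k ((mem_normalizer_iff.1 (XY (QX h1)) x).2 ((mem_normalizer_iff_cj.1 (XY hg)).le (mem_cj.2 this)))
    have := h'.lemA (sn_conj sn gz) gz.inv_left (by rwa [cj_inv_cj]) h3 (fun e => h4 (e ▸ one_mem _))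
      (fun e => h4 (e ▸ mem_zpowers _)) cn
    rw [← cj_normalizer, mem_cj] at this
    exact hg' (inv_mem_iff.1 (by simpa using this))
  obtain ⟨u, v, u1, v1, k⟩ := exists_uv (Y := h.co.img Y) (by
    rintro _ ⟨y, a, b, rfl⟩ e
    refine (h.co.ker y b).2 (by_contra fun k => hX fun g hg => sn y b ((h.co.sq y b).1 e) (not_or.1 k).1
      (not_or.1 k).2 g (mem_cz.1 hg.1) (YQ (conj_mem_of_mem_normalizer (XY hg) a))))
  obtain ⟨r, hr, rfl⟩ := h.co.surj u
  obtain ⟨s, hs, rfl⟩ := h.co.surj v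
  obtain ⟨n, hn, e⟩ := Ti.trans XY YQ QX (fun r hr => ZY (es.mem_zpowers.2 (es.sq hr))) hodd hX hr
    (fun k => u1 ⟨r, k, hr, rfl⟩) hs fun k => v1 ⟨s, k, hs, rfl⟩
  refine k (ρ n) ?_ ⟨_, e, YQ e, ?_⟩
  · rintro _ ⟨y, a, b, rfl⟩
    exact (cm_iff h hn.2 b).1 (by rw [← commutatorElement_inv]; exact inv_mem (hn.1.2.2 y a))
  · rw [h.co.map_mul _ (conj_mem_of_mem_normalizer hn.2 hr) _ (inv_mem hs), h.act n hn.2 r hr, h.co.map_inv hs]

end CfsgLib.G2C
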