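import Cfsg.Agent.Lib.G2C.P6a
import Cfsg.Agent.Lib.Holt.Wrap
import Cfsg.Agent.Lib.AltAut.Basic
import Cfsg.Agent.Lib.PLocal.Constrained
import Cfsg.Agent.Lib.Co1Rec.Hyp
import Cfsg.Agent.S1718

/-! Package P7: O = 1 and the identification (plans/G2C2.md) -/

set_option autoImplicit false
set_option linter.unusedSectionVars false

namespace CfsgLib.G2C

open Subgroup Cfsg CfsgLib.Tech CfsgLib.StdR2 CfsgLib.Chev CfsgLib.OrthE CfsgLib.ExtraTwo
  CfsgLib.Co1Rec QuadraticMap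
open scoped commutatorElement

variable {F : Type*} [Field F] [Fintype F] {G : Type*} [Group G] [Finite G] {ι : Γ F →* G}

namespace P7

variable {Q O : Subgroup G} {z τ : G} {π : G → V8} {ρ : G → OrthE.O q8}

theorem inf_bot {P N : Subgroup G} (hP : IsPGroup 2 P) (hN : Odd (Nat.card N)) {x : G} (h1 : x ∈ P)
    (h2 : x ∈ N) : x = 1 :=
  mem_bot.1 ((Coprime.inf_eq_bot_of_coprime' (Gold.coprime_of_odd hP hN)).le ⟨h2, h1⟩)

theorem exists_syl (h : QX Q O z π ρ) : ∃ T, IsSylowIn 2 T ⊤ ∧ z ∈ T ∧ ∀ t ∈ T, Commute t z := by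
  obtain ⟨T, hT, l⟩ := exists_isSylowIn_ge h.co.es.isPGroup (le_top : Q ≤ ⊤)
  have hz := l h.co.es.mem
  have : Nontrivial T := ⟨⟨⟨z, hz⟩, 1, fun e => h.co.es.ne_one (congrArg Subtype.val e)⟩⟩
  obtain ⟨t, t1⟩ := @exists_ne _ hT.pgroup.center_nontrivial 1
  have c : ∀ x ∈ T, Commute x t := fun x hx => congrArg Subtype.val (mem_center_iff.1 t.2 ⟨x, hx⟩)
  obtain ⟨o, ho, e | e⟩ := (h.cQ t).1 fun u hu => (c u (l hu)).symm
  · exact absurd (Subtype.ext (Subtype.ext (inf_bot hT.pgroup h.oddO t.1.2 (e ▸ ho)))) t1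
  · rw [inf_bot hT.pgroup h.oddO ((mul_mem_cancel_left hz).1 (e ▸ t.1.2)) ho, mul_one] at e
    exact ⟨T, hT, hz, e ▸ c⟩

theorem conj_N (hC : ∀ g, Commute g z → g ∈ normalizer (Q : Set G)) (k : G) {g : G}
    (hg : Commute g (k * z * k⁻¹)) : g ∈ normalizer ((cj k Q : Subgroup G) : Set G) := by
  rw [← cj_normalizer, mem_cj]
  exact hC _ (by simpa [mul_assoc] using hg.conj k⁻¹)

theorem exists_r (h : QX Q O z π ρ) {y : G} (hy : y ∈ normalizer (Q : Set G)) (y2 : y * y = 1) :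
    ∃ r ∈ Q, Commute r y ∧ r * r = 1 ∧ r ∉ zpowers z := by
  have h1 := P6.le_card_fix (h.memE y hy) (by rw [← h.toQX0.qa.ρ_mul hy hy, y2, h.toQX0.qa.ρ_one])
  have h2 := RuG.idx (K := h.co.sub (Fix {ρ y})) (N := ⊥) (N' := zpowers z) (t := y) bot_le
    (by simp) fun w hw => (P6.cm_iff h hy hw.1).2 (P6.mem_Fix.1 hw.2)
  have l : h.co.sub (Fix {ρ y}) ⊓ centralizer {y} ≤ Q := fun w hw => hw.1.1
  have m : z ∈ h.co.sub (Fix {ρ y}) ⊓ centralizer {y} := ⟨⟨h.co.es.mem, h.co.map_z ▸ zero_mem _⟩,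
    mem_centralizer_singleton_iff.2 (h.toQX0.qa.N_z hy).symm⟩
  rw [RuG.mc_bot, h.co.card_sub, card_bot, P6.card_z h, h.co.card_img l m] at h2
  obtain ⟨r, a, b, c⟩ := P6.exists_sing h (W := h.co.img (h.co.sub (Fix {ρ y}) ⊓ centralizer {y})) (by omega)
  exact ⟨r, a, mem_centralizer_singleton_iff.1 ((h.co.sub_img l m).le ⟨a, b⟩).2, c⟩

theorem key0 (h : QX Q O z π ρ) (hC : ∀ g, Commute g z → g ∈ normalizer (Q : Set G))
    (hτ : τ ∈ normalizer (O : Set G)) (h1 : τ * z * τ⁻¹ ∈ Q) (h2 : τ * z * τ⁻¹ ≠ z) {g : G}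
    (hg : Commute (g * z * g⁻¹) z) : g ∈ normalizer (O : Set G) := by
  have es := h.co.es
  have sq : ∀ k : G, k * z * k⁻¹ * (k * z * k⁻¹) = 1 := fun k => by
    rw [show k * z * k⁻¹ * (k * z * k⁻¹) = k * (z * z) * k⁻¹ by group, es.mul_self]; group
  obtain ⟨r, hr, ry, r2, r1⟩ := exists_r h (hC _ hg) (sq g)
  have c := es.comm_z r hr
  have hE : zpowers z ⊔ zpowers r ≤ Q ⊓ centralizer {g * z * g⁻¹} ⊓ centralizer {r} := sup_le
    (zpowers_le.2 ⟨⟨es.mem, mem_centralizer_singleton_iff.2 hg.symm⟩, mem_centralizer_singleton_iff.2 c.symm⟩)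
    (zpowers_le.2 ⟨⟨hr, mem_centralizer_singleton_iff.2 ry⟩, mem_centralizer_singleton_iff.2 rfl⟩)
  have E2 : ∀ e ∈ zpowers z ⊔ zpowers r, e * e = 1 := fun e he => by
    have : e ∈ ((zpowers z ⊔ zpowers r : Subgroup G) : Set G) := he
    rw [coe_mul_of_right_le_normalizer_left _ _ (zpowers_le.2 (centralizer_le_normalizer _ (by
      rintro _ ⟨i, rfl⟩; exact (Commute.zpow_right c i).eq.symm)))] at this
    obtain ⟨a, ha, b, hb, rfl⟩ := this
    rcases es.mem_zpowers.1 ha with rfl | rfl <;> rcases (mem_zpowers_iff_of_mul_self r2).1 hb with rfl | rfl <;>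
      simp only [one_mul, mul_one, r2, es.mul_self]
    rw [mul_assoc, ← mul_assoc b, c, mul_assoc, r2, mul_one, es.mul_self]
  have hg' := (h.conj g).toQX0
  refine mem_normalizer_of_cj_le (Gold.le_of_cent1 E2 ?_ hg'.oddO
    (fun e he => hg'.N_O (conj_N hC g (mem_centralizer_singleton_iff.1 (hE he).1.2))) fun b hb b1 w hw => ?_)
  · have := RuG.two_mul_le (H := zpowers z) (K := zpowers z ⊔ zpowers r) (lt_of_le_not_ge le_sup_left
      fun k => r1 (k (mem_sup_right (mem_zpowers r))))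
    rwa [P6.card_z h] at this
  obtain ⟨m, hm, rfl⟩ : ∃ m ∈ normalizer (O : Set G), m * z * m⁻¹ = b := by
    by_cases bz : b = z
    · exact ⟨1, one_mem _, by simp [bz]⟩
    obtain ⟨n, hn, e⟩ := h.toQX0.exists_conj h1 (sq τ) (by simpa using es.ne_one) h2 (hE hb).1.1 (E2 b hb) b1 bz
    exact ⟨n * τ, mul_mem (h.toQX0.N_O hn) hτ, by rw [← e]; group⟩
  have hm' := (h.conj m).toQX0
  have o : Odd (orderOf w) := hg'.oddO.of_dvd_nat (orderOf_dvd_natCard _ hw.1)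
  have wN := conj_N hC m (mem_centralizer_singleton_iff.1 hw.2)
  have := PLocal.Constr.a_times_b (P := zpowers (g * z * g⁻¹)) (hg'.co.es.isPGroup.to_le (zpowers_le.2 hg'.co.es.mem))
    hm'.co.es.isPGroup (zpowers_le.2 (conj_N hC m (mem_centralizer_singleton_iff.1 (hE hb).1.2).symm))
    (Nat.coprime_two_right.2 o) wN (fun u hu => (hg'.OQ hw.1 (zpowers_le.2 hg'.co.es.mem hu)).eq.symm)
    fun u hu hu' => commutatorElement_eq_one_iff_commute.1 (inf_bot hm'.co.es.isPGroup hg'.oddO (P6.cm_Q wN hu) (by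
      rw [← commutatorElement_inv]
      exact inv_mem (P6.cm_Q (hg'.N_O (conj_N hC g (hu' _ (mem_zpowers _)).symm)) hw.1)))
  exact (mem_normalizer_iff_cj.1 hm).le (hm'.mem_O (fun u hu => (this u hu).symm) o)

theorem key (h : QX Q O z π ρ) (hC : ∀ g, Commute g z → g ∈ normalizer (Q : Set G))
    (hτ : τ ∈ normalizer (O : Set G)) (h1 : τ * z * τ⁻¹ ∈ Q) (h2 : τ * z * τ⁻¹ ≠ z) {g : G}
    (hg : g * z * g⁻¹ ∈ normalizer (O : Set G)) : g ∈ normalizer (O : Set G) := by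
  obtain ⟨T, hT, -, c⟩ := exists_syl h
  obtain ⟨n, hn, e⟩ := (hT.of_le (fun t ht => h.toQX0.N_O (hC t (c t ht))) le_top).exists_conj_mem hg
    ((h.conj g).co.es.isPGroup.to_le (zpowers_le.2 (h.conj g).co.es.mem))
  exact (mul_mem_cancel_left hn).1 (key0 h hC hτ h1 h2 (by simpa [mul_assoc] using c _ e))

theorem eq_bot_of_simple {P : Subgroup G} (hs : IsSimpleGroup P) (hn : P ≤ normalizer (O : Set G))
    (ho : Odd (Nat.card O)) (hz : z ∈ P) (z2 : orderOf z = 2) {x : G} (h1 : x ∈ P) (h2 : x ∈ O) : x = 1 := by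
  have : (O.subgroupOf P).Normal :=
    ⟨fun x hx g => mem_subgroupOf.2 (conj_mem_of_mem_normalizer (hn g.2) (mem_subgroupOf.1 hx))⟩
  rcases this.eq_bot_or_eq_top with e | e
  · exact congrArg Subtype.val (mem_bot.1 (e.le (show (⟨x, h1⟩ : P) ∈ O.subgroupOf P from h2)))
  · have := ho.of_dvd_nat (O.orderOf_dvd_natCard (mem_subgroupOf.1 (e.ge (mem_top (⟨z, hz⟩ : P)))))
    rw [z2] at this
    exact absurd this (by decide)

theorem O_bot (h : QX Q O z π ρ) (hC : ∀ g, Commute g z → g ∈ normalizer (Q : Set G)) {X A : Subgroup G} [X.Normal]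
    [IsSimpleGroup X] (hX : centralizer (X : Set G) = ⊥) (hAX : A ≤ X) [IsSimpleGroup A]
    (hA : ¬ IsMulCommutative A) (hz : z ∈ A) (hAO : A ≤ normalizer (O : Set G)) (hτ : τ ∈ A)
    (h1 : τ * z * τ⁻¹ ∈ Q) (h2 : τ * z * τ⁻¹ ≠ z) {o : G} (ho : o ∈ O) : o = 1 := by
  have z2 := h.co.es.orderOf_eq
  by_cases k : (normalizer (O : Set G)).subgroupOf X = ⊤
  · have l := subgroupOf_eq_top.1 k
    refine mem_bot.1 (hX.le fun x hx => commutatorElement_eq_one_iff_mul_comm.1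
      (eq_bot_of_simple inferInstance l h.oddO (hAX hz) z2 (P6.cm_Q (by simp [normalizer_eq_top]) hx) ?_))
    rw [← commutatorElement_inv]
    exact inv_mem (P6.cm_Q (l hx) ho)
  obtain ⟨T, hT, zT, c⟩ := exists_syl h
  have hT' := hT.inf_of_le_normalizer (N := X) (by simp [normalizer_eq_top])
  rw [top_inf_eq] at hT'
  rcases Holt.holt_sub (G := X) (fun k => hA ⟨⟨fun a b => Subtype.ext (congrArg Subtype.val
      (k.is_comm.comm (⟨a, hAX a.2⟩ : X) ⟨b, hAX b.2⟩) :)⟩⟩) k (r := ⟨z, hAX hz⟩)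
    ⟨by rw [orderOf_mk, z2], hT'.toSylow, hT'.mem_toSylow.2 ⟨zT, hAX hz⟩,
      fun x hx => Subtype.ext (c x (hT'.mem_toSylow.1 hx).1)⟩
    (Holt.uf_quot (hAO hz) (fun x hx => h.toQX0.N_O (hC x (congrArg Subtype.val
      (mem_centralizer_singleton_iff.1 hx)))) fun g hg => ⟨g, key h hC (hAO hτ) h1 h2 hg, rfl⟩) with
    ⟨-, S, e⟩ | ⟨n, h7, -, -, ⟨e⟩, ⟨e'⟩⟩
  · have hS := IsSylowIn.of_sylow_subgroup S
    have n : A ≤ normalizer (((S : Subgroup X).map X.subtype : Subgroup G) : Set G) := fun a ha =>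
      le_normalizer_map X.subtype ⟨⟨a, hAX ha⟩, e.le (hAO ha), rfl⟩
    have : (((S : Subgroup X).map X.subtype).subgroupOf A).Normal :=
      ⟨fun x hx g => mem_subgroupOf.2 (conj_mem_of_mem_normalizer (n g.2) (mem_subgroupOf.1 hx))⟩
    have l := subgroupOf_eq_top.1 (this.eq_bot_or_eq_top.resolve_left fun e => h.co.es.ne_one
      (congrArg Subtype.val (mem_bot.1 (e.le (show (⟨z, hz⟩ : A) ∈ _ from hS.le_of_normalizes
        (h.co.es.isPGroup.to_le (zpowers_le.2 h.co.es.mem)) (zpowers_le.2 (hAX hz)) (zpowers_le.2 (n hz))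
        (mem_zpowers z))))))
    have hc := ((center A).normal_of_characteristic.eq_bot_or_eq_top).resolve_left
      ((nontrivial_iff_ne_bot _).1 (hS.pgroup.to_le l).center_nontrivial)
    exact absurd ⟨⟨fun a b => mem_center_iff.1 (hc.ge (mem_top b)) a⟩⟩ hA
  · obtain ⟨f, hf, fe, -⟩ := AltAut.exists_hom_perm_of_ne_six (by simpa using by omega) (by simpa using by omega) e hX
    have m : f o ∈ alternatingGroup (Fin n) := by
      have := congrArg Equiv.Perm.sign (congrArg f (pow_card_eq_one' (x := (⟨o, ho⟩ : O)) |> congrArg Subtype.val))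
      rw [SubmonoidClass.coe_pow, map_pow, map_pow, Int.units_pow_eq_pow_mod_two, Nat.odd_iff.1 h.oddO] at this
      simpa using this
    have oX : o ∈ X := by
      rw [← hf ((fe (e.symm ⟨_, m⟩)).trans (show _ = f o by simp))]
      exact SetLike.coe_mem _
    have := alternatingGroup.isSimpleGroup (α := Fin (n - 1)) (by simpa using by omega)
    exact eq_bot_of_simple (P := normalizer (O : Set G) ⊓ X) (((subgroupOfEquivOfLe inf_le_right).symm.trans
      (MulEquiv.subgroupCongr (inf_subgroupOf_right _ _))).trans e').isSimpleGroup inf_le_left h.oddO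
      ⟨hAO hz, hAX hz⟩ z2 ⟨le_normalizer ho, oX⟩ ho

end P7

theorem QX.isoCo1 {Q O : Subgroup G} {z : G} {π : G → V8} {ρ : G → OrthE.O q8} (h : QX Q O z π ρ)
    (hC : ∀ g, Commute g z → g ∈ normalizer (Q : Set G)) {X A : Subgroup G} [X.Normal]
    [IsSimpleGroup X] (hX : centralizer (X : Set G) = ⊥) (hAX : A ≤ X) [IsSimpleGroup A]
    (hA : ¬ IsMulCommutative A) (hz : z ∈ A) (hAO : ∀ a ∈ A, ∀ o ∈ O, Commute a o) {τ : G}
    (hτ : τ ∈ A) (h1 : τ * z * τ⁻¹ ∈ Q) (h2 : τ * z * τ⁻¹ ≠ z) : Spor.IsoCo1 G := by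
  have ho := fun o => P7.O_bot (o := o) h hC hX hAX hA hz
    (fun a ha => centralizer_le_normalizer _ fun o ho => (hAO a ha o ho).eq.symm) hτ h1 h2
  have c : CT Q z π ρ := ⟨⟨⟨h.co.es, fun g hg => by
      obtain ⟨o, a, b⟩ := (h.cQ g).1 fun u hu => (hg u hu).symm
      simpa [ho o a] using b, fun g hg x hx => conj_mem_of_mem_normalizer (hC g hg) hx⟩, h.co,
    fun g hg => h.act g (hC g hg)⟩, fun g hg => h.memE g (hC g hg), fun e he => by
      obtain ⟨g, a, b⟩ := h.surj e he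
      exact ⟨g, h.toQX0.qa.N_z a, b⟩⟩
  obtain ⟨a, P, _, b, d, e, ⟨f⟩, k⟩ := c.hyp ⟨τ, h1, h2⟩
  exact Cfsg.Agent.S1718.result z a P b d e f k

end CfsgLib.G2C
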