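import Cfsg.Agent.Lib.G2C.SB
import Cfsg.Agent.Lib.BG.S1_2
import Cfsg.Agent.Lib.Alt4.G0
import Cfsg.Agent.Lib.Alt4.N5a

/-! Package P0: the long type, stage 0 (plans/G2C2.md) -/

set_option autoImplicit false
set_option linter.unusedSectionVars false

namespace CfsgLib.G2C

open Subgroup Cfsg CfsgLib.Tech CfsgLib.StdR2 CfsgLib.Chev CfsgLib.OrthE CfsgLib.ExtraTwo
  CfsgLib.Co1Rec QuadraticMap
open scoped commutatorElement CfsgLib.BG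

variable {F : Type*} [Field F] [Fintype F] {G : Type*} [Group G] [Finite G] {ι : Γ F →* G}

theorem card_inf_sup_dvd {K A M : Subgroup G} (hKA : K ≤ 𝒩(A)) (hM : M ≤ 𝒩(A)) (h0 : K ⊓ A = ⊥) :
    Nat.card (K ⊓ (M ⊔ A) : Subgroup G) ∣ Nat.card M := by
  have h1 := BG.TI_cardMg (H := K ⊓ (M ⊔ A)) (K := A) (.inl (inf_le_left.trans hKA))
    (le_bot_iff.1 ((inf_le_inf_right A inf_le_left).trans h0.le))
  have h2 := (BG.cardSg (sup_le inf_le_right le_sup_right : K ⊓ (M ⊔ A) ⊔ A ≤ M ⊔ A)).trans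
    (BG.card_sup_dvd (.inl hM))
  rw [h1] at h2
  exact Nat.dvd_of_mul_dvd_mul_right (BG.cardG_pos A) h2

theorem le_inf_sup {K A M : Subgroup G} (hKA : K ≤ 𝒩(A)) (hM : M ≤ K ⊔ A) : M ≤ K ⊓ (M ⊔ A) ⊔ A := by
  rw [← BG.group_modr le_sup_right (.inl hKA)]
  exact le_inf hM le_sup_left

theorem two_of_dvd {P M : Subgroup G} (hM : IsPGroup 2 M) (h : Nat.card P ∣ Nat.card M) : IsPGroup 2 P := by
  obtain ⟨n, hn⟩ := IsPGroup.iff_card.1 hM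
  exact .of_card_dvd_pow (hn ▸ h)

theorem cents_of_sq {T : Subgroup G} (h : ∀ x ∈ T, x * x = 1) : T ≤ 𝒞(T) :=
  BG.cents_iff.2 fun _ hx _ hy => Alt4.commute_of_sq h hx hy

theorem sq_four {v w : G} (vv : v * v = 1) (ww : w * w = 1) (c : Commute v w) :
    ∀ x ∈ closure ({v, w} : Set G), x * x = 1 := fun x hx => by
  rcases (Alt4.mem_four vv ww c).1 hx with rfl | rfl | rfl | rfl
  exacts [mul_one 1, vv, ww, by rw [c.symm.mul_mul_mul_comm, vv, ww, mul_one]]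

theorem sq_sup {T Z : Subgroup G} (h1 : ∀ x ∈ T, x * x = 1) (h2 : ∀ x ∈ Z, x * x = 1) (hc : T ≤ 𝒞(Z)) :
    ∀ x ∈ T ⊔ Z, x * x = 1 := fun x hx => by
  obtain ⟨a, ha, b, hb, rfl⟩ := (BG.mem_sup_norm_r (BG.cents_norm hc)).1 hx
  have c : Commute a b := BG.cents_iff.1 hc a ha b hb
  rw [c.symm.mul_mul_mul_comm, h1 a ha, h2 b hb, mul_one]

theorem AA_le_cent : AA ι ≤ 𝒞(KK ι) := BG.centsC.1 le_rfl

theorem KA_norm_A : KK ι ⊔ AA ι ≤ 𝒩(AA ι) := sup_le (BG.cent_sub _) (BG.normG _)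

theorem KA_norm_K : KK ι ⊔ AA ι ≤ 𝒩(KK ι) := sup_le (BG.normG _) (BG.cents_norm AA_le_cent)

theorem commg_le_A {M T : Subgroup G} (hT : T ≤ KK ι) (hc : T ≤ 𝒞(T)) (h : M ≤ T ⊔ AA ι) : ⁅M, M⁆ ≤ AA ι := by
  rw [sup_comm] at h
  refine (BG.dergS h).trans ?_
  rw [BG.der1_cprod hT, BG.commG1.2 hc, sup_bot_eq]
  exact BG.der_sub _

theorem commg_le_K {M T : Subgroup G} (hT : T ≤ AA ι) (hc : T ≤ 𝒞(T)) (h : M ≤ KK ι ⊔ T) : ⁅M, M⁆ ≤ KK ι := by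
  refine (BG.dergS h).trans ?_
  rw [BG.der1_cprod (hT.trans AA_le_cent), BG.commG1.2 hc, sup_bot_eq]
  exact BG.der_sub _

theorem abel_of_two {V K P : Subgroup G} (hV : IsSylowIn 2 V K) (sq : ∀ v ∈ V, v * v = 1) (hP : IsPGroup 2 P)
    (hPK : P ≤ K) : P ≤ 𝒞(P) := by
  obtain ⟨c, -, hc⟩ := hV.exists_cj_le hP hPK
  exact cents_of_sq fun x hx => by
    have := sq _ (hc (conj_mem_cj.2 hx))
    rwa [conj_mul, conj_eq_one_iff] at this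

theorem ZA : ZZ ι ≤ AA ι := ZZ_le_LL.trans LL_le

namespace Emb

variable (h : Emb ι)
include h

theorem K_inf_A : KK ι ⊓ AA ι = ⊥ := le_bot_iff.1 fun _ hx => h.eq_one_KA hx.1 hx.2

theorem Z_cents : ZZ ι ≤ 𝒞(ZZ ι) := cents_of_sq fun _ => h.sqZ

theorem KZ_cent_L : KK ι ⊔ ZZ ι ≤ 𝒞(LL ι) :=
  sup_le (BG.centS LL_le) (BG.cents_iff.2 fun _ hζ _ hl => (h.LZ hl hζ).symm)

theorem sq_left {k a : G} (hk : k ∈ KK ι) (ha : a ∈ AA ι) (h2 : k * a * (k * a) = 1) : k * k = 1 := by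
  rw [(comm_KA hk ha).symm.mul_mul_mul_comm, mul_eq_one_iff_eq_inv] at h2
  exact h.eq_one_KA (mul_mem hk hk) (h2 ▸ inv_mem (mul_mem ha ha))

theorem orderOf_mul {k ζ : G} (hk : k ∈ KK ι) (k2 : k * k = 1) (hζ : ζ ∈ ZZ ι) (h1 : ζ ≠ 1) :
    orderOf (k * ζ) = 2 :=
  orderOf_two_of_mul_self (by rw [(comm_KA hk (ZA hζ)).symm.mul_mul_mul_comm, k2, h.sqZ hζ, mul_one]) fun e =>
    h1 (h.eq_one_KA (by rw [eq_inv_of_mul_eq_one_right e]; exact inv_mem hk) (ZA hζ))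

/-- a perfect subgroup of `K A` that is generated by involutions -/
theorem le_A_of_gen {M T : Subgroup G} (hM : M ≤ KK ι ⊔ AA ι) (hp : ⁅M, M⁆ = M)
    (hg : M ≤ closure {l | l ∈ M ∧ l * l = 1}) (hT : T ≤ KK ι) (hc : T ≤ 𝒞(T))
    (hk : ∀ k ∈ KK ι, ∀ a ∈ AA ι, k * k = 1 → k * a ∈ M → k ∈ T) : M ≤ AA ι := by
  refine hp.ge.trans (commg_le_A hT hc (hg.trans ((closure_le _).2 fun l hl => ?_)))
  obtain ⟨k, h1, a, h2, rfl⟩ := mem_KA.1 (hM hl.1)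
  exact mul_mem (mem_sup_left (hk k h1 a h2 (h.sq_left h1 h2 hl.2) hl.1)) (mem_sup_right h2)

theorem eq_one_of_nD (nD : ∀ g, zz ι ∉ cj g (KK ι)) {ζ g : G} (hζ : ζ ∈ ZZ ι) (hg : ζ ∈ cj g (KK ι)) :
    ζ = 1 := by
  by_contra h1
  obtain ⟨b, -, rfl⟩ := h.long_Z hζ h1
  exact nD (b⁻¹ * g) (by rw [cj_mul]; exact mem_cj.2 (by simpa using hg))

end Emb

theorem Std.le_KA (h : Std ι) {g t : G} (ht : t ∈ cj g (KK ι)) (o : orderOf t = 2) {M : Subgroup G}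
    (hp : ⁅M, M⁆ = M) (hc : ∀ m ∈ M, Commute m t) : M ≤ KK (G2C.cι g ι) ⊔ AA (G2C.cι g ι) :=
  (h.cι g).toEmb.perf_le (fun m hm => by rw [(h.cι g).norm, HH_cι]; exact h.mem_cj_H ht o (hc m hm)) hp

theorem Std.lt (h : Std ι) {g k ζ : G} (hg : g ∉ HH ι) (hk : k ∈ KK ι) (k2 : k * k = 1)
    (hζ : ζ ∈ ZZ ι) (h1 : ζ ≠ 1) (ht : k * ζ ∈ cj g (KK ι)) :
    cj g (KK ι) ⊓ HH ι ≤ KK ι ⊔ ZZ ι := by
  have e := h.toEmb
  have o := e.orderOf_mul hk k2 hζ h1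
  have hL : LL ι ≤ cj g (HH ι) := fun l hl =>
    h.mem_cj_H ht o ((comm_KA hk (LL_le hl)).symm.mul_right (e.LZ hl hζ))
  have hA : ¬ AA ι ≤ cj g (HH ι) :=
    h.not_le_H hg ht (h.KA_le_H (mul_mem (mem_sup_left hk) (mem_sup_right (ZA hζ)))) o
  have hΓ : AA ι ⊓ cj g (HH ι) ≤ 𝒩(ZZ ι) :=
    (e.max_L (le_inf LL_le hL) inf_le_left).resolve_right fun e' => hA (e'.ge.trans inf_le_right)
  have hN : cj g (HH ι) = 𝒩(cj g (KK ι)) := cj_normalizer _ _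
  have hB : LL ι ⊓ cj g (KK ι) ≤ ZZ ι :=
    e.normal_le_Z inf_le_left (BG.normsI (BG.normG _) (hL.trans hN.le)) fun b hb b2 => by
      by_contra hn
      have ob : orderOf b = 2 := orderOf_two_of_mul_self b2 fun e' => hn (e' ▸ one_mem _)
      exact hA (e.gen_top (LL_le hb.1) ob hn hL fun c _ hc => h.mem_cj_H hb.2 ob hc)
  have hD : ⁅AA ι ⊓ cj g (HH ι), AA ι ⊓ cj g (HH ι)⁆ = LL ι :=
    le_antisymm (commutator_le.2 fun a ha b hb => e.comm_NZ ha.1 (hΓ ha) hb.1 (hΓ hb))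
      (e.perfL.ge.trans (BG.dergS (le_inf LL_le hL)))
  have hY : cj g (KK ι) ⊓ HH ι ≤ 𝒩(LL ι) := by
    rw [← hD]
    exact BG.norms_der1 (BG.normsI (inf_le_right.trans h.norm.ge)
      (BG.norm_of_le (inf_le_left.trans (cj_mono g le_normalizer))))
  have hC : ⁅LL ι, cj g (KK ι) ⊓ HH ι⁆ ≤ ZZ ι := (le_inf (BG.commg_subl.2 hY)
    ((BG.commgS _ inf_le_left).trans (BG.commg_subr.2 (hL.trans hN.le)))).trans hB
  intro y hy
  have hc := e.comm_of_bar fun l hl => hC (commutator_mem_commutator hl hy)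
  obtain ⟨k', h2, a, h3, rfl⟩ := mem_KA.1 (e.inner_of_Z (h.norm.ge hy.2) fun ξ hξ => hc ξ (ZZ_le_LL hξ))
  refine mul_mem (mem_sup_left h2) (mem_sup_right (e.centL h3 fun l hl => ?_))
  simpa using (comm_KA h2 (LL_le hl)).inv_left.mul_left (hc l hl)

theorem Std.nD (h : Std ι) {V : Subgroup G} (hV : IsSylowIn 2 V (KK ι)) (sq : ∀ v ∈ V, v * v = 1) (g : G) :
    zz ι ∉ cj g (KK ι) := fun hz => by
  have e := h.toEmb
  have e' := (h.cι g).toEmb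
  have hR : RA ι ≤ KK (G2C.cι g ι) ⊔ AA (G2C.cι g ι) :=
    RA_le_LL.trans (h.le_KA hz e.orderOf_zz e.perfL fun l hl => e.LZ hl zz_mem)
  have h1 := two_of_dvd e.twoR (card_inf_sup_dvd (BG.cent_sub _) (hR.trans KA_norm_A) e'.K_inf_A)
  have h2 := commg_le_A inf_le_left (abel_of_two (hV.cj g) (Alt4.sq_cj sq g) h1 (KK_cι (ι := ι) g ▸ inf_le_left))
    (le_inf_sup (BG.cent_sub _) hR)
  obtain ⟨r, hr, s, hs, e1⟩ := e.exists_commR zz_mem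
  exact e.zz_ne (e'.eq_one_KA (KK_cι (ι := ι) g ▸ hz) (e1 ▸ h2 (commutator_mem_commutator hr hs)))

theorem exists_O {V K : Subgroup G} (hV : IsSylowIn 2 V K) (hc : V ≤ 𝒞(V)) : ∃ O, O ≤ K ⊓ 𝒞(V) ∧
    Odd (Nat.card O) ∧ ∀ k ∈ K ⊓ 𝒞(V), ∃ v ∈ V, ∃ o ∈ O, k = v * o := by
  have h1 := (hV.of_le (le_inf hV.le hc) inf_le_left).not_dvd
  obtain ⟨n, hn⟩ := IsPGroup.iff_card.1 hV.pgroup
  obtain ⟨O, hO⟩ := BG.SchurZassenhaus_split (K := V) (M := K ⊓ 𝒞(V))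
    ⟨le_inf hV.le hc, hn ▸ ((Nat.Prime.coprime_iff_not_dvd Nat.prime_two).2 h1).pow_left n⟩
    (BG.cents_norm inf_le_right)
  exact ⟨O, hO.le_right, hO.index ▸ Nat.odd_iff.2 (Nat.two_dvd_ne_zero.1 h1), fun k hk => hO.mem hk⟩

theorem Std.exists_S0 (h : Std ι) : ∃ V O n, S0 ι V O n := by
  have e := h.toEmb
  obtain ⟨g, hg, k, hk, k2, ht⟩ := h.exists_long
  have ot := e.orderOf_mul hk k2 zz_mem e.zz_ne
  have htKA : k * zz ι ∈ KK ι ⊔ AA ι := mul_mem (mem_sup_left hk) (mem_sup_right (ZA zz_mem))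
  obtain ⟨y, hy1, hy2, oy, yne, yc⟩ := h.four_of_inner hg ht ot htKA
  have t2 := mul_self_of_orderOf_two ot
  have y2 := mul_self_of_orderOf_two oy
  obtain ⟨T, hT, hT0⟩ := exists_isSylowIn_ge (H := cj g (KK ι) ⊓ HH ι) (Alt4.two_four y2 t2 yc)
    ((closure_le _).2 (Set.pair_subset ⟨hy1, hy2⟩ ⟨ht, h.KA_le_H htKA⟩))
  have hTKZ : T ≤ KK ι ⊔ ZZ ι := hT.le.trans (h.lt hg hk k2 zz_mem e.zz_ne ht)
  have hTK : T ⊓ KK ι = ⊥ := le_bot_iff.1 fun u hu => by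
    obtain ⟨j, hj⟩ := isPGroup_iff_mem.1 hT.pgroup u hu.1
    exact eq_one_of_two h.ti hg hu.2 (hT.le hu.1).1 hj
  have c0 := Alt4.card_four y2 t2 yc (ne_one_of_orderOf_two oy) (ne_one_of_orderOf_two ot) yne
  have hZK : ZZ ι ≤ 𝒩(KK ι) := BG.cents_norm (ZA.trans AA_le_cent)
  have hTe : closure {y, k * zz ι} = T := BG.eq_of_le_card hT0 (by
    have h1 := BG.TI_cardMg (H := T) (K := KK ι) (.inl (hT.le.trans inf_le_right)) hTK
    have h2 := (BG.cardSg (sup_le hTKZ le_sup_left : T ⊔ KK ι ≤ KK ι ⊔ ZZ ι)).trans (BG.card_sup_dvd (.inr hZK))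
    rw [h1, mul_comm, e.cardZ] at h2
    exact c0 ▸ Nat.le_of_dvd (by norm_num) (Nat.dvd_of_mul_dvd_mul_left (BG.cardG_pos _) h2))
  have cT : Nat.card T = 4 := hTe ▸ c0
  have sqT : ∀ u ∈ T, u * u = 1 := hTe ▸ sq_four y2 t2 yc
  have htT : k * zz ι ∈ T := hT0 (subset_closure (by simp))
  have hTL : T ≤ 𝒞(LL ι) := hTKZ.trans e.KZ_cent_L
  have hTZ : T ≤ 𝒞(ZZ ι) := hTL.trans (BG.centS ZZ_le_LL)
  have sqE := sq_sup sqT (fun _ => e.sqZ) hTZ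
  have hE := cents_of_sq sqE
  have hPE : KK ι ⊓ (T ⊔ ZZ ι) ⊔ ZZ ι = T ⊔ ZZ ι := le_antisymm (sup_le inf_le_right le_sup_right)
    (sup_le (le_inf_sup (BG.cents_norm (BG.centS ZA)) hTKZ) le_sup_right)
  obtain ⟨R, R0, hR, hPR, -, hR0, cR0, -, hC⟩ := exists_R0 (P := KK ι ⊓ (T ⊔ ZZ ι)) h.ti hg hT
    (fun e0 => ne_one_of_orderOf_two ot (by simpa [e0] using htT))
    (Alt4.two_of_sq fun x hx => sqE x hx.2) inf_le_left (BG.cents_norm (BG.centSS le_sup_left inf_le_right hE))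
  have hP0 : KK ι ⊓ (T ⊔ ZZ ι) ≤ R0 := fun x hx =>
    hC _ htT ot x (hPR hx) (BG.cents_iff.1 hE x hx.2 _ (mem_sup_left htT))
  have hPe : T ⊓ ZZ ι = ⊥ → KK ι ⊓ (T ⊔ ZZ ι) = R0 := fun h0 => BG.eq_of_le_card hP0 (by
    have h1 := BG.card_sup_dvd (H := KK ι ⊓ (T ⊔ ZZ ι)) (K := ZZ ι)
      (.inl (inf_le_left.trans (BG.cents_norm (BG.centS ZA))))
    rw [hPE, BG.TI_cardMg (.inl (BG.cents_norm hTZ)) h0] at h1
    exact cR0 ▸ Nat.le_of_dvd (BG.cardG_pos _) (Nat.dvd_of_mul_dvd_mul_right (BG.cardG_pos _) h1))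
  have hRR : R0 = R := le_antisymm hR0 (by
    by_cases h0 : T ⊓ ZZ ι = ⊥
    · obtain ⟨c, hc, oc, cc⟩ := exists_mem_center_of_normalized hR.pgroup le_rfl le_normalizer
        (BG.subG1_contra hR0 (BG.cardG_gt1.1 (by omega)))
      have hkR : k ∈ R := hPR ⟨hk, by
        simpa using mul_mem (mem_sup_left htT) (inv_mem (mem_sup_right zz_mem) : _ ∈ T ⊔ ZZ ι)⟩
      have h1 : c ∈ R0 := hC _ htT ot c hc
        ((show Commute c k from (cc k hkR).symm).mul_right (comm_KA (hR.le hc) (ZA zz_mem)))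
      obtain ⟨u, hu, ζ, hζ, rfl⟩ := (BG.mem_sup_norm_r (BG.cents_norm hTZ)).1 ((hPe h0).ge h1).2
      refine fun r hr => hC u hu (orderOf_two_of_mul_self (sqT u hu) ?_) r hr ?_
      · rintro rfl
        exact ne_one_of_orderOf_two oc (e.eq_one_KA (hR.le hc) (by simpa using ZA hζ))
      · simpa using ((show Commute r (u * ζ) from cc r hr).mul_right (comm_KA (hR.le hr) (ZA hζ)).inv_right).eq
    · obtain ⟨u, hu, u1⟩ := BG.exists_ne_one_of_ne_bot h0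
      exact fun r hr => hC u hu.1 (orderOf_two_of_mul_self (sqT u hu.1) u1) r hr (comm_KA (hR.le hr) (ZA hu.2)))
  subst hRR
  have cR : Nat.card R0 = 4 := cR0.trans cT
  have sqR : ∀ v ∈ R0, v * v = 1 := by
    obtain ⟨v, hv, w, hw, ov, ow, ne, c⟩ := h.four
    have v2 := mul_self_of_orderOf_two ov
    have w2 := mul_self_of_orderOf_two ow
    obtain ⟨d, -, hd⟩ := hR.exists_cj_le (Alt4.two_four v2 w2 c) ((closure_le _).2 (Set.pair_subset hv hw))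
    rw [← BG.eq_of_le_card hd (by
      rw [card_cj, Alt4.card_four v2 w2 c (ne_one_of_orderOf_two ov) (ne_one_of_orderOf_two ow) ne, cR])]
    exact Alt4.sq_cj (sq_four v2 w2 c) d
  have nD := h.nD hR sqR
  have h0 : T ⊓ ZZ ι = ⊥ := le_bot_iff.1 fun u hu => e.eq_one_of_nD nD hu.2 (hT.le hu.1).1
  rw [hPe h0] at hPE
  have hT' : IsSylowIn 2 T (cj g (KK ι)) :=
    (hR.cj g).of_card_le hT.pgroup (hT.le.trans inf_le_left) (by rw [card_cj, cR0])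
  obtain ⟨c, hc, hcT⟩ := (hR.cj g).exists_cj_eq hT'
  have hK1 : KK (G2C.cι (c * g) ι) = cj g (KK ι) := by rw [KK_cι, cj_mul, cj_eq_of_mem hc]
  have e1 := (h.cι (c * g)).toEmb
  have hLA : LL ι ≤ AA (G2C.cι (c * g) ι) := by
    refine e1.le_A_of_gen (T := T) (h.le_KA (by rw [← KK_cι, hK1]; exact ht) ot e.perfL
      fun l hl => (BG.cents_iff.1 hTL _ htT l hl).symm) e.perfL e.genL (hK1 ▸ hT'.le) (cents_of_sq sqT)
      fun k' hk' a ha h2 hl => zpowers_le.1 (hT'.le_of_normalizes (isPGroup_two_zpowers h2)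
        (zpowers_le.2 (hK1 ▸ hk')) (BG.cents_norm (zpowers_le.2 (BG.mem_cent_iff.2 fun u hu => ?_))))
    simpa using ((show Commute u (k' * a) from BG.cents_iff.1 hTL u hu _ hl).mul_right
      (comm_KA (hK1 ▸ hT'.le hu) ha).inv_right).eq
  obtain ⟨a, ha, hZ, hL⟩ := e1.exists_cj_Z e hLA
  rw [ZZ_cι, ← cj_mul] at hZ
  rw [LL_cι, ← cj_mul] at hL
  have hV : cj (a * (c * g)) R0 = T := by
    rw [cj_mul, cj_mul, hcT]
    exact Alt4.cj_eq_of_comm fun u hu => comm_KA (hK1 ▸ hT'.le hu) ha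
  obtain ⟨O, hO, odd, cV⟩ := exists_O hR (cents_of_sq sqR)
  refine ⟨R0, O, a * (c * g), h, hR, cR, sqR, nD, fun hn => ?_, mem_normalizer_iff_cj.2 (by rw [cj_sup, hV, hZ, EE, hPE]),
    mem_normalizer_iff_cj.2 hZ, mem_normalizer_iff_cj.2 hL, hO.trans inf_le_left, odd,
    fun o ho v hv => ((hO ho).2 v hv).symm, fun k' h1 h2 => cV k' ⟨h1, fun v hv => (h2 v hv).eq.symm⟩⟩
  have h1 : T ≤ KK ι := hV ▸ (cj_mono _ hR.le).trans (mem_normalizer_iff_cj.1 hn).le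
  exact ne_one_of_orderOf_two ot (hTK.le ⟨htT, h1 htT⟩)

end CfsgLib.G2C
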