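import Cfsg.Agent.Lib.G2C.Zero
import Cfsg.Agent.Lib.Coprime.Action

/-! Package P1: the group S of order 64 (plans/G2C2.md) -/

set_option autoImplicit false
set_option linter.unusedSectionVars false

namespace CfsgLib.G2C

open Subgroup Cfsg CfsgLib.Tech CfsgLib.StdR2 CfsgLib.Chev CfsgLib.OrthE CfsgLib.ExtraTwo
  CfsgLib.Co1Rec QuadraticMap
open scoped commutatorElement

variable {F : Type*} [Field F] [Fintype F] {G : Type*} [Group G] [Finite G] {ι : Γ F →* G}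

namespace P1

/-- the elements of `N(Y)` that centralise `X` modulo `Y` -/
def cmod (X Y : Subgroup G) : Subgroup G where
  carrier := {y | y ∈ normalizer (Y : Set G) ∧ ∀ x ∈ X, ⁅y, x⁆ ∈ Y}
  one_mem' := ⟨one_mem _, fun x _ => by simp⟩
  mul_mem' := fun {a b} ha hb => ⟨mul_mem ha.1 hb.1, fun x hx => by
    have := mul_mem (conj_mem_of_mem_normalizer ha.1 (hb.2 x hx)) (ha.2 x hx)
    rwa [show a * ⁅b, x⁆ * a⁻¹ * ⁅a, x⁆ = ⁅a * b, x⁆ by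
      simp only [commutatorElement_def]; group] at this⟩
  inv_mem' := fun {a} ha => ⟨inv_mem ha.1, fun x hx => by
    have := conj_mem_of_mem_normalizer' ha.1 (inv_mem (ha.2 x hx))
    rwa [show a⁻¹ * ⁅a, x⁆⁻¹ * a = ⁅a⁻¹, x⁆ by
      simp only [commutatorElement_def]; group] at this⟩

theorem conj_mem_cmod {X Y : Subgroup G} {g y : G} (h1 : g ∈ normalizer (X : Set G))
    (h2 : g ∈ normalizer (Y : Set G)) (hy : y ∈ cmod X Y) : g * y * g⁻¹ ∈ cmod X Y :=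
  ⟨mul_mem (mul_mem h2 hy.1) (inv_mem h2), fun x hx => by
    have := conj_mem_of_mem_normalizer h2 (hy.2 _ (conj_mem_of_mem_normalizer' h1 hx))
    rwa [show g * ⁅y, g⁻¹ * x * g⁆ * g⁻¹ = ⁅g * y * g⁻¹, x⁆ by
      simp only [commutatorElement_def]; group] at this⟩

theorem conj_mem_cent {X : Subgroup G} {g y : G} (h1 : g ∈ normalizer (X : Set G))
    (hy : y ∈ centralizer (X : Set G)) : g * y * g⁻¹ ∈ centralizer (X : Set G) := by
  rw [← mem_normalizer_iff_cj.1 h1, ← cj_centralizer]; exact conj_mem_cj.2 hy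

theorem mem_cent {X : Subgroup G} {y : G} :
    y ∈ centralizer (X : Set G) ↔ ∀ x ∈ X, Commute y x :=
  ⟨fun h a ha => (h a ha).symm, fun h a ha => (h a ha).eq.symm⟩

theorem exists_mul_of_two {T Y C : Subgroup G} (hS : IsSylowIn 2 T Y)
    (hn : Y ≤ normalizer (C : Set G)) (h2 : ∀ y ∈ Y, ∃ k : ℕ, y ^ 2 ^ k ∈ C) {y : G} (hy : y ∈ Y) :
    ∃ d ∈ C, ∃ s ∈ T, y = d * s := by
  have hN : (C.subgroupOf Y).Normal := normal_subgroupOf_of_le_normalizer hn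
  have hQ : IsPGroup 2 (Y ⧸ C.subgroupOf Y) := fun q => by
    obtain ⟨q, rfl⟩ := QuotientGroup.mk_surjective q
    obtain ⟨k, hk⟩ := h2 q q.2
    exact ⟨k, by rw [← QuotientGroup.mk_pow, QuotientGroup.eq_one_iff]; exact hk⟩
  have htop : (hS.toSylow : Subgroup Y) ⊔ C.subgroupOf Y = ⊤ := by
    obtain ⟨k, hk⟩ := IsPGroup.iff_card.mp hQ
    have h3 : ((hS.toSylow : Subgroup Y) ⊔ C.subgroupOf Y).index ∣ 2 ^ k :=
      hk ▸ index_dvd_of_le le_sup_right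
    have h4 := (Nat.prime_two.coprime_iff_not_dvd.mpr hS.toSylow.not_dvd_index).pow_left k
    exact index_eq_one.mp (Nat.eq_one_of_dvd_coprimes h4 h3 (index_dvd_of_le le_sup_left))
  rw [sup_comm] at htop
  obtain ⟨d, hd, s, hs, e⟩ := mem_sup_of_normal_left.mp (htop.ge (mem_top (⟨y, hy⟩ : Y)))
  exact ⟨d, hd, s, hS.mem_toSylow.mp hs, (congrArg Subtype.val e).symm⟩

theorem eq_one_of_odd {O : Subgroup G} (hO : Odd (Nat.card O)) {o : G} (ho : o ∈ O) {k : ℕ}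
    (h : o ^ 2 ^ k = 1) : o = 1 := by
  have h1 := orderOf_dvd_of_pow_eq_one h
  have h2 : orderOf o ∣ Nat.card O := by
    rw [← orderOf_mk o ho]; exact orderOf_dvd_natCard _
  exact orderOf_eq_one_iff.1 (Nat.eq_one_of_dvd_coprimes
    ((Nat.coprime_two_left.2 hO).pow_left k) h1 h2)

theorem tau_cmod (h : Emb ι) {τ : G} (hτ : Tau ι τ) : τ ∈ cmod (LL ι) (RA ι) :=
  ⟨hτ.nR, fun l hl => by
    obtain ⟨r, hr, a, ha, rfl⟩ := h.mem_LL.1 hl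
    have := mul_mem (conj_mem_of_mem_normalizer hτ.nR hr) (inv_mem hr)
    rwa [show τ * r * τ⁻¹ * r⁻¹ = ⁅τ, r * a⁆ by
      rw [commutatorElement_def, show τ * (r * a) * τ⁻¹ = τ * r * τ⁻¹ * (τ * a * τ⁻¹) by group,
        (hτ.c2 a ha).eq]; group] at this⟩

theorem comm_mem_of {Z : Subgroup G} {g w ζ : G} (hg : g ∈ normalizer (Z : Set G))
    (h1 : Commute g w) (h2 : ∀ ξ ∈ Z, Commute w ξ) (hζ : ζ ∈ Z) : ⁅g, w * ζ⁆ ∈ Z := by
  have h3 := mul_mem (conj_mem_of_mem_normalizer hg hζ) (inv_mem hζ)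
  have e : ⁅g, w * ζ⁆ = w * (g * ζ * g⁻¹ * ζ⁻¹) * w⁻¹ := by
    rw [commutatorElement_def, ← mul_assoc, h1.eq]; group
  rwa [e, (h2 _ h3).eq, mul_inv_cancel_right]

/-- the group `N₂` -/
def N2 (ι : Γ F →* G) (V O : Subgroup G) : Subgroup G :=
  normalizer (EE ι V : Set G) ⊓ centralizer (ZZ ι : Set G) ⊓ centralizer (O : Set G) ⊓
    cmod (EE ι V) (ZZ ι) ⊓ cmod (LL ι) (RA ι)

variable {V O R : Subgroup G} {n τ f : G}

theorem N2_NE : N2 ι V O ≤ normalizer (EE ι V : Set G) := fun _ h => h.1.1.1.1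

theorem N2_Z {y ζ : G} (hy : y ∈ N2 ι V O) (hζ : ζ ∈ ZZ ι) : Commute y ζ :=
  mem_cent.1 hy.1.1.1.2 ζ hζ

theorem N2_O {y o : G} (hy : y ∈ N2 ι V O) (ho : o ∈ O) : Commute y o := mem_cent.1 hy.1.1.2 o ho

theorem N2_E {y e : G} (hy : y ∈ N2 ι V O) (he : e ∈ EE ι V) : ⁅y, e⁆ ∈ ZZ ι := hy.1.2.2 e he

theorem N2_L {y l : G} (hy : y ∈ N2 ι V O) (hl : l ∈ LL ι) : ⁅y, l⁆ ∈ RA ι := hy.2.2 l hl

section
variable (h : S0 ι V O n)
include h

theorem mem_N2 {y : G} (h1 : y ∈ normalizer (EE ι V : Set G)) (h2 : ∀ ζ ∈ ZZ ι, Commute y ζ)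
    (h3 : ∀ o ∈ O, Commute y o) (h4 : ∀ e ∈ EE ι V, ⁅y, e⁆ ∈ ZZ ι)
    (h5 : ∀ l ∈ LL ι, ⁅y, l⁆ ∈ RA ι) : y ∈ N2 ι V O :=
  ⟨⟨⟨⟨h1, mem_cent.2 h2⟩, mem_cent.2 h3⟩, h.NE_Z h1, h4⟩, h.NE_RA h1, h5⟩

theorem NE_N2 : normalizer (EE ι V : Set G) ≤ normalizer (N2 ι V O : Set G) := fun _ hg =>
  mem_normalizer_of_forall fun _ hy =>
    ⟨⟨⟨⟨Subgroup.mul_mem _ (Subgroup.mul_mem _ hg hy.1.1.1.1) (Subgroup.inv_mem _ hg), conj_mem_cent (h.NE_Z hg) hy.1.1.1.2⟩,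
      conj_mem_cent (h.NE_O hg) hy.1.1.2⟩, conj_mem_cmod hg (h.NE_Z hg) hy.1.2⟩,
      conj_mem_cmod (h.NE_L hg) (h.NE_RA hg) hy.2⟩

theorem mem_N2_of_cent {y : G} (h1 : ∀ e ∈ EE ι V, Commute y e) (h3 : ∀ o ∈ O, Commute y o)
    (h5 : ∀ l ∈ LL ι, ⁅y, l⁆ ∈ RA ι) : y ∈ N2 ι V O :=
  mem_N2 h (centralizer_le_normalizer _ (mem_cent.2 h1)) (fun ζ hζ => h1 ζ (mem_sup_right hζ)) h3
    (fun e he => by rw [commutatorElement_eq_one_iff_commute.2 (h1 e he)]; exact one_mem _) h5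

theorem L_E {l e : G} (hl : l ∈ LL ι) (he : e ∈ EE ι V) : Commute l e :=
  h.cE.2 ⟨1, one_mem _, 1, one_mem _, l, hl, by simp⟩ e he

theorem K_cmod {k l : G} (hk : k ∈ KK ι) (hl : l ∈ LL ι) : ⁅k, l⁆ ∈ RA ι := by
  rw [commutatorElement_eq_one_iff_commute.2 (comm_KA hk (LL_le hl))]; exact one_mem _

theorem RA_N2 : RA ι ≤ N2 ι V O := fun r hr =>
  mem_N2_of_cent h (fun _ he => L_E h (RA_le_LL hr) he)
    (fun _ ho => (comm_KA (h.OK ho) (LL_le (RA_le_LL hr))).symm) fun l hl => by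
      have := mul_mem hr (conj_mem_of_mem_normalizer (h.LR hl) (inv_mem hr))
      rwa [show r * (l * r⁻¹ * l⁻¹) = ⁅r, l⁆ by rw [commutatorElement_def]; group] at this

theorem E_N2 : EE ι V ≤ N2 ι V O :=
  sup_le (fun v hv => mem_N2_of_cent h (fun _ he => h.commE (mem_sup_left hv) he)
    (fun o ho => (h.OV o ho v hv).symm) fun _ hl => K_cmod h (h.VK hv) hl)
    (ZZ_le_RA.trans (RA_N2 h))

theorem ZO_N2 : O ⊓ centralizer (O : Set G) ≤ N2 ι V O := fun o ho =>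
  mem_N2_of_cent h (h.cE.2 ⟨1, one_mem _, o, ho.1, 1, one_mem _, by simp⟩) (mem_cent.1 ho.2)
    fun _ hl => K_cmod h (h.OK ho.1) hl

theorem ker {y v : G} (hy : y ∈ N2 ι V O) (hv : v ∈ V) (v1 : v ≠ 1) (hc : Commute y v) :
    ∃ w ∈ V, ∃ o ∈ O ⊓ centralizer (O : Set G), ∃ r ∈ RA ι, y = w * o * r := by
  have hH := h.mem_H_of_comm (h.VK hv) (h.orderOf_V hv v1) hc
  have hV := h.HE_V hH (N2_NE hy)
  have h1 : ∀ e ∈ EE ι V, Commute y e := by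
    intro e he
    obtain ⟨w, hw, ζ, hζ, rfl⟩ := h.mem_E.1 he
    refine Commute.mul_right (commutatorElement_eq_one_iff_commute.1 (h.eq_one_KA (h.VK ?_)
      (XX_le 11 (N2_E hy (mem_sup_left hw))))) (N2_Z hy hζ)
    exact mul_mem (conj_mem_of_mem_normalizer hV hw) (inv_mem hw)
  obtain ⟨w, hw, o, ho, l, hl, rfl⟩ := h.cE.1 h1
  refine ⟨w, hw, o, ⟨ho, mem_cent.2 fun o' ho' => ?_⟩, l, h.cent_top hl fun a ha => ?_, rfl⟩
  · have h2 := ((h.OV o' ho' w hw).symm.inv_left.mul_left (N2_O hy ho')).mul_left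
      (comm_KA (h.OK ho') (LL_le hl)).symm.inv_left
    rwa [show w⁻¹ * (w * o * l) * l⁻¹ = o by group] at h2
  · have h2 := N2_L hy (A2_le_LL ha)
    have hk : w * o ∈ KK ι := mul_mem (h.VK hw) (h.OK ho)
    have h3 := comm_KA hk (LL_le (mul_mem (mul_mem hl (A2_le_LL ha)) (inv_mem hl)))
    rwa [show ⁅w * o * l, a⁆ = w * o * (l * a * l⁻¹) * (w * o)⁻¹ * a⁻¹ by
      rw [commutatorElement_def]; group, h3.eq, mul_inv_cancel_right] at h2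

theorem sq_comm {y v : G} (hy : y ∈ N2 ι V O) (hv : v ∈ V) : Commute (y * y) v := by
  have h1 := N2_E hy (mem_sup_left hv)
  rw [← commutatorElement_eq_one_iff_commute, show ⁅y * y, v⁆ = y * ⁅y, v⁆ * y⁻¹ * ⁅y, v⁆ by
    simp only [commutatorElement_def]; group, (N2_Z hy h1).eq, mul_inv_cancel_right]
  exact h.sqZ h1

theorem exists_v : ∃ v ∈ V, v ≠ 1 := by
  have : V ≠ ⊥ := fun e => by have := h.cardV; rw [e, card_bot] at this; omega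
  obtain ⟨⟨a, ha⟩, h1⟩ := ne_bot_iff_exists_ne_one.mp this
  exact ⟨a, ha, fun e => h1 (Subtype.ext e)⟩

theorem pow_mem {y : G} (hy : y ∈ N2 ι V O) : y ^ 2 ^ 3 ∈ O ⊓ centralizer (O : Set G) := by
  obtain ⟨v, hv, v1⟩ := exists_v h
  obtain ⟨w, hw, o, ho, r, hr, e⟩ := ker h (mul_mem hy hy) hv v1 (sq_comm h hy hv)
  have hA := LL_le (RA_le_LL hr)
  have p4 : ∀ x : G, x ^ 4 = x * x * (x * x) := fun x => by simp [pow_succ, mul_assoc]
  have e1 : w ^ 4 = 1 := by rw [p4, h.sqV w hw, one_mul]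
  have e2 : r ^ 4 = 1 := by rw [p4, h.sqZ (h.sqR hr)]
  rw [show y ^ 2 ^ 3 = (y * y) ^ 4 by rw [← pow_two, ← pow_mul]; rfl, e,
    (comm_KA (mul_mem (h.VK hw) (h.OK ho.1)) hA).mul_pow, (h.OV o ho.1 w hw).symm.mul_pow, e1, e2,
    one_mul, mul_one]
  exact Subgroup.pow_mem _ ho 4

theorem N2_R (hR : IsSylowIn 2 R (N2 ι V O)) : N2 ι V O ≤ normalizer (R : Set G) := by
  intro y hy
  obtain ⟨d, hd, s, hs, rfl⟩ := exists_mul_of_two hR (C := O ⊓ centralizer (O : Set G))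
    (fun y hy => centralizer_le_normalizer _ (mem_cent.2 fun o ho => N2_O hy ho.1))
    (fun y hy => ⟨3, pow_mem h hy⟩) hy
  exact mul_mem (centralizer_le_normalizer _ (mem_cent.2 fun r hr => (N2_O (hR.le hr) hd.1).symm))
    (le_normalizer hs)

theorem NE_R (hR : IsSylowIn 2 R (N2 ι V O)) :
    normalizer (EE ι V : Set G) ≤ normalizer (R : Set G) := by
  intro g hg
  have h1 := hR.cj_of_mem_normalizer (NE_N2 h hg)
  exact mem_normalizer_of_cj_le (hR.le_of_normalizes h1.pgroup h1.le (h1.le.trans (N2_R h hR)))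

theorem twoE : IsPGroup 2 (EE ι V) := IsPGroup.of_card (n := 4) h.cardE

theorem E_R (hR : IsSylowIn 2 R (N2 ι V O)) : EE ι V ≤ R :=
  hR.le_of_le_normalizer (twoE h) (E_N2 h) N2_NE

theorem RA_R (hR : IsSylowIn 2 R (N2 ι V O)) : RA ι ≤ R :=
  hR.le_of_le_normalizer h.twoR (RA_N2 h) (N2_NE.trans h.NE_RA)

theorem kerR (hR : IsSylowIn 2 R (N2 ι V O)) {y v : G} (hy : y ∈ R) (hv : v ∈ V) (v1 : v ≠ 1)
    (hc : Commute y v) : ∃ w ∈ V, ∃ r ∈ RA ι, y = w * r := by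
  obtain ⟨w, hw, o, ho, r, hr, rfl⟩ := ker h (hR.le hy) hv v1 hc
  have h1 := mul_mem (mul_mem (inv_mem (E_R h hR (mem_sup_left hw))) hy) (inv_mem (RA_R h hR hr))
  rw [show w⁻¹ * (w * o * r) * r⁻¹ = o by group] at h1
  obtain ⟨k, hk⟩ := isPGroup_iff_mem.1 hR.pgroup o h1
  exact ⟨w, hw, r, hr, by rw [eq_one_of_odd h.odd ho.1 hk, mul_one]⟩

theorem exists_b0 (hτ : Tau ι τ) {v : G} (hv : v ∈ V) (v1 : v ≠ 1) :
    ∃ b ∈ N2 ι V O, ¬ Commute b v ∧ ∀ o ∈ Os ι V, Commute b o := by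
  have k := h.toEmb.cι n
  have hτ1 := hτ.cι n
  have eZ : ZZ (cι n ι) = ZZ ι := by rw [ZZ_cι, mem_normalizer_iff_cj.1 h.nZ]
  have eL : LL (cι n ι) = LL ι := by rw [LL_cι, mem_normalizer_iff_cj.1 h.nL]
  have eR : RA (cι n ι) = RA ι := by rw [RA_cι, mem_normalizer_iff_cj.1 (h.NE_RA h.nE)]
  have hs := hτ.s_mem
  have s1 := Tau.s_ne_one h.toEmb τ
  have sz := hτ.s_ne h.toEmb
  obtain ⟨i, hi⟩ := hτ1.trans k (eZ ▸ zz_mem) h.zz_ne (eZ ▸ hs) s1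
  have hτE := h.tau_NE hτ
  have hσE : (n * τ * n⁻¹) ^ i ∈ normalizer (EE ι V : Set G) :=
    Subgroup.pow_mem _ (mul_mem (mul_mem h.nE hτE) (inv_mem h.nE)) i
  have hσ3 : ((n * τ * n⁻¹) ^ i) ^ 3 = 1 := by rw [← pow_mul, mul_comm, pow_mul, hτ1.cube, one_pow]
  have hσA : (n * τ * n⁻¹) ^ i ∈ AA (cι n ι) := Subgroup.pow_mem _ hτ1.memA i
  have hσL : (n * τ * n⁻¹) ^ i ∈ cmod (LL ι) (RA ι) := by
    rw [← eL, ← eR]; exact Subgroup.pow_mem _ (tau_cmod k hτ1) i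
  generalize (n * τ * n⁻¹) ^ i = σ at hi hσE hσ3 hσA hσL
  have hσK : ∀ w ∈ cj n (KK ι), Commute σ w := fun w hw =>
    (comm_KA (ι := cι n ι) (by rw [KK_cι]; exact hw) hσA).symm
  have hτK : ∀ w ∈ KK ι, Commute τ w := fun w hw => (comm_KA hw hτ.memA).symm
  have hc := hτ.s_conj h.toEmb
  set s := τ * zz ι * τ⁻¹ with hsd
  have h2 : σ * s * σ⁻¹ = zz ι * s := by
    rcases (h.mem_ZZ hs s1 sz).1 (conj_mem_of_mem_normalizer (h.NE_Z hσE) hs) with e | e | e | e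
    · exact absurd (by simpa using e) s1
    · exfalso
      apply sz
      have e1 : σ * σ * zz ι * (σ * σ)⁻¹ = zz ι := by
        rw [show σ * σ * zz ι * (σ * σ)⁻¹ = σ * (σ * zz ι * σ⁻¹) * σ⁻¹ by group, hi, e]
      have e2 : σ * σ * (σ * σ) = σ := by
        rw [show σ * σ * (σ * σ) = σ ^ 3 * σ by simp [pow_succ, mul_assoc], hσ3, one_mul]
      have e3 : σ * σ * (σ * σ) * zz ι * (σ * σ * (σ * σ))⁻¹ = zz ι := by
        rw [show σ * σ * (σ * σ) * zz ι * (σ * σ * (σ * σ))⁻¹ =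
          σ * σ * (σ * σ * zz ι * (σ * σ)⁻¹) * (σ * σ)⁻¹ by group, e1, e1]
      rw [e2] at e3
      exact hi.symm.trans e3
    · exfalso
      apply sz
      have e1 : σ * s * σ⁻¹ = σ * zz ι * σ⁻¹ := e.trans hi.symm
      simpa using e1
    · exact e
  have bz : Commute (τ⁻¹ * σ) (zz ι) := by
    have : τ⁻¹ * σ * zz ι * (τ⁻¹ * σ)⁻¹ = zz ι := by
      rw [show τ⁻¹ * σ * zz ι * (τ⁻¹ * σ)⁻¹ = τ⁻¹ * (σ * zz ι * σ⁻¹) * τ by group, hi, hsd]; group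
    exact mul_inv_eq_iff_eq_mul.1 this
  have bs : Commute (τ⁻¹ * σ) s := by
    have : τ⁻¹ * σ * s * (τ⁻¹ * σ)⁻¹ = s := by
      rw [show τ⁻¹ * σ * s * (τ⁻¹ * σ)⁻¹ = τ⁻¹ * (σ * s * σ⁻¹) * τ by group, h2, ← hc]; group
    exact mul_inv_eq_iff_eq_mul.1 this
  have bZ : ∀ ζ ∈ ZZ ι, Commute (τ⁻¹ * σ) ζ := by
    intro ζ hζ
    rcases (h.mem_ZZ hs s1 sz).1 hζ with rfl | rfl | rfl | rfl
    exacts [Commute.one_right _, bz, bs, bz.mul_right bs]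
  have bO : ∀ o ∈ Os ι V, Commute (τ⁻¹ * σ) o := fun o ho =>
    (hτK o (Os_le ho)).inv_left.mul_left (hσK o (Os_le_cj h.nE ho))
  have hτc : τ ∈ cmod (EE ι V) (ZZ ι) := ⟨hτ.nZ, fun e he => by
    obtain ⟨w, hw, ζ, hζ, rfl⟩ := h.mem_E.1 he
    exact comm_mem_of hτ.nZ (hτK w (h.VK hw))
      (fun ξ hξ => h.commE (mem_sup_left hw) (mem_sup_right hξ)) hζ⟩
  have hσc : σ ∈ cmod (EE ι V) (ZZ ι) := ⟨h.NE_Z hσE, fun e he => by
    obtain ⟨w, hw, ζ, hζ, rfl⟩ := h.mem_E.1 he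
    by_cases w1 : w = 1
    · subst w1
      exact comm_mem_of (h.NE_Z hσE) (Commute.one_right _) (fun ξ _ => Commute.one_left _) hζ
    obtain ⟨ξ, hξ, -, h3⟩ := h.graph h.nE h.nH hw w1
    rw [show w * ζ = w * ξ * (ξ⁻¹ * ζ) by group]
    exact comm_mem_of (h.NE_Z hσE) (hσK _ (cj_mono n h.VK h3))
      (fun ξ' hξ' => h.commE (mul_mem (mem_sup_left hw) (mem_sup_right hξ)) (mem_sup_right hξ'))
      (mul_mem (inv_mem hξ) hζ)⟩
  refine ⟨τ⁻¹ * σ, mem_N2 h (mul_mem (inv_mem hτE) hσE) bZ (fun o ho => bO o (h.O_le_Os ho))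
    (mul_mem (inv_mem hτc) hσc).2 (mul_mem (inv_mem (tau_cmod h.toEmb hτ)) hσL).2, fun hb => ?_, bO⟩
  obtain ⟨ξ, hξ, ξ1, h3⟩ := h.graph h.nE h.nH hv v1
  have h4 := (hb.mul_right (bZ ξ hξ)).mul_left (hσK _ (cj_mono n h.VK h3)).inv_left
  rw [mul_inv_cancel_right] at h4
  have h5 := (hτK v (h.VK hv)).inv_right.mul_right (Commute.inv_left_iff.1 h4)
  rw [inv_mul_cancel_left] at h5
  exact ξ1 (hτ.fZ ξ hξ h5)

theorem exists_c0 (hR : IsSylowIn 2 R (N2 ι V O)) (hτ : Tau ι τ) {v : G} (hv : v ∈ V) (v1 : v ≠ 1) :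
    ∃ c ∈ R, ¬ Commute c v ∧ ∀ o ∈ Os ι V, Commute c o := by
  obtain ⟨b, hb, h1, h2⟩ := exists_b0 h hτ hv v1
  obtain ⟨k, hk⟩ := h.odd
  have h3 : (b ^ Nat.card O) ^ 2 ^ 3 = 1 := by
    rw [← pow_mul, mul_comm, pow_mul]
    exact congrArg Subtype.val (pow_card_eq_one' (x := (⟨_, (pow_mem h hb).1⟩ : O)))
  have h4 : zpowers (b ^ Nat.card O) ≤ N2 ι V O := zpowers_le.2 (Subgroup.pow_mem _ hb _)
  refine ⟨b ^ Nat.card O, hR.le_of_normalizes (isPGroup_zpowers_of_pow h3) h4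
    (h4.trans (N2_R h hR)) (mem_zpowers _), fun hc => h1 ?_, fun o ho => (h2 o ho).pow_left _⟩
  have h5 := ((sq_comm h hb hv).pow_left k).inv_left.mul_left hc
  rwa [hk, show ((b * b) ^ k)⁻¹ * b ^ (2 * k + 1) = b by
    rw [← pow_two, ← pow_mul, pow_succ, inv_mul_cancel_left]] at h5

end

/-- the data of the construction -/
structure Dat (ι : Γ F →* G) (V O : Subgroup G) (n τ f : G) (R : Subgroup G) : Prop
    extends S0 ι V O n where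
  tau : Tau ι τ
  five : Five ι f
  sylR : IsSylowIn 2 R (N2 ι V O)

namespace Dat

variable (h : Dat ι V O n τ f R)
include h

theorem fL : f ∈ LL ι := A2_le_LL h.five.mem

theorem SN2 {c : G} (hc : c ∈ R ⊓ centralizer {f}) : c ∈ N2 ι V O := h.sylR.le hc.1

theorem Sf {c : G} (hc : c ∈ R ⊓ centralizer {f}) : Commute c f :=
  mem_centralizer_singleton_iff.1 hc.2

theorem E_S : EE ι V ≤ R ⊓ centralizer {f} := fun _ he =>
  ⟨E_R h.toS0 h.sylR he, mem_centralizer_singleton_iff.2 (L_E h.toS0 h.fL he).symm⟩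

theorem exists_mul {y : G} (hy : y ∈ R) : ∃ r ∈ RA ι, ∃ c ∈ R ⊓ centralizer {f}, y = r * c := by
  have hf : zpowers f ≤ LL ι := zpowers_le.2 h.fL
  have h5 : IsPGroup 5 (zpowers f) := isPGroup_zpowers_of_pow (k := 1) (by simpa using h.five.pow)
  have : Fact (Nat.Prime 5) := ⟨by norm_num⟩
  obtain ⟨u, hu, c, hc, e⟩ := Coprime.exists_commutator_mul_centralizer (K := R) (A := zpowers f)
    (fun a ha => NE_R h.toS0 h.sylR (centralizer_le_normalizer _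
      (mem_cent.2 fun _ he => L_E h.toS0 (hf ha) he)))
    (IsPGroup.coprime_card_of_ne 5 2 (by norm_num) _ _ h5 h.sylR.pgroup)
    (Or.inr (Coprime.isSolvable_of_isPGroup h.sylR.pgroup)) hy
  refine ⟨u, (commutator_le.2 fun y hy a ha => N2_L (h.sylR.le hy) (hf ha)) hu, c, ⟨hc.1, ?_⟩, e⟩
  exact mem_centralizer_singleton_iff.2 (hc.2 f (mem_zpowers f)).symm

theorem mem_Z {r : G} (hr : r ∈ RA ι) (hc : Commute r f) : r ∈ ZZ ι :=
  h.five.fR r hr (by rw [commutatorElement_eq_one_iff_commute.2 hc.symm]; exact one_mem _)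

theorem mem_E' {c v : G} (hc : c ∈ R ⊓ centralizer {f}) (hv : v ∈ V) (v1 : v ≠ 1)
    (h1 : Commute c v) : c ∈ EE ι V := by
  obtain ⟨w, hw, r, hr, rfl⟩ := kerR h.toS0 h.sylR hc.1 hv v1 h1
  have h2 := (comm_KA (h.VK hw) (LL_le h.fL)).inv_left.mul_left (h.Sf hc)
  rw [inv_mul_cancel_left] at h2
  exact mul_mem (mem_sup_left hw) (mem_sup_right (h.mem_Z hr h2))

theorem τS : τ ∈ normalizer ((R ⊓ centralizer {f} : Subgroup G) : Set G) :=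
  mem_normalizer_of_forall fun c hc => ⟨conj_mem_of_mem_normalizer
    (NE_R h.toS0 h.sylR (h.tau_NE h.tau)) hc.1, mem_centralizer_singleton_iff.2
      (((h.tau.c2 f h.five.mem).mul_left (h.Sf hc)).mul_left (h.tau.c2 f h.five.mem).inv_left)⟩

theorem twoS : IsPGroup 2 (R ⊓ centralizer {f} : Subgroup G) := h.sylR.pgroup.to_le inf_le_left

theorem SR {c r : G} (hc : c ∈ R ⊓ centralizer {f}) (hr : r ∈ RA ι) : Commute c r := by
  obtain ⟨s, hs, ζ, hζ, rfl⟩ := h.five_gen h.five hr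
  refine Commute.mul_right ?_ (N2_Z (h.SN2 hc) hζ)
  have h1 := h.bar_of_two h.tau h.twoS (fun _ hc => h.NE_RA (N2_NE (h.SN2 hc)))
    (fun _ hc => h.NE_Z (N2_NE (h.SN2 hc))) (fun _ hc _ ha => N2_L (h.SN2 hc) (A2_le_LL ha)) h.τS
    c hc s hs
  have hL : ⁅f, s⁆ ∈ LL ι := by
    rw [commutatorElement_def]
    exact mul_mem (mul_mem (mul_mem h.fL (RA_le_LL hs)) (inv_mem h.fL)) (inv_mem (RA_le_LL hs))
  have e : c * ⁅f, s⁆ * c⁻¹ = ⁅f, s⁆ := by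
    rw [conjugate_commutatorElement, (h.Sf hc).eq, mul_inv_cancel_right,
      show c * s * c⁻¹ = ⁅c, s⁆ * s by rw [commutatorElement_def]; group,
      show ⁅f, ⁅c, s⁆ * s⁆ = (f * ⁅c, s⁆) * s * f⁻¹ * s⁻¹ * ⁅c, s⁆⁻¹ by
        rw [commutatorElement_def f]; group, (h.LZ h.fL h1).eq,
      show ⁅c, s⁆ * f * s * f⁻¹ * s⁻¹ * ⁅c, s⁆⁻¹ = ⁅c, s⁆ * ⁅f, s⁆ * ⁅c, s⁆⁻¹ by
        rw [commutatorElement_def f]; group, ← (h.LZ hL h1).eq, mul_inv_cancel_right]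
  exact mul_inv_eq_iff_eq_mul.1 e

theorem SL {c : G} (hc : c ∈ R ⊓ centralizer {f}) : ∀ l ∈ LL ι, Commute c l := by
  refine h.comm_of_bar fun l hl => h.centR ?_ fun r hr => ?_
  · rw [← commutatorElement_inv]; exact inv_mem (N2_L (h.SN2 hc) hl)
  · have h1 := h.SR hc (conj_mem_of_mem_normalizer' (h.LR hl) hr)
    have h2 : Commute (l * c * l⁻¹) r := by
      have := h1.map (MulAut.conj l).toMonoidHom
      simpa [mul_assoc] using this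
    exact h2.mul_left (h.SR hc hr).inv_left

theorem cenS {c : G} (hc : c ∈ R ⊓ centralizer {f}) (h1 : c ∉ EE ι V) {e : G} (he : e ∈ EE ι V)
    (h2 : Commute c e) : e ∈ ZZ ι := by
  obtain ⟨v, hv, ζ, hζ, rfl⟩ := h.mem_E.1 he
  by_cases v1 : v = 1
  · rwa [v1, one_mul]
  have h3 := h2.mul_right (N2_Z (h.SN2 hc) hζ).inv_right
  rw [mul_inv_cancel_right] at h3
  exact absurd (h.mem_E' hc hv v1 h3) h1

theorem sqS {c : G} (hc : c ∈ R ⊓ centralizer {f}) : c * c ∈ ZZ ι := by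
  by_cases h1 : c ∈ EE ι V
  · rw [h.sqE h1]; exact one_mem _
  obtain ⟨v, hv, v1⟩ := exists_v h.toS0
  exact h.cenS hc h1 (h.mem_E' (mul_mem hc hc) hv v1 (sq_comm h.toS0 (h.SN2 hc) hv))
    ((Commute.refl c).mul_right (Commute.refl c))

theorem commS {c d : G} (hc : c ∈ R ⊓ centralizer {f}) (hd : d ∈ R ⊓ centralizer {f}) :
    ⁅c, d⁆ ∈ ZZ ι := by
  have := mul_mem (mul_mem (h.sqS (mul_mem hc hd)) (conj_mem_of_mem_normalizer'
    (h.NE_Z (N2_NE (h.SN2 hd))) (inv_mem (h.sqS hc)))) (inv_mem (h.sqS hd))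
  rwa [show c * d * (c * d) * (d⁻¹ * (c * c)⁻¹ * d) * (d * d)⁻¹ = ⁅c, d⁆ by
    rw [commutatorElement_def]; group] at this

theorem exists_comm {v : G} (hv : v ∈ V) (v1 : v ≠ 1) {ζ : G} (hζ : ζ ∈ ZZ ι) :
    ∃ c ∈ R ⊓ centralizer {f}, ⁅c, v⁆ = ζ ∧ ∀ o ∈ Os ι V, Commute c o := by
  by_cases ζ1 : ζ = 1
  · exact ⟨1, one_mem _, by simp [ζ1], fun _ _ => Commute.one_left _⟩
  obtain ⟨c0, h1, h2, h3⟩ := exists_c0 h.toS0 h.sylR h.tau hv v1
  obtain ⟨r, hr, c, hc, rfl⟩ := h.exists_mul h1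
  have hA := LL_le (RA_le_LL hr)
  have h4 : ⁅c, v⁆ ≠ 1 := fun e => h2 ((comm_KA (h.VK hv) hA).symm.mul_left
    (commutatorElement_eq_one_iff_commute.1 e))
  obtain ⟨i, hi⟩ := h.tau.trans h.toEmb (N2_E (h.SN2 hc) (mem_sup_left hv)) h4 hζ ζ1
  have hK : ∀ w ∈ KK ι, Commute (τ ^ i) w := fun w hw => (comm_KA hw h.tau.memA).symm.pow_left i
  refine ⟨τ ^ i * c * (τ ^ i)⁻¹, conj_mem_of_mem_normalizer (Subgroup.pow_mem _ h.τS i) hc, ?_,
    fun o ho => ?_⟩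
  · rw [← hi, conjugate_commutatorElement, (hK v (h.VK hv)).eq, mul_inv_cancel_right]
  · have h5 := (comm_KA (Os_le ho) hA).symm.inv_left.mul_left (h3 o ho)
    rw [inv_mul_cancel_left] at h5
    exact ((hK o (Os_le ho)).mul_left h5).mul_left (hK o (Os_le ho)).inv_left

theorem comm_mul {c d v : G} (hc : c ∈ N2 ι V O) (hd : d ∈ N2 ι V O) (hv : v ∈ V) :
    ⁅c * d, v⁆ = ⁅c, v⁆ * ⁅d, v⁆ := by
  have h1 := N2_E hc (mem_sup_left hv)
  have h2 := N2_E hd (mem_sup_left hv)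
  rw [show ⁅c * d, v⁆ = c * ⁅d, v⁆ * c⁻¹ * ⁅c, v⁆ by simp only [commutatorElement_def]; group,
    (N2_Z hc h2).eq, mul_inv_cancel_right, (h.commZ h1 h2).eq]

theorem cardS : Nat.card (R ⊓ centralizer {f} : Subgroup G) = 64 := by
  obtain ⟨v, hv, v1⟩ := exists_v h.toS0
  let φ : (R ⊓ centralizer {f} : Subgroup G) →* G :=
    MonoidHom.mk' (fun c => ⁅(c : G), v⁆) fun c d => h.comm_mul (h.SN2 c.2) (h.SN2 d.2) hv
  have h1 : φ.range = ZZ ι := le_antisymm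
    (by rintro _ ⟨c, rfl⟩; exact N2_E (h.SN2 c.2) (mem_sup_left hv))
    fun ζ hζ => by
      obtain ⟨c, hc, e, -⟩ := h.exists_comm hv v1 hζ
      exact ⟨⟨c, hc⟩, e⟩
  have h2 : φ.ker = (EE ι V).subgroupOf _ := by
    ext c
    exact ⟨fun e => h.mem_E' c.2 hv v1 (commutatorElement_eq_one_iff_commute.1 e),
      fun e => commutatorElement_eq_one_iff_commute.2 (h.commE e (mem_sup_left hv))⟩
  rw [← φ.ker.card_mul_index, index_ker, h1, h2, h.cardZ,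
    Nat.card_congr (subgroupOfEquivOfLe h.E_S).toEquiv, h.cardE]

theorem SRA : R ⊓ centralizer {f} ⊓ RA ι = ZZ ι :=
  le_antisymm (fun _ hr => h.mem_Z hr.2 (h.Sf hr.1)) (le_inf (le_sup_right.trans h.E_S) ZZ_le_RA)

theorem RR_eq : RR ι (R ⊓ centralizer {f}) = R :=
  le_antisymm (sup_le inf_le_left (RA_R h.toS0 h.sylR)) fun _ hy => by
    obtain ⟨r, hr, c, hc, rfl⟩ := h.exists_mul hy
    exact mul_mem (mem_sup_right hr) (mem_sup_left hc)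

theorem cardR : Nat.card (RR ι (R ⊓ centralizer {f})) = 2 ^ 14 := by
  have := Coprime.card_sup_mul_card_inf (K := RA ι) (A := R ⊓ centralizer {f})
    fun _ hc => h.NE_RA (N2_NE (h.SN2 hc))
  rw [sup_comm (RA ι), inf_comm (RA ι), h.SRA, h.cardZ, h.cardS, h.cardRA] at this
  show Nat.card (R ⊓ centralizer {f} ⊔ RA ι : Subgroup G) = _
  omega

end Dat

theorem max (h : S0 ι V O n) (Y : Subgroup G) (h1 : IsPGroup 2 Y)
    (h2 : Y ≤ normalizer (EE ι V : Set G)) (h3 : ∀ y ∈ Y, ∀ a ∈ A2 ι, Commute y a) :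
    Nat.card Y ≤ 64 := by
  have h4 : HH ι ⊓ Y ≤ EE ι V := by
    intro y hy
    obtain ⟨k, hk, a, ha, rfl⟩ := h.centHA2 hy.1 (h3 _ hy.2)
    obtain ⟨j, hj⟩ := isPGroup_iff_mem.1 h1 _ hy.2
    have hA := A1_le ha
    rw [(comm_KA hk hA).mul_pow] at hj
    have e1 : k ^ 2 ^ j = 1 := h.eq_one_KA (Subgroup.pow_mem _ hk _) (by
      rw [eq_inv_of_mul_eq_one_left hj]; exact inv_mem (Subgroup.pow_mem _ hA _))
    rw [e1, one_mul] at hj
    have h5 : a ∈ normalizer (V : Set G) :=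
      centralizer_le_normalizer _ (mem_cent.2 fun v hv => (comm_KA (h.VK hv) hA).symm)
    have h6 : k ∈ normalizer (ZZ ι : Set G) :=
      centralizer_le_normalizer _ (mem_cent.2 fun ζ hζ => comm_KA hk (XX_le 11 hζ))
    exact mul_mem (mem_sup_left (h.mem_V hk
      ((Subgroup.mul_mem_cancel_right _ h5).1 (h.HE_V hy.1 (h2 hy.2))) e1))
      (mem_sup_right (h.sylZ.le_of_normalizes (isPGroup_zpowers_of_pow hj) (zpowers_le.2 ha)
        (zpowers_le.2 ((Subgroup.mul_mem_cancel_left _ h6).1 (h.NE_Z (h2 hy.2)))) (mem_zpowers a)))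
  have h5 := card_le_of_le h4
  have h6 := h.relIndex_le h2
  rw [h.cardE] at h5
  rw [← card_mul_relIndex' (inf_le_right : HH ι ⊓ Y ≤ Y), inf_relIndex_right]
  exact Nat.mul_le_mul h5 h6

end P1

open P1 in
theorem S0.exists_S1 {V O : Subgroup G} {n : G} (h : S0 ι V O n) : ∃ τ S, S1 ι V O n τ S := by
  obtain ⟨τ, hτ⟩ := h.exists_tau
  obtain ⟨f, hf⟩ := h.exists_five
  obtain ⟨R, hR⟩ := exists_isSylowIn 2 (N2 ι V O)
  have d : Dat ι V O n τ f R := ⟨h, hτ, hf, hR⟩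
  obtain ⟨v, hv, v1⟩ := exists_v h
  refine ⟨τ, R ⊓ centralizer {f}, h, hτ, d.twoS, d.cardS, d.E_S, fun _ hc => d.SL hc,
    fun _ hc _ ho => N2_O (d.SN2 hc) ho, fun _ hc _ hd => d.commS hc hd, fun _ hc => d.sqS hc,
    fun _ hc h1 _ he h2 => d.cenS hc h1 he h2, fun w hw w1 ζ hζ => ?_, d.τS, fun c hc h1 => ?_,
    d.RR_eq.symm ▸ NE_R h hR, fun c hc => ?_, P1.max h, fun g hg => ?_, d.SRA, d.cardR⟩
  · obtain ⟨c, hc, e, -⟩ := d.exists_comm hw w1 hζ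
    refine ⟨c, hc, ?_⟩
    rw [(h.commE (mem_sup_left hw) (mem_sup_right hζ)).eq, ← e, commutatorElement_def,
      inv_mul_cancel_right]
  · have h2 := N2_E (d.SN2 hc) (mem_sup_left hv)
    refine d.mem_E' hc hv v1 (commutatorElement_eq_one_iff_commute.1 (hτ.fZ _ h2 ?_))
    have h3 := d.comm_mul (E_N2 h h1) (d.SN2 hc) hv
    rw [commutatorElement_eq_one_iff_commute.2 (h.commE h1 (mem_sup_left hv)), one_mul,
      show ⁅τ, c⁆ * c = τ * c * τ⁻¹ by rw [commutatorElement_def]; group] at h3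
    have h4 : τ * ⁅c, v⁆ * τ⁻¹ = ⁅c, v⁆ := by
      rw [conjugate_commutatorElement, (comm_KA (h.VK hv) hτ.memA).symm.eq, mul_inv_cancel_right, h3]
    exact mul_inv_eq_iff_eq_mul.1 h4
  · have h2 := N2_E (d.SN2 hc) (mem_sup_left hv)
    obtain ⟨c', hc', e, h3⟩ := d.exists_comm hv v1 h2
    refine ⟨c⁻¹ * c', d.mem_E' (mul_mem (inv_mem hc) hc') hv v1 ?_, by rwa [mul_inv_cancel_left]⟩
    have h4 := d.comm_mul (d.SN2 hc) (d.SN2 (mul_mem (inv_mem hc) hc')) hv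
    rw [mul_inv_cancel_left, e] at h4
    exact commutatorElement_eq_one_iff_commute.1 (left_eq_mul.1 h4)
  · obtain ⟨w, hw, o, ho, l, hl, rfl⟩ := h.cE.1 fun e he => hg e (d.E_S he)
    by_cases w1 : w = 1
    · exact ⟨o, ho, l, hl, by rw [w1, one_mul]⟩
    obtain ⟨c, hc, e, -⟩ := d.exists_comm hw w1 zz_mem
    have h2 := (hg c hc).mul_left ((N2_O (d.SN2 hc) ho).mul_right (d.SL hc l hl)).symm.inv_left
    rw [show w * o * l * (o * l)⁻¹ = w by group] at h2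
    exact absurd (e ▸ commutatorElement_eq_one_iff_commute.2 h2.symm) h.zz_ne

end CfsgLib.G2C
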