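import Cfsg.Agent.Lib.G2C.Defs
import Cfsg.Agent.Lib.HJC.J2
import Cfsg.Agent.Lib.JT.Klein
import Cfsg.Agent.Lib.M24E.Prune
import Cfsg.Agent.Lib.Mathieu.Stab

/-! Package P2a: Sylow 2-subgroups of A9, M12, J2, and the involution centraliser of J2 (plans/G2C2.md) -/

set_option autoImplicit false
set_option linter.unusedSectionVars false

namespace CfsgLib.G2C

open Subgroup Cfsg CfsgLib.Tech CfsgLib.StdR2 CfsgLib.Chev CfsgLib.OrthE CfsgLib.ExtraTwo
  CfsgLib.Co1Rec QuadraticMap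
open scoped commutatorElement

variable {F : Type*} [Field F] [Fintype F] {G : Type*} [Group G] [Finite G] {ι : Γ F →* G}

theorem exists_hom_syl {J X : Type*} [Group J] [Finite J] [Group X] (e : J ≃* X) (P : Sylow 2 J) {H : Subgroup X}
    (hH : IsPGroup 2 H) : ∃ f : X ≃* J, ∀ a ∈ H, f a ∈ (P : Subgroup J) := by
  obtain ⟨g, -, hg⟩ := (IsSylowIn.of_sylow_top P).exists_cj_le (hH.map e.symm.toMonoidHom) le_top
  exact ⟨e.symm.trans (MulAut.conj g), fun a ha => cj_le_iff.1 hg _ (mem_map_of_mem _ ha)⟩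

/-- the permutations that fix all orbits of the involution `τ` -/
def orbFix {α : Type*} [Fintype α] [DecidableEq α] {τ : Equiv.Perm α} (h : ∀ i, τ (τ i) = i) :
    Subgroup (alternatingGroup α) where
  carrier := {g | ∀ i, g.1 i = i ∨ g.1 i = τ i}
  one_mem' := fun _ => Or.inl rfl
  mul_mem' {a b} ha hb i := by
    show a.1 (b.1 i) = i ∨ a.1 (b.1 i) = τ i
    rcases hb i with e | e <;> rw [e]
    · exact ha i
    · simpa only [h, or_comm] using ha (τ i)
  inv_mem' {a} ha i := by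
    show a.1⁻¹ i = i ∨ a.1⁻¹ i = τ i
    obtain ⟨j, rfl⟩ := a.1.surjective i
    rw [Equiv.Perm.inv_eq_iff_eq, Equiv.Perm.inv_eq_iff_eq, a.1.injective.eq_iff, a.1.injective.eq_iff]
    rcases ha j with e | e <;> simp [e, h]

/-- the order of the Sylow 2-subgroups, and squares are not central -/
theorem syl_A9 {J : Type*} [Group J] [Finite J] (e : J ≃* alternatingGroup (Fin (5 + 4)))
    (P : Sylow 2 J) : Nat.card P = 64 ∧ ∃ a ∈ (P : Subgroup J), ∃ b ∈ (P : Subgroup J),
      ¬ Commute (a * a) b := by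
  refine ⟨by
    rw [P.card_eq_multiplicity, Nat.card_congr e.toEquiv, nat_card_alternatingGroup, Nat.card_eq_fintype_card]
    decide +kernel, ?_⟩
  let τ : Equiv.Perm (Fin (5 + 4)) := .swap 0 1 * .swap 2 3 * .swap 4 5 * .swap 6 7
  have h : ∀ i, τ (τ i) = i := by decide
  let a : alternatingGroup (Fin (5 + 4)) := ⟨.swap 0 2 * .swap 2 4 * .swap 4 6 * .swap 1 3 * .swap 3 5 * .swap 5 7,
    Equiv.Perm.mem_alternatingGroup.2 (by simp)⟩
  let b : alternatingGroup (Fin (5 + 4)) := ⟨.swap 0 1 * .swap 2 3, Equiv.Perm.mem_alternatingGroup.2 (by simp)⟩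
  have h1 : IsPGroup 2 (orbFix h) := fun g => ⟨1, Subtype.ext (Subtype.ext (Equiv.ext fun i => by
    show g.1.1 (g.1.1 i) = i
    rcases g.2 i with e | e
    · rw [e, e]
    · rcases g.2 (g.1.1 i) with e' | e'
      · rw [e', g.1.1.injective e']
      · rw [e', e, h]))⟩
  have h2 : IsPGroup 2 (zpowers a) := IsPGroup.of_card_dvd_pow (n := 2) (by
    rw [Nat.card_zpowers]; exact orderOf_dvd_of_pow_eq_one (by decide +kernel))
  obtain ⟨f, hf⟩ := exists_hom_syl e P (h1.to_sup_of_normal_left' h2 (zpowers_le.2 (mem_normalizer_fintype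
    fun g hg i => by
      obtain ⟨j, rfl⟩ := a.1.surjective i
      show a.1 (g.1 (a.1⁻¹ (a.1 j))) = _ ∨ a.1 (g.1 (a.1⁻¹ (a.1 j))) = _
      rw [(by decide : ∀ j, τ (a.1 j) = a.1 (τ j)), ← Equiv.Perm.mul_apply a.1⁻¹, inv_mul_cancel]
      exact (hg j).imp (congrArg _) (congrArg _))))
  refine ⟨_, hf a (mem_sup_right (mem_zpowers a)), _, hf b (mem_sup_left (by show ∀ i, _; decide)), fun k => ?_⟩
  have := f.injective ((map_mul f _ _).trans (((map_mul f a a).symm ▸ k.eq).trans (map_mul f _ _).symm))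
  revert this
  decide

theorem syl_M12 {J : Type*} [Group J] [Finite J] (e : Spor.IsoM12 J) (P : Sylow 2 J) :
    Nat.card P = 64 ∧ ∃ a ∈ (P : Subgroup J), a ^ 4 ≠ 1 := by
  obtain ⟨e⟩ := e
  refine ⟨by rw [P.card_eq_multiplicity, Nat.card_congr e.toEquiv, Mathieu.card_M12]; decide +kernel, ?_⟩
  have h : M24E.isM 0x2d0eab11c95dd90abe469b62810c20 = true := by decide +kernel
  let a : Spor.M12 := ⟨_, Mathieu.mem_M12.2 ⟨M24E.pm_mem h, ((M24E.pm_rp h).setFix_iff _).1 (by decide +kernel)⟩⟩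
  obtain ⟨f, hf⟩ := exists_hom_syl e P (H := zpowers a) (IsPGroup.of_card_dvd_pow (n := 3) (by
    rw [Nat.card_zpowers]
    exact orderOf_dvd_of_pow_eq_one (Subtype.ext (((M24E.pm_rp h).powId_iff 8).1 (by decide +kernel)))))
  refine ⟨_, hf a (mem_zpowers a), fun k => ?_⟩
  rw [← map_pow, map_eq_one_iff _ f.injective] at k
  have := ((M24E.pm_rp h).powId_iff 4).2 (congrArg Subtype.val k)
  revert this
  decide +kernel

theorem syl_J2 {J : Type*} [Group J] [Finite J] (e : Spor.IsoJ2 J) (P : Sylow 2 J) :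
    Nat.card P = 128 := by
  obtain ⟨e⟩ := e
  rw [P.card_eq_multiplicity, Nat.card_congr e.toEquiv, J2.card_J2]
  decide +kernel

/-- the centraliser `2^{1+4} : A₅` of a 2-central involution of `J₂` -/
theorem cent_J2 {J : Type*} [Group J] [Finite J] (e : Spor.IsoJ2 J) {z : J} (o : orderOf z = 2)
    (hz : 128 ∣ Nat.card (centralizer ({z} : Set J))) :
    ∃ Q : Subgroup J, ES Q z ∧ Nat.card Q = 32 ∧
      (∀ B : Subgroup J, IsPGroup 2 B → B ≤ centralizer {z} →
        centralizer ({z} : Set J) ≤ normalizer (B : Set J) → B ≤ Q) ∧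
      centralizer ({z} : Set J) ≤ normalizer (Q : Set J) ∧
      (∀ s, Commute s z → s * s = 1 → 16 ≤ Nat.card (Q ⊓ centralizer {s} : Subgroup J) → s ∈ Q) ∧
      ∃ φ, Commute φ z ∧ φ ^ 5 = 1 ∧ ∃ q ∈ Q, ¬ Commute φ q := by
  obtain ⟨Q, q, u, n, y, r, A⟩ : ∃ Q q u n y r, HJ.Amal Q z q u n y r := by
    obtain ⟨e⟩ := e
    obtain ⟨Q, q, u, n, y, r, A⟩ := HJC.amal_J2 (e.trans J2.iso)
    generalize (e.trans J2.iso).symm _ = z0 at A
    by_cases h1 : IsConj z0 z
    · obtain ⟨c, rfl⟩ := isConj_iff.1 h1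
      exact ⟨_, HJC.amal_map A (MulAut.conj c)⟩
    have h2 := (A.invol_conj (mul_self_of_orderOf o) (ne_one_of_orderOf o)).resolve_left h1
    obtain ⟨_, _, H⟩ := JT.exists_hyp A fun h => h1 (h.trans h2)
    obtain ⟨⟨f⟩, -⟩ := H.klein h2
    rw [Nat.card_congr f.toEquiv, Nat.card_prod, Nat.card_prod, nat_card_alternatingGroup] at hz
    simp [Nat.factorial] at hz
  have h := A.pre
  refine ⟨Q, h.es, A.cardQ, fun B h1 h2 h3 => ?_, fun g hg => mem_normalizer_fintype
    (h.norm g (mem_centralizer_singleton_iff.1 hg)), fun s h1 h2 h3 => ?_, ?_⟩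
  · obtain ⟨σ, -, hσ⟩ := A.fr.five.exists_sigma h
    have e := HJ.Five.range_eq h A.cardQ A.card hσ
    have hn := (normal_subgroupOf_iff_le_normalizer h2).2 h3
    have : IsSimpleGroup σ.range := e ▸ alternatingGroup.isSimpleGroup (by simp)
    have h4 := (h1.comap_subtype (K := centralizer {z})).map σ.rangeRestrict
    rcases (Normal.map hn σ.rangeRestrict σ.rangeRestrict_surjective).eq_bot_or_eq_top with k | k
    · exact fun b hb => (hσ ⟨b, h2 hb⟩).1 (congrArg Subtype.val (mem_bot.1 (k.le (mem_map_of_mem _ hb))))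
    · obtain ⟨n, hn⟩ := IsPGroup.iff_card.1 h4
      rw [show map σ.rangeRestrict (B.comap (centralizer {z}).subtype) = ⊤ from k, card_top, e,
        nat_card_alternatingGroup] at hn
      exact absurd (Nat.prime_three.dvd_of_dvd_pow (m := 2) (n := n) (by rw [← hn]; simp [Nat.factorial]))
        (by decide)
  · rcases A.invol h1 h2 with ⟨c, hc, rfl⟩ | ⟨w, hw, rfl⟩
    · have h4 : ∀ a ∈ Q ⊓ centralizer {c * u * c⁻¹}, a * a = 1 := fun a ha => by
        have h5 := (A.cent_u (g := c⁻¹ * a * c) (((Commute.inv_left hc).mul_left (h.es.comm_z a ha.1)).mul_left hc).eq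
          (by
          calc _ = c⁻¹ * (a * (c * u * c⁻¹)) * c := by group
            _ = _ := by rw [mem_centralizer_singleton_iff.1 ha.2]; group)).1
        calc _ = c * (c⁻¹ * a * c * (c⁻¹ * a * c)) * c⁻¹ := by group
          _ = 1 := by rw [h5]; group
      have := HJC.card_le_four A.fr.five h inf_le_left (fun a ha b hb => by
        rw [← inv_inj, mul_inv_rev, inv_eq_of_mul_eq_one_right (h4 a ha), inv_eq_of_mul_eq_one_right (h4 b hb),
          inv_eq_of_mul_eq_one_right (h4 _ (mul_mem hb ha))]) h4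
      omega
    · exact A.wQ_mem w hw
  · have : Fact (Nat.Prime 5) := ⟨by norm_num⟩
    obtain ⟨φ, hφ⟩ := exists_prime_orderOf_dvd_card' (G := centralizer ({z} : Set J)) 5 (by rw [A.card]; norm_num)
    have h1 : (φ : J) ^ 5 = 1 := by rw [← hφ, ← coe_pow, pow_orderOf_eq_one, coe_one]
    refine ⟨φ, mem_centralizer_singleton_iff.1 φ.2, h1, ?_⟩
    by_contra! h2
    rw [← orderOf_coe] at hφ
    rcases h.cent φ fun q hq => (h2 q hq).eq.symm with e | e <;> simp [e, o] at hφ

end CfsgLib.G2C
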