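import Cfsg.Agent.Lib.G2C.P1

/-! Package P3a, first part: extraspecial groups of order 32 (plans/G2C2.md) -/

set_option autoImplicit false
set_option linter.unusedSectionVars false

namespace CfsgLib.G2C.P3a

open Subgroup Cfsg CfsgLib.Tech CfsgLib.ExtraTwo
open scoped commutatorElement

variable {G : Type*} [Group G] [Finite G] {Q : Subgroup G} {z g : G}

theorem card_mod5 {I : Set G} (hI : ∀ x ∈ I, g * x * g⁻¹ ∈ I) (h5 : ∀ x ∈ I, Commute (g ^ 5) x) :
    Nat.card I ≡ Nat.card {x // x ∈ I ∧ Commute g x} [MOD 5] := by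
  classical
  have : Fact (Nat.Prime 5) := ⟨by norm_num⟩
  have := Fintype.ofFinite I
  let f : Function.End I := fun w => ⟨_, hI w w.2⟩
  have hp : ∀ n (w : I), ((f ^ n) w : G) = g ^ n * w * (g ^ n)⁻¹ := fun n => by
    induction n with
    | zero => intro w; simp [Function.End.one_def]
    | succ n ih =>
      intro w
      rw [pow_succ']
      show g * ((f ^ n) w : G) * g⁻¹ = _
      rw [ih, pow_succ']; group
  have h1 := Equiv.Perm.card_fixedPoints_modEq (f := f) (p := 5) (n := 1)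
    (funext fun w => Subtype.ext (by rw [pow_one, hp, (h5 w w.2).eq, mul_inv_cancel_right]; rfl))
  rw [← Nat.card_eq_fintype_card, ← Nat.card_eq_fintype_card] at h1
  let ε : Function.fixedPoints f ≃ {x // x ∈ I ∧ Commute g x} :=
    ⟨fun w => ⟨w.1, w.1.2, mul_inv_eq_iff_eq_mul.1 (congrArg Subtype.val w.2)⟩,
      fun w => ⟨⟨w, w.2.1⟩, Subtype.ext (mul_inv_eq_iff_eq_mul.2 w.2.2)⟩, fun _ => rfl, fun _ => rfl⟩
  rwa [Nat.card_congr ε] at h1

theorem card_z (h : ES Q z) : Nat.card (zpowers z) = 2 := by rw [Nat.card_zpowers, h.orderOf_eq]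

/-- an automorphism of order 5 -/
structure A5 (Q : Subgroup G) (z g : G) : Prop where
  es : ES Q z
  card : Nat.card Q = 32
  norm : g ∈ normalizer (Q : Set G)
  gz : Commute g z
  pow : ∀ q ∈ Q, Commute (g ^ 5) q
  ne : ∃ q ∈ Q, ¬ Commute g q

theorem A5.fix (h : A5 Q z g) {q : G} (hq : q ∈ Q) (h1 : Commute g q) : q = 1 ∨ q = z := by
  have h2 := card_mod5 (I := (Q : Set G)) (fun _ hx => conj_mem_of_mem_normalizer h.norm hx) h.pow
  have e : Nat.card {x // x ∈ (Q : Set G) ∧ Commute g x} =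
      Nat.card (Q ⊓ centralizer {g} : Subgroup G) :=
    Nat.card_congr (Equiv.subtypeEquivRight fun x => and_congr_right fun _ =>
      ⟨fun e => mem_centralizer_singleton_iff.2 e.symm, fun e => (mem_centralizer_singleton_iff.1 e).symm⟩)
  have h3 : Nat.card (Q ⊓ centralizer {g} : Subgroup G) ∣ 2 ^ 5 :=
    (card_dvd_of_le inf_le_left).trans (by rw [h.card]; rfl)
  have h4 : Nat.card (Q ⊓ centralizer {g} : Subgroup G) ≠ 32 := fun e => by
    obtain ⟨u, hu, h5⟩ := h.ne
    have := eq_of_le_of_card_ge (inf_le_left : Q ⊓ centralizer {g} ≤ Q) (by rw [e, h.card])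
    exact h5 (mem_centralizer_singleton_iff.1 (this.ge hu).2).symm
  have h5 : zpowers z ≤ Q ⊓ centralizer {g} :=
    zpowers_le.2 ⟨h.es.mem, mem_centralizer_singleton_iff.2 h.gz.symm⟩
  rw [e, SetLike.coe_sort_coe, h.card] at h2
  obtain ⟨k, hk, e2⟩ := (Nat.dvd_prime_pow Nat.prime_two).1 h3
  rw [e2] at h2 h4
  have h6 : k = 1 := by interval_cases k <;> first | rfl | (revert h2 h4; decide)
  have := eq_of_le_of_card_ge h5 (by rw [e2, h6, card_z h.es]; rfl)
  exact h.es.mem_zpowers.1 (this.ge ⟨hq, mem_centralizer_singleton_iff.2 h1.symm⟩)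

theorem A5.fix' (h : A5 Q z g) {q : G} (hq : q ∈ Q) (h1 : g * q * g⁻¹ = z * q) : q = 1 ∨ q = z := by
  have h2 : Commute (g * g) q := by
    have : g * g * q * (g * g)⁻¹ = q := by
      rw [show g * g * q * (g * g)⁻¹ = g * (g * q * g⁻¹) * g⁻¹ by group, h1,
        show g * (z * q) * g⁻¹ = g * z * g⁻¹ * (g * q * g⁻¹) by group, h1, h.gz.eq,
        mul_inv_cancel_right, h.es.zz]
    exact mul_inv_eq_iff_eq_mul.1 this
  have h3 := ((h2.mul_left h2).inv_left).mul_left (h.pow q hq)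
  rw [show (g * g * (g * g))⁻¹ * g ^ 5 = g by simp [pow_succ, mul_assoc]] at h3
  exact h.fix hq h3

theorem A5.min (h : A5 Q z g) : MinusType Q z 1 := by
  refine (h.es.plus_or_minus (n := 2) h.card).2.resolve_left fun hp => ?_
  have h2 := card_mod5 (g := g) (I := {x | x ∈ Q ∧ x ^ 2 = 1})
    (fun x hx => ⟨conj_mem_of_mem_normalizer h.norm hx.1, by rw [conj_pow, hx.2]; simp⟩)
    fun x hx => h.pow x hx.1
  have e : Nat.card {x // x ∈ {x | x ∈ Q ∧ x ^ 2 = 1} ∧ Commute g x} = Nat.card (zpowers z) :=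
    Nat.card_congr (Equiv.subtypeEquivRight fun x => by
      rw [h.es.mem_zpowers]
      refine ⟨fun e => h.fix e.1.1 e.2, ?_⟩
      rintro (rfl | rfl)
      · exact ⟨⟨one_mem _, one_pow _⟩, Commute.one_right _⟩
      · exact ⟨⟨h.es.mem, (pow_two _).trans h.es.mul_self⟩, h.gz⟩)
  rw [e, card_z h.es] at h2
  have h3 : Nat.card {x | x ∈ Q ∧ x ^ 2 = 1} = 20 := hp.card_sq
  rw [h3] at h2
  revert h2; decide

theorem min_four (h : ES Q z) (hm : MinusType Q z 1) {a b : G} (ha : a ∈ Q) (hb : b ∈ Q)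
    (a2 : a * a = 1) (b2 : b * b = 1) (hc : Commute a b) (a1 : a ≠ 1) (az : a ≠ z) :
    b = 1 ∨ b = z ∨ b = a ∨ b = z * a := by
  have za : Commute z a := (h.comm_z a ha).symm
  have h1 : closure {z, a} ≤ centralizer (zpowers b : Set G) := by
    rw [closure_le]
    rintro x (rfl | rfl) _ ⟨k, rfl⟩
    exacts [(Commute.zpow_left (h.comm_z b hb) k).eq, (hc.symm.zpow_left k).eq]
  have h2 := hm.card_le (closure {z, a} ⊔ zpowers b)
    (sup_le ((closure_le _).2 (by rintro x (rfl | rfl); exacts [h.mem, ha])) (zpowers_le.2 hb))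
    fun x hx => (pow_two x).trans (sq_sup (sq_four h.mul_self a2 za) (fun y hy => by
      rcases (mem_zpowers_iff_of_mul_self b2).1 hy with rfl | rfl
      exacts [mul_one 1, b2]) h1 x hx)
  have h3 := eq_of_le_of_card_ge (le_sup_left : closure {z, a} ≤ closure {z, a} ⊔ zpowers b)
    (by rw [Alt4.card_four h.mul_self a2 za h.ne_one a1 az.symm]; exact h2)
  exact (Alt4.mem_four h.mul_self a2 za).1 (h3.ge (mem_sup_right (mem_zpowers b)))

theorem A5.not_comm (h : A5 Q z g) {q : G} (hq : q ∈ Q) (q2 : q * q = 1) (q1 : q ≠ 1) (qz : q ≠ z)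
    (hc : Commute q (g * q * g⁻¹)) : False := by
  rcases min_four h.es h.min hq (conj_mem_of_mem_normalizer h.norm hq) q2
    (by rw [conj_mul, q2]; simp) hc q1 qz with e | e | e | e
  · exact q1 (by simpa using e)
  · rw [← mul_inv_cancel_right z g, ← h.gz.eq] at e
    exact qz (by simpa using e)
  · exact (h.fix hq (mul_inv_eq_iff_eq_mul.1 e)).elim q1 qz
  · exact (h.fix' hq e).elim q1 qz

/-- the double centraliser of an element -/
theorem cent_cent (h : ES Q z) {s w : G} (hs : s ∈ Q) (hw : w ∈ Q)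
    (hc : ∀ q ∈ Q, Commute q s → Commute q w) : w = 1 ∨ w = z ∨ w * s = 1 ∨ w * s = z := by
  by_cases h1 : ∀ q ∈ Q, q * w = w * q
  · exact (h.center w hw h1).imp_right Or.inl
  push Not at h1
  obtain ⟨u, hu, h1⟩ := h1
  refine Or.inr (Or.inr (h.center _ (mul_mem hw hs) fun q hq => ?_))
  by_cases h2 : Commute q s
  · exact ((hc q hq h2).mul_right h2).eq
  have h3 := hc _ (mul_mem hq hu) (h.mul_comm_of_not_comm hs hq hu h2 fun e => h1 (hc u hu e))
  refine (h.mul_comm_of_not_comm hq hw hs (fun e => h1 ?_) fun e => h2 e.symm).symm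
  have h4 := (Commute.inv_left (e.symm : Commute q w)).mul_left h3
  rwa [inv_mul_cancel_left] at h4

theorem comm_of_sq {a b : G} (a2 : a * a = 1) (b2 : b * b = 1) (h : a * b * (a * b) = 1) :
    Commute a b := by
  have := inv_eq_of_mul_eq_one_right h
  rw [mul_inv_rev, inv_eq_of_mul_eq_one_right a2, inv_eq_of_mul_eq_one_right b2] at this
  exact this.symm

/-- an involution that acts non-trivially on a group of minus type -/
theorem exists_conj (h : ES Q z) (hm : MinusType Q z 1) {c : G} (hc : c ∈ normalizer (Q : Set G))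
    (c2 : c * c = 1) (cz : Commute c z) (hn : ∃ u ∈ Q, ¬ Commute c u) :
    ∃ u ∈ Q, ⁅c, u⁆ = z := by
  by_contra hh
  push Not at hh
  have ci : c⁻¹ = c := inv_eq_of_mul_eq_one_right c2
  have m1 : ∀ u ∈ Q, ⁅c, u⁆ ∈ Q := fun u hu =>
    mul_mem (conj_mem_of_mem_normalizer hc hu) (inv_mem hu)
  have s1 : ∀ u ∈ Q, ⁅c, u⁆ * ⁅c, u⁆ = 1 := fun u hu => by
    refine (h.sq (m1 u hu)).resolve_right fun e => hh _ (inv_mem (m1 u hu)) ?_
    rw [← e, commutatorElement_def c ⁅c, u⁆⁻¹, inv_inv]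
    congr 1
    simp only [commutatorElement_def, mul_inv_rev, inv_inv, ci]
    rw [show c * (u * (c * (u⁻¹ * c))) * c = c * u * c * u⁻¹ * (c * c) by group, c2, mul_one]
  have cs : ∀ u ∈ Q, c * (u * u) * c⁻¹ = u * u := fun u hu => by
    rcases h.sq hu with e | e <;> rw [e]
    exacts [by simp, by rw [cz.eq, mul_inv_cancel_right]]
  have s2 : ∀ u ∈ Q, Commute ⁅c, u⁆ u := fun u hu => by
    have e1 : ⁅c, u⁆ * u * ⁅c, u⁆ = u := by
      have := cs u hu
      rw [show c * (u * u) * c⁻¹ = ⁅c, u⁆ * u * ⁅c, u⁆ * u by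
        rw [commutatorElement_def]; group] at this
      exact mul_right_cancel this
    calc ⁅c, u⁆ * u = ⁅c, u⁆ * u * ⁅c, u⁆ * ⁅c, u⁆ := by rw [mul_assoc _ ⁅c, u⁆, s1 u hu, mul_one]
      _ = _ := by rw [e1]
  obtain ⟨u, hu, h1⟩ := hn
  have h2 : ⁅c, u⁆ ≠ 1 := fun e => h1 (commutatorElement_eq_one_iff_commute.1 e)
  have s3 : ∀ q ∈ Q, Commute ⁅c, u⁆ ⁅c, q⁆ := fun q hq => by
    have e1 := s1 _ (mul_mem hu hq)
    rw [show ⁅c, u * q⁆ = ⁅c, u⁆ * (u * ⁅c, q⁆ * u⁻¹) by
      simp only [commutatorElement_def]; group] at e1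
    have e2 := comm_of_sq (s1 u hu) (by rw [conj_mul, s1 q hq]; simp) e1
    have e3 := ((s2 u hu).inv_right.mul_right e2).mul_right (s2 u hu)
    rwa [show u⁻¹ * (u * ⁅c, q⁆ * u⁻¹) * u = ⁅c, q⁆ by group] at e3
  have s4 : ∀ q ∈ Q, ¬ Commute q ⁅c, u⁆ → Commute c q := fun q hq hn => by
    have e1 := s2 q hq
    rcases min_four h hm (m1 u hu) (m1 q hq) (s1 u hu) (s1 q hq) (s3 q hq) h2 (hh u hu) with
      e | e | e | e
    · exact commutatorElement_eq_one_iff_commute.1 e
    · exact absurd e (hh q hq)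
    · exact absurd (e ▸ e1).symm hn
    · have e2 := (Commute.symm (h.comm_z q hq)).mul_left (e ▸ e1)
      rw [h.zz] at e2
      exact absurd e2.symm hn
  obtain ⟨q, hq, h3⟩ := h.exists_not_comm (m1 u hu) h2 (hh u hu)
  have h4 := (s4 q hq h3).inv_right.mul_right (s4 _ (mul_mem hq hu) fun e => h3 (by
    have := e.mul_left (s2 u hu).symm.inv_left
    rwa [mul_inv_cancel_right] at this))
  rw [inv_mul_cancel_left] at h4
  exact h1 h4

end CfsgLib.G2C.P3a
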