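import Cfsg.Agent.Lib.RuG.Defs
import Cfsg.Agent.Lib.ExtraTwo.Coord
import Cfsg.Agent.Lib.BCor.Str
import Cfsg.Agent.S1911

/-! Tools for the packages P5, P6 (plans/G2C2.md): counting and a consequence of the theorem on
tightly embedded subgroups -/

set_option autoImplicit false

namespace CfsgLib.G2C.Ti

open Subgroup Cfsg CfsgLib.Tech CfsgLib.ExtraTwo
open scoped commutatorElement

theorem card_orth {V : Type*} [AddCommGroup V] [Module (ZMod 2) V] [Finite V]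
    {B : LinearMap.BilinForm (ZMod 2) V} (hB : B.Nondegenerate) (W : Submodule (ZMod 2) V) :
    Nat.card W * Nat.card (B.orthogonal W) = Nat.card V := by
  rw [Module.natCard_eq_pow_finrank (K := ZMod 2) (V := W),
    Module.natCard_eq_pow_finrank (K := ZMod 2) (V := B.orthogonal W),
    Module.natCard_eq_pow_finrank (K := ZMod 2) (V := V), ← pow_add,
    LinearMap.BilinForm.finrank_orthogonal hB, Nat.add_sub_cancel' W.finrank_le]

theorem two_mul_le_sub {V : Type*} [AddCommGroup V] [Module (ZMod 2) V] [Finite V]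
    {U W : Submodule (ZMod 2) V} (h : U < W) : 2 * Nat.card U ≤ Nat.card W := by
  rw [Module.natCard_eq_pow_finrank (K := ZMod 2), Module.natCard_eq_pow_finrank (K := ZMod 2) (V := W),
    Nat.card_zmod, ← pow_succ']
  exact Nat.pow_le_pow_right (by norm_num) (Submodule.finrank_lt_finrank_of_lt h)

theorem card_le_sub {V : Type*} [AddCommGroup V] [Module (ZMod 2) V] [Finite V]
    {U W : Submodule (ZMod 2) V} (h : U ≤ W) : Nat.card U ≤ Nat.card W :=
  Nat.card_le_card_of_injective _ (Submodule.inclusion_injective h)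

theorem eq_of_card_sub {V : Type*} [AddCommGroup V] [Module (ZMod 2) V] [Finite V]
    {U W : Submodule (ZMod 2) V} (h : U ≤ W) (hc : Nat.card W ≤ Nat.card U) : U = W := by
  by_contra k
  have := two_mul_le_sub (h.lt_of_ne k)
  have := Nat.card_pos (α := U)
  omega

variable {G : Type*} [Group G] [Finite G]

omit [Finite G] in
/-- image and kernel of a function that is multiplicative on `P` -/
theorem exists_img {M : Type*} [Group M] {P : Subgroup G} {f : G → M}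
    (hf : ∀ x ∈ P, ∀ y ∈ P, f (x * y) = f x * f y) : ∃ J : Subgroup M, (∀ e, e ∈ J ↔ ∃ x ∈ P, f x = e) ∧
      ∀ K : Subgroup G, K ≤ P → (∀ x ∈ P, f x = 1 ↔ x ∈ K) → Nat.card P = Nat.card J * Nat.card K := by
  let φ : P →* M := MonoidHom.mk' (fun x => f x) fun x y => hf x x.2 y y.2
  refine ⟨φ.range, fun e => ⟨fun ⟨x, h⟩ => ⟨x, x.2, h⟩, fun ⟨x, h, h'⟩ => ⟨⟨x, h⟩, h'⟩⟩, fun K hK h => ?_⟩
  rw [← φ.ker.index_mul_card, index_ker, show φ.ker = K.subgroupOf P from Subgroup.ext fun x => h x x.2,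
    Nat.card_congr (subgroupOfEquivOfLe hK).toEquiv]

theorem card_le_two {U N : Subgroup G} {x : G} (h : ∀ w ∈ U, w ∈ N ∨ w * x ∈ N) :
    Nat.card U ≤ 2 * Nat.card N := by
  classical
  let f : U → Bool × N := fun w => if k : (w : G) ∈ N then (true, ⟨w, k⟩) else (false, ⟨w * x, (h w w.2).resolve_left k⟩)
  have : Function.Injective f := fun a b e => by
    by_cases ha : (a : G) ∈ N <;> by_cases hb : (b : G) ∈ N <;> simp_all [f]
  simpa using Nat.card_le_card_of_injective f this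

omit [Finite G] in
/-- an element whose square centralises `c` inverts the commutator -/
theorem inverts {c d : G} (h : d * d * c⁻¹ = c⁻¹ * (d * d)) : d * ⁅c, d⁆ * d⁻¹ = ⁅c, d⁆⁻¹ := by
  calc d * ⁅c, d⁆ * d⁻¹ = d * c * d⁻¹ * (d * d * c⁻¹) * (d * d)⁻¹ := by
        simp only [commutatorElement_def]; group
    _ = _ := by rw [h]; simp only [commutatorElement_def]; group

theorem trans' {Q : Type*} [Group Q] [Finite Q] {R : Subgroup Q} (h2 : ∀ r ∈ R, r * r = 1)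
    (hodd : ∀ g, g ∉ normalizer (R : Set Q) → cj g R ⊓ normalizer (R : Set Q) = ⊥) (hn : ¬ R.Normal)
    {r s : Q} (hr : r ∈ R) (r1 : r ≠ 1) (hs : s ∈ R) (s1 : s ≠ 1) :
    ∃ n ∈ normalizer (R : Set Q), n * r * n⁻¹ = s := by
  have ti : ∀ g, g ∉ normalizer (R : Set Q) → R ⊓ cj g R = ⊥ := fun g hg =>
    eq_bot_iff.2 ((le_inf inf_le_right (inf_le_left.trans le_normalizer)).trans (hodd g hg).le)
  have se := (Cfsg.Agent.S1911.result R ⟨by
    rw [even_iff_two_dvd, ← orderOf_eq_two r1 (h2 r hr)]; exact orderOf_dvd_natCard R hr, fun g hg => by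
    rw [ti g hg]; simp⟩ fun g hg => by rw [hodd g hg]; simp).resolve_left hn
  have o : ∀ x (hx : x ∈ R), x ≠ 1 → orderOf (⟨x, le_normalClosure hx⟩ : normalClosure (R : Set Q)) = 2 :=
    fun x hx x1 => by rw [orderOf_mk, orderOf_eq_two x1 (h2 x hx)]
  obtain ⟨n, e⟩ := BCor.se_isConj se (o r hr r1) (o s hs s1)
  have e' : (n : Q) * r * (n : Q)⁻¹ = s := congrArg Subtype.val e
  exact ⟨n, by_contra fun k => s1 (mem_bot.1 ((ti n k).le ⟨hs, e' ▸ conj_mem_cj.2 hr⟩)), e'⟩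

theorem trans'' {X Y R : Subgroup G} {Q : Type*} [Group Q] [Finite Q] {f : X →* Q} (hf : Function.Surjective f)
    (k1 : ∀ x, f x = 1 ↔ (x : G) ∈ Y) (hY : Y ≤ R) (hR : R ≤ X) (h2 : ∀ r ∈ R, r * r ∈ Y)
    (hodd : ∀ g ∈ X, g ∉ normalizer (R : Set G) → cj g R ⊓ normalizer (R : Set G) ≤ Y)
    (hn : ¬ X ≤ normalizer (R : Set G)) {r s : G} (hr : r ∈ R) (r1 : r ∉ Y) (hs : s ∈ R) (s1 : s ∉ Y) :
    ∃ n ∈ X ⊓ normalizer (R : Set G), n * r * n⁻¹ * s⁻¹ ∈ Y := by
  have m : ∀ x : X, f x ∈ (R.subgroupOf X).map f ↔ (x : G) ∈ R := fun x => ⟨fun ⟨y, hy, e⟩ => by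
    have : ((y⁻¹ * x : X) : G) ∈ Y := (k1 _).1 (by rw [map_mul, map_inv, e, inv_mul_cancel])
    exact (mul_mem_cancel_left (inv_mem (mem_subgroupOf.1 hy))).1 (hY this), fun h => ⟨x, h, rfl⟩⟩
  have nn : ∀ x : X, f x ∈ normalizer (((R.subgroupOf X).map f : Subgroup Q) : Set Q) ↔
      (x : G) ∈ normalizer (R : Set G) := fun x => ⟨fun h => mem_normalizer_of_forall fun y hy =>
        (m (x * ⟨y, hR hy⟩ * x⁻¹)).1 (by
          rw [map_mul, map_mul, map_inv]; exact conj_mem_of_mem_normalizer h ((m ⟨y, hR hy⟩).2 hy)),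
      fun h => mem_normalizer_of_forall (by
        rintro _ ⟨y, hy, rfl⟩
        rw [← map_inv, ← map_mul, ← map_mul, m]
        exact conj_mem_of_mem_normalizer h (mem_subgroupOf.1 hy))⟩
  obtain ⟨n, h1, e⟩ := trans' (R := (R.subgroupOf X).map f) (by
      rintro _ ⟨y, hy, rfl⟩
      rw [← map_mul, k1]
      exact h2 y hy) (fun g hg => eq_bot_iff.2 fun x hx => by
      obtain ⟨g, rfl⟩ := hf g
      obtain ⟨x, rfl⟩ := hf x
      refine mem_bot.2 ((k1 x).2 (hodd g g.2 (fun k => hg ((nn g).2 k)) ⟨mem_cj.2 ((m (g⁻¹ * x * g)).1 ?_),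
        (nn x).1 hx.2⟩))
      rw [map_mul, map_mul, map_inv]
      exact mem_cj.1 hx.1)
    (fun k => hn fun x hx => (nn ⟨x, hx⟩).1 (by rw [normalizer_eq_top]; trivial))
    ((m ⟨r, hR hr⟩).2 hr) (fun e => r1 ((k1 _).1 e)) ((m ⟨s, hR hs⟩).2 hs) (fun e => s1 ((k1 _).1 e))
  obtain ⟨n, rfl⟩ := hf n
  exact ⟨n, ⟨n.2, (nn n).1 h1⟩, (k1 (n * ⟨r, hR hr⟩ * n⁻¹ * ⟨s, hR hs⟩⁻¹)).1 (by
    rw [map_mul, map_mul, map_mul, map_inv, map_inv, e, mul_inv_cancel])⟩

/-- if `R/Y` is a TI-group in `X/Y` that is not normalised by elements of its conjugates, then it is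
normal or its normaliser is transitive on its involutions -/
theorem trans {X Y R : Subgroup G} (hX : X ≤ normalizer (Y : Set G)) (hY : Y ≤ R) (hR : R ≤ X)
    (h2 : ∀ r ∈ R, r * r ∈ Y)
    (hodd : ∀ g ∈ X, g ∉ normalizer (R : Set G) → cj g R ⊓ normalizer (R : Set G) ≤ Y)
    (hn : ¬ X ≤ normalizer (R : Set G)) {r s : G} (hr : r ∈ R) (r1 : r ∉ Y) (hs : s ∈ R) (s1 : s ∉ Y) :
    ∃ n ∈ X ⊓ normalizer (R : Set G), n * r * n⁻¹ * s⁻¹ ∈ Y := by
  have : (Y.subgroupOf X).Normal :=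
    ⟨fun x hx g => mem_subgroupOf.2 (conj_mem_of_mem_normalizer (hX g.2) (mem_subgroupOf.1 hx))⟩
  exact trans'' (f := QuotientGroup.mk' (Y.subgroupOf X)) (QuotientGroup.mk'_surjective _)
    (fun x => (QuotientGroup.eq_one_iff x).trans mem_subgroupOf) hY hR h2 hodd hn hr r1 hs s1

/-- a maximal `Y` whose centraliser modulo `Z` does not normalise `R` -/
theorem exists_max {Z R : Subgroup G} (hZ : Z ≤ R)
    (hn : ¬ centralizer (Z : Set G) ≤ normalizer (R : Set G)) :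
    ∃ Y : Subgroup G, Z ≤ Y ∧ Y ≤ R ∧ ¬ centralizer (Z : Set G) ⊓ RuG.mc Y Z ≤ normalizer (R : Set G) ∧
      ∀ Y' : Subgroup G, Y < Y' → Y' ≤ R → centralizer (Z : Set G) ⊓ RuG.mc Y' Z ≤ normalizer (R : Set G) := by
  obtain ⟨Y, ⟨h1, h2, h3⟩, h4⟩ := exists_maximal_of_wellFoundedGT
    (fun Y : Subgroup G => Z ≤ Y ∧ Y ≤ R ∧ ¬ centralizer (Z : Set G) ⊓ RuG.mc Y Z ≤ normalizer (R : Set G))
    ⟨Z, le_rfl, hZ, fun k => hn fun g hg => k ⟨hg, centralizer_le_normalizer _ hg, fun q hq => by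
      rw [commutatorElement_eq_one_iff_mul_comm.2 (hg q hq).symm]; exact one_mem _⟩⟩
  exact ⟨Y, h1, h2, h3, fun Y' l l' => by_contra fun k => l.not_ge (h4 ⟨h1.trans l.le, l', k⟩ l.le)⟩

omit [Finite G] in
theorem le_N_Y {Z Y : Subgroup G} (hZ : Z ≤ Y) : RuG.mc Y Z ≤ normalizer (Y : Set G) := fun g hg => by
  have k : ∀ g ∈ RuG.mc Y Z, ∀ y ∈ Y, g * y * g⁻¹ ∈ Y := fun g hg y hy => by
    simpa only [commutatorElement_def, inv_mul_cancel_right] using mul_mem (hZ (hg.2 y hy)) hy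
  refine mem_normalizer_iff.2 fun y => ⟨k g hg y, fun h => ?_⟩
  simpa [mul_assoc] using k _ (inv_mem hg) _ h

end CfsgLib.G2C.Ti
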