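import Cfsg.Agent.Lib.G2C.LA
import Cfsg.Agent.Lib.G2C.TI

/-! Package P5a: elements of D in a conjugate of R do not normalise R (plans/G2C2.md) -/

set_option autoImplicit false
set_option linter.unusedSectionVars false

namespace CfsgLib.G2C

open Subgroup Cfsg CfsgLib.Tech CfsgLib.StdR2 CfsgLib.Chev CfsgLib.OrthE CfsgLib.ExtraTwo
  CfsgLib.Co1Rec QuadraticMap
open scoped commutatorElement

variable {F : Type*} [Field F] [Fintype F] {G : Type*} [Group G] [Finite G] {ι : Γ F →* G}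

variable {D : Set G} {Z R : Subgroup G} {z1 z2 : G} {p : G → V6 × V6} {ν : G → OrthE.O q6}

namespace P5

theorem pow_val_add {z : G} (h : z * z = 1) (a b : ZMod 2) : z ^ (a + b).val = z ^ a.val * z ^ b.val := by
  rcases zmod2_cases a with rfl | rfl <;> rcases zmod2_cases b with rfl | rfl <;>
    simp [z11, h, ZMod.val_one]

/-- coordinates on `Z` -/
def ez (z1 z2 : G) (a b : ZMod 2) : G := z1 ^ a.val * z2 ^ b.val

theorem b_self (v : V6) : polar q6 v v = 0 := by rw [polar_self', show (2 : ZMod 2) = 0 from rfl, zero_mul]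

/-- the second form -/
def β : LinearMap.BilinForm (ZMod 2) (V6 × V6) := LinearMap.mk₂ (ZMod 2)
  (fun u v => polar q6 u.2 v.2 + polar q6 u.1 v.2 + polar q6 u.2 v.1)
  (fun _ _ _ => by simp only [Prod.fst_add, Prod.snd_add, polar_add_left]; ring)
  (fun _ _ _ => by simp only [Prod.smul_fst, Prod.smul_snd, polar_smul_left, smul_eq_mul]; ring)
  (fun _ _ _ => by simp only [Prod.fst_add, Prod.snd_add, polar_add_right]; ring)
  (fun _ _ _ => by simp only [Prod.smul_fst, Prod.smul_snd, polar_smul_right, smul_eq_mul]; ring)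

theorem β_apply (u v : V6 × V6) : β u v = polar q6 u.2 v.2 + polar q6 u.1 v.2 + polar q6 u.2 v.1 := rfl

theorem β_nd : β.Nondegenerate := by
  have k : ∀ u : V6 × V6, (∀ v, β u v = 0) → u = 0 := fun u h => by
    have h2 : u.2 = 0 := nd6 _ fun y => by simpa [β_apply] using h (y, 0)
    have h1 : u.1 = 0 := nd6 _ fun y => by simpa [β_apply, h2] using h (0, y)
    exact Prod.ext h1 h2
  refine ⟨k, fun u h => k u fun v => ?_⟩
  rw [← h v, β_apply, β_apply, polar_comm q6 u.2 v.2, polar_comm q6 u.1, polar_comm q6 u.2]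
  ring

theorem card_VV : Nat.card (V6 × V6) = 2 ^ 12 := by simp

theorem card_prod (U W : Submodule (ZMod 2) V6) : Nat.card (U.prod W) = Nat.card U * Nat.card W := by
  rw [← Nat.card_prod]
  exact Nat.card_congr (Equiv.Set.prod (U : Set V6) (W : Set V6))

end P5

open P5

namespace RM

section
variable (h : RM D Z R z1 z2 p ν)
include h

theorem cZ {ζ r : G} (hζ : ζ ∈ Z) (hr : r ∈ R) : ζ * r = r * ζ := h.cen hr ζ hζ

theorem ez_mem (a b : ZMod 2) : ez z1 z2 a b ∈ Z :=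
  mul_mem (pow_mem ((h.memZ _).2 (by simp)) _) (pow_mem ((h.memZ _).2 (by simp)) _)

theorem ez_add (a b c d : ZMod 2) : ez z1 z2 (a + c) (b + d) = ez z1 z2 a b * ez z1 z2 c d := by
  have e := h.cZ (pow_mem ((h.memZ z2).2 (by simp)) b.val) (h.ZR (pow_mem ((h.memZ z1).2 (by simp)) c.val))
  rw [ez, ez, ez, pow_val_add (mul_self_of_orderOf h.o1), pow_val_add (mul_self_of_orderOf h.o2), mul_assoc,
    mul_assoc, ← mul_assoc (z2 ^ b.val), e, mul_assoc]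

theorem ez_eq_one {a b : ZMod 2} (e : ez z1 z2 a b = 1) : a = 0 ∧ b = 0 := by
  have h1 := ne_one_of_orderOf h.o1
  have h2 := ne_one_of_orderOf h.o2
  have h3 : z1 * z2 ≠ 1 := fun k => h.ne (mul_right_cancel (k.trans (mul_self_of_orderOf h.o2).symm))
  rcases zmod2_cases a with rfl | rfl <;> rcases zmod2_cases b with rfl | rfl <;>
    simp_all [ez, ZMod.val_one]

theorem ez_surj {ζ : G} (hζ : ζ ∈ Z) : ∃ a b, ez z1 z2 a b = ζ := by
  rcases (h.memZ ζ).1 hζ with rfl | rfl | rfl | rfl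
  exacts [⟨0, 0, by simp [ez]⟩, ⟨1, 0, by simp [ez, ZMod.val_one]⟩, ⟨0, 1, by simp [ez, ZMod.val_one]⟩,
    ⟨1, 1, by simp [ez, ZMod.val_one]⟩]

theorem sqZ {ζ : G} (hζ : ζ ∈ Z) : ζ * ζ = 1 := by
  obtain ⟨a, b, rfl⟩ := h.ez_surj hζ
  rw [← h.ez_add, CharTwo.add_self_eq_zero, CharTwo.add_self_eq_zero, ez]
  simp

theorem cardZ : Nat.card Z = 4 := by
  rw [← Nat.card_eq_of_bijective (fun a : ZMod 2 × ZMod 2 => (⟨ez z1 z2 a.1 a.2, h.ez_mem _ _⟩ : Z))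
    ⟨fun a b e => ?_, fun ζ => ?_⟩]
  · simp
  · have := h.ez_eq_one ((h.ez_add a.1 a.2 b.1 b.2).trans (by
      rw [show ez z1 z2 a.1 a.2 = ez z1 z2 b.1 b.2 from congrArg Subtype.val e, h.sqZ (h.ez_mem _ _)]))
    exact Prod.ext (CharTwo.add_eq_zero.1 this.1) (CharTwo.add_eq_zero.1 this.2)
  · obtain ⟨a, b, e⟩ := h.ez_surj ζ.2
    exact ⟨(a, b), Subtype.ext e⟩

theorem sq_mem {r : G} (hr : r ∈ R) : r * r ∈ Z := h.sq r hr ▸ h.ez_mem _ _

theorem pow4 {r : G} (hr : r ∈ R) : r ^ 4 = 1 := by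
  rw [← h.sqZ (h.sq_mem hr), show 4 = 2 + 2 from rfl, pow_add, pow_two]

theorem p_one : p 1 = 0 := (h.ker 1 (one_mem _)).2 (one_mem _)

theorem p_inv {r : G} (hr : r ∈ R) : p r⁻¹ = p r :=
  add_eq_zero_zmod2.1 (by rw [← h.mul _ (inv_mem hr) r hr, inv_mul_cancel, h.p_one])

theorem p_eq {r s : G} (hr : r ∈ R) (hs : s ∈ R) : p r = p s ↔ r * s⁻¹ ∈ Z := by
  rw [← h.ker _ (mul_mem hr (inv_mem hs)), h.mul r hr _ (inv_mem hs), h.p_inv hs, add_eq_zero_zmod2]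

/-- the image of a subgroup -/
def img (P : Subgroup G) : Submodule (ZMod 2) (V6 × V6) where
  carrier := {v | ∃ x ∈ P, x ∈ R ∧ p x = v}
  add_mem' := by
    rintro _ _ ⟨x, hx, hx', rfl⟩ ⟨y, hy, hy', rfl⟩
    exact ⟨x * y, mul_mem hx hy, mul_mem hx' hy', h.mul x hx' y hy'⟩
  zero_mem' := ⟨1, one_mem _, one_mem _, h.p_one⟩
  smul_mem' := fun a v hv => by
    rcases zmod2_cases a with rfl | rfl
    · rw [zero_smul]; exact ⟨1, one_mem _, one_mem _, h.p_one⟩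
    · rwa [one_smul]

/-- the preimage of a subspace -/
def sub (W : Submodule (ZMod 2) (V6 × V6)) : Subgroup G where
  carrier := {x | x ∈ R ∧ p x ∈ W}
  mul_mem' := fun {x y} hx hy => ⟨mul_mem hx.1 hy.1, by rw [h.mul x hx.1 y hy.1]; exact add_mem hx.2 hy.2⟩
  one_mem' := ⟨one_mem _, h.p_one ▸ zero_mem _⟩
  inv_mem' := fun hx => ⟨inv_mem hx.1, by rw [h.p_inv hx.1]; exact hx.2⟩

theorem card_img {P : Subgroup G} (hZ : Z ≤ P) (hP : P ≤ R) : Nat.card P = 4 * Nat.card (h.img P) := by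
  obtain ⟨J, h1, h2⟩ := Ti.exists_img (P := P) (f := fun x => Multiplicative.ofAdd (p x))
    fun x hx y hy => congrArg _ (h.mul x (hP hx) y (hP hy))
  rw [h2 Z hZ fun x hx => h.ker x (hP hx), h.cardZ, mul_comm]
  exact congrArg _ (Nat.card_congr (Equiv.subtypeEquiv Multiplicative.toAdd fun e => (h1 e).trans
    ⟨fun ⟨x, a, b⟩ => ⟨x, a, hP a, b⟩, fun ⟨x, a, _, b⟩ => ⟨x, a, b⟩⟩))

theorem Z_le_sub (W : Submodule (ZMod 2) (V6 × V6)) : Z ≤ h.sub W := fun ζ hζ =>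
  ⟨h.ZR hζ, (h.ker ζ (h.ZR hζ)).2 hζ ▸ zero_mem _⟩

theorem card_sub (W : Submodule (ZMod 2) (V6 × V6)) : Nat.card (h.sub W) = 4 * Nat.card W := by
  rw [h.card_img (h.Z_le_sub W) fun _ hx => hx.1, show h.img (h.sub W) = W from le_antisymm
    (fun _ ⟨_, a, _, e⟩ => e ▸ a.2) fun v hv => by
      obtain ⟨r, hr, rfl⟩ := h.surj v
      exact ⟨r, ⟨hr, hv⟩, hr, rfl⟩]

theorem mem_of_img {P : Subgroup G} (hZ : Z ≤ P) {r : G} (hr : r ∈ R) (e : p r ∈ h.img P) : r ∈ P := by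
  obtain ⟨x, h1, h2, e⟩ := e
  exact (mul_mem_cancel_right (inv_mem h1)).1 (hZ ((h.p_eq hr h2).1 e.symm))

theorem ext' {a b : OrthE.O q6} (e : ∀ r ∈ R, a.1 (p r).1 = b.1 (p r).1) : a = b := O_ext fun v => by
  obtain ⟨r, hr, e'⟩ := h.surj (v, 0)
  simpa [e'] using e r hr

theorem p_conj {r s : G} (hr : r ∈ R) (hs : s ∈ R) : p (r * s * r⁻¹) = p s := by
  rw [h.mul _ (mul_mem hr hs) _ (inv_mem hr), h.mul r hr s hs, h.p_inv hr, add_right_comm,
    add_self_zmod2, zero_add]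

/-- the commutator with an element of `N(R) ∩ C(Z)` -/
theorem p_cm {g r : G} (hg : g ∈ normalizer (R : Set G)) (hg' : g ∈ centralizer (Z : Set G)) (hr : r ∈ R) :
    p ⁅r, g⁆ = ((ν g).1 (p r).1 + (p r).1, (ν g).1 (p r).2 + (p r).2) := by
  rw [show ⁅r, g⁆ = r * (g * r⁻¹ * g⁻¹) by simp only [commutatorElement_def, mul_assoc],
    h.mul r hr _ (conj_mem_of_mem_normalizer hg (inv_mem hr)), h.act g hg hg' _ (inv_mem hr), h.p_inv hr, add_comm]
  rfl

theorem cm_R {g r : G} (hg : g ∈ normalizer (R : Set G)) (hr : r ∈ R) : ⁅r, g⁆ ∈ R := by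
  simpa only [commutatorElement_def, mul_assoc] using mul_mem hr (conj_mem_of_mem_normalizer hg (inv_mem hr))

theorem cm_iff {g r : G} (hg : g ∈ normalizer (R : Set G)) (hg' : g ∈ centralizer (Z : Set G)) (hr : r ∈ R) :
    ⁅r, g⁆ ∈ Z ↔ (ν g).1 (p r).1 = (p r).1 ∧ (ν g).1 (p r).2 = (p r).2 := by
  rw [← h.ker _ (h.cm_R hg hr), h.p_cm hg hg' hr, Prod.mk_eq_zero, add_eq_zero_zmod2, add_eq_zero_zmod2]

end

end RM

theorem RM.conj (h : RM D Z R z1 z2 p ν) {g : G} (hg : g ∈ centralizer (Z : Set G)) :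
    RM D Z (cj g R) z1 z2 (fun y => p (g⁻¹ * y * g)) (fun y => ν (g⁻¹ * y * g)) := by
  have eZ : cj g Z = Z := mem_normalizer_iff_cj.1 (centralizer_le_normalizer _ hg)
  have m : ∀ x y, g⁻¹ * (x * y) * g = g⁻¹ * x * g * (g⁻¹ * y * g) := fun x y => by group
  have c : ∀ x y, g⁻¹ * (x * y * x⁻¹) * g = g⁻¹ * x * g * (g⁻¹ * y * g) * (g⁻¹ * x * g)⁻¹ := fun x y => by group
  have n : ∀ x ∈ normalizer ((cj g R : Subgroup G) : Set G), g⁻¹ * x * g ∈ normalizer (R : Set G) :=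
    fun x hx => by rwa [← cj_normalizer, mem_cj] at hx
  have z : ∀ x ∈ centralizer (Z : Set G), g⁻¹ * x * g ∈ centralizer (Z : Set G) :=
    fun x hx => mul_mem (mul_mem (inv_mem hg) hx) hg
  have d : ∀ x, g⁻¹ * x * g ∈ D ↔ x ∈ D := fun x =>
    ⟨fun k => by simpa [mul_assoc] using h.Dconj _ k g, fun k => by simpa using h.Dconj _ k g⁻¹⟩
  refine ⟨h.Dconj, h.memZ, h.o1, h.o2, h.ne, eZ.ge.trans (cj_mono g h.ZR), fun r hr => ?_, fun r hr s hs => ?_,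
    fun v => ?_, fun r hr => ?_, fun r hr => ?_, fun x h1 h2 r hr => ?_, fun x h1 h2 => h.memE _ (n x h1) (z x h2),
    fun x h1 h2 h3 h4 => mem_cj.2 (h.ker2 _ (n x h1) (z x h2) h3 ?_),
    fun r hr => (d r).symm.trans (h.memD _ (mem_cj.1 hr)), fun x hx r hr h1 h2 => ?_⟩
  · simpa [mul_assoc] using mul_mem (mul_mem hg (h.cen (mem_cj.1 hr))) (inv_mem hg)
  · rw [m, h.mul _ (mem_cj.1 hr) _ (mem_cj.1 hs)]
  · obtain ⟨r, hr, e⟩ := h.surj v
    exact ⟨g * r * g⁻¹, conj_mem_cj.2 hr, by simpa [mul_assoc] using e⟩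
  · rw [h.ker _ (mem_cj.1 hr), ← mem_cj, eZ]
  · have k := h.sq_mem (mem_cj.1 hr)
    rw [← h.sq _ (mem_cj.1 hr)]
    rw [← m, ← mem_cj, eZ] at k
    rw [← m, mul_assoc, hg _ k, inv_mul_cancel_left]
  · rw [c, h.act _ (n x h1) (z x h2) _ (mem_cj.1 hr)]
  · rw [show g⁻¹ * x * g = g⁻¹ * x * g⁻¹⁻¹ by rw [inv_inv], conj_pow, h4]; group
  · rw [← cj_normalizer, mem_cj]
    exact h.DN _ (z x hx) _ (mem_cj.1 hr) ((d r).2 h1) (c x r ▸ mem_cj.1 h2)

theorem RM.ν_mul (h : RM D Z R z1 z2 p ν) {g k : G} (hg : g ∈ normalizer (R : Set G))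
    (hg' : g ∈ centralizer (Z : Set G)) (hk : k ∈ normalizer (R : Set G))
    (hk' : k ∈ centralizer (Z : Set G)) : ν (g * k) = ν g * ν k := h.ext' fun r hr => by
  have := h.act _ (mul_mem hg hk) (mul_mem hg' hk') r hr
  rw [show g * k * r * (g * k)⁻¹ = g * (k * r * k⁻¹) * g⁻¹ by group,
    h.act g hg hg' _ (conj_mem_of_mem_normalizer hk hr), h.act k hk hk' r hr] at this
  exact (congrArg Prod.fst this).symm

theorem RM.ν_R (h : RM D Z R z1 z2 p ν) {r : G} (hr : r ∈ R) : ν r = 1 := h.ext' fun s hs => by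
  have := h.act r (le_normalizer hr) (h.cen hr) s hs
  rw [h.p_conj hr hs] at this
  exact (congrArg Prod.fst this).symm

theorem RM.comm (h : RM D Z R z1 z2 p ν) {r s : G} (hr : r ∈ R) (hs : s ∈ R) : ⁅r, s⁆ =
    z1 ^ (polar q6 (p r).1 (p s).1 + polar q6 (p r).1 (p s).2 + polar q6 (p r).2 (p s).1).val *
    z2 ^ (polar q6 (p r).2 (p s).2 + polar q6 (p r).1 (p s).2 + polar q6 (p r).2 (p s).1).val := by
  have e : ⁅r, s⁆ = r * s * (r * s) * (r * r) * (s * s) := by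
    have c := h.cZ (inv_mem (h.sq_mem hr)) (inv_mem hs)
    rw [← inv_eq_of_mul_eq_one_right (h.sqZ (h.sq_mem hr)), ← inv_eq_of_mul_eq_one_right (h.sqZ (h.sq_mem hs))]
    calc ⁅r, s⁆ = r * s * (r * s) * (s⁻¹ * (r * r)⁻¹) * s⁻¹ := by simp only [commutatorElement_def]; group
      _ = _ := by rw [← c]; group
  rw [e, h.sq _ (mul_mem hr hs), h.sq r hr, h.sq s hs, h.mul r hr s hs]
  refine ((congrArg (· * _) (h.ez_add _ _ _ _)).symm.trans (h.ez_add _ _ _ _).symm).trans ?_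
  simp only [Prod.fst_add, Prod.snd_add, Q_add, polar_add_left, polar_add_right, polar_comm q6 (p s).1 (p r).2]
  congr 1 <;> (generalize (q6 _ : ZMod 2) = a; generalize (q6 _ : ZMod 2) = b; ring_nf; simp [show (2 : ZMod 2) = 0 from rfl])

theorem RM.cardR (h : RM D Z R z1 z2 p ν) : Nat.card R = 2 ^ 14 := by
  have := h.card_sub ⊤
  rwa [show h.sub ⊤ = R from Subgroup.ext fun _ => and_iff_left trivial, Nat.card_congr Submodule.topEquiv.toEquiv,
    card_VV] at this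

namespace RM

variable {R' : Subgroup G} {p' : G → V6 × V6} {ν' : G → OrthE.O q6}

theorem sqD (h : RM D Z R z1 z2 p ν) {r : G} (hr : r ∈ R) (hD : r ∈ D) : r * r = 1 := by
  obtain ⟨a, b, c⟩ := (h.memD r hr).1 hD
  rw [h.sq r hr, a, b, c, z11]
  simp

theorem orth (h : RM D Z R z1 z2 p ν) {r s : G} (hr : r ∈ R) (hs : s ∈ R) (e : r * s = s * r) :
    β (p r) (p s) = 0 :=
  (h.ez_eq_one ((h.comm hr hs).symm.trans (commutatorElement_eq_one_iff_mul_comm.2 e))).2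

/-- the group induced by a subgroup of `N(R) ∩ C(Z)` -/
theorem exists_ν (h : RM D Z R z1 z2 p ν) {B : Subgroup G} (h1 : B ≤ normalizer (R : Set G))
    (h2 : B ≤ centralizer (Z : Set G)) (h4 : ∀ b ∈ B, b * b ∈ Z) : ∃ J : Subgroup (OrthE.O q6),
      (∀ e, e ∈ J ↔ ∃ x ∈ B, ν x = e) ∧ J ≤ OrthE.E q6 ∧ (∀ e ∈ J, e * e = 1) ∧
      Nat.card B = Nat.card J * Nat.card ↥(B ⊓ R) ∧
      ∀ y ∈ R, (∀ x ∈ B, ⁅y, x⁆ ∈ Z) → p y ∈ (Fix (J : Set (OrthE.O q6))).prod (Fix (J : Set (OrthE.O q6))) := by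
  obtain ⟨J, a, b⟩ := Ti.exists_img (P := B) (f := ν) fun x hx y hy => h.ν_mul (h1 hx) (h2 hx) (h1 hy) (h2 hy)
  refine ⟨J, a, fun e he => ?_, fun e he => ?_, b _ inf_le_left fun x hx => ⟨fun e => ⟨hx, h.ker2 x (h1 hx) (h2 hx) e ?_⟩,
    fun k => h.ν_R k.2⟩, fun y hy k => ⟨fun e he => ?_, fun e he => ?_⟩⟩
  · obtain ⟨x, hx, rfl⟩ := (a e).1 he
    exact h.memE x (h1 hx) (h2 hx)
  · obtain ⟨x, hx, rfl⟩ := (a e).1 he
    rw [← h.ν_mul (h1 hx) (h2 hx) (h1 hx) (h2 hx), h.ν_R (h.ZR (h4 x hx))]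
  · rw [← h.sqZ (h4 x hx), show 4 = 2 + 2 from rfl, pow_add, pow_two]
  all_goals obtain ⟨x, hx, rfl⟩ := (a e).1 he
  exacts [((h.cm_iff (h1 hx) (h2 hx) hy).1 (k x hx)).1, ((h.cm_iff (h1 hx) (h2 hx) hy).1 (k x hx)).2]

theorem cm_mem (h : RM D Z R z1 z2 p ν) {r s : G} (hr : r ∈ R) (hs : s ∈ R) : ⁅r, s⁆ ∈ Z :=
  h.comm hr hs ▸ h.ez_mem _ _

end RM

namespace P5

theorem tri {a b : V6} (ha : q6 a = 1) (hb : q6 b = 1) (hab : polar q6 a b = 1) :
    (q6 b = 1 ∧ q6 (a + b) = 1 ∧ polar q6 b (a + b) = 1) ∧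
      q6 (a + b) = 1 ∧ q6 a = 1 ∧ polar q6 (a + b) a = 1 := by
  simp only [Q_add, polar_add_left, polar_add_right, b_self, polar_comm q6 b a, ha, hb, hab]
  decide

theorem four_mul_le {K W : Submodule (ZMod 2) (V6 × V6)} (hK : K ≤ W) {u v : V6 × V6} (hu : u ∈ W)
    (hv : v ∈ W) (h1 : u ∉ K) (h2 : v ∉ K) (h3 : v + u ∉ K) : 4 * Nat.card K ≤ Nat.card W := by
  have a := Ti.two_mul_le_sub (U := K) (W := K ⊔ Submodule.span (ZMod 2) {u}) (lt_of_le_not_ge le_sup_left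
    fun k => h1 (k (Submodule.mem_sup_right (Submodule.mem_span_singleton_self u))))
  have b := Ti.two_mul_le_sub (U := K ⊔ Submodule.span (ZMod 2) {u}) (W := W) (lt_of_le_not_ge
    (sup_le hK ((Submodule.span_singleton_le_iff_mem _ _).2 hu)) fun k => by
      obtain ⟨x, hx, y, hy, e⟩ := Submodule.mem_sup.1 (k hv)
      obtain ⟨c, rfl⟩ := Submodule.mem_span_singleton.1 hy
      rcases zmod2_cases c with rfl | rfl
      · exact h2 (by rwa [← e, zero_smul, add_zero])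
      · exact h3 (by rwa [← e, one_smul, add_assoc, add_self_zmod2, add_zero]))
  omega

/-- the commutator space of an involution of type `a₂` -/
theorem exists_S {g : OrthE.O q6} {u w : V6} (h : Rk2 g u w) (hw : q6 w = 0) :
    ∃ S : Submodule (ZMod 2) V6, 4 ≤ Nat.card S ∧ (∀ y, y ∈ S ↔ ∃ v, y = g.1 v + v) ∧
      ∀ y ∈ S, q6 y = 0 ∧ g.1 y = y ∧ ∀ f, g.1 f = f → polar q6 y f = 0 := by
  let S := LinearMap.range (g.1.toLinearMap + LinearMap.id)
  have m : ∀ y, y ∈ S ↔ ∃ v, y = g.1 v + v := fun y => exists_congr fun v => eq_comm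
  have ⟨h1, h2, h3, h4, h5, _⟩ := h
  refine ⟨S, ?_, m, fun y hy => ?_⟩
  · have a := Ti.two_mul_le_sub (U := ⊥) (W := Submodule.span (ZMod 2) {u})
      (bot_lt_iff_ne_bot.2 (by simpa using h3))
    have b := Ti.two_mul_le_sub (U := Submodule.span (ZMod 2) {u}) (W := S) (lt_of_le_not_ge
      ((Submodule.span_singleton_le_iff_mem _ _).2 ((m u).2 (h.range6.2 (by simp)))) fun k => by
        obtain ⟨c, e⟩ := Submodule.mem_span_singleton.1 (k ((m w).2 (h.range6.2 (by simp))))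
        rcases zmod2_cases c with rfl | rfl
        · exact h4 (by rw [← e, zero_smul])
        · exact h5 (by rw [← e, one_smul]))
    rw [Nat.card_unique] at a
    omega
  · simp only [h.fix6]
    have h6 : polar q6 w u = 0 := (polar_comm _ _ _).trans h2
    refine ⟨?_, ?_, fun f hf => ?_⟩
    on_goal 3 => rw [polar_comm]
    all_goals rcases h.range6.1 ((m y).1 hy) with e | e | e | e <;>
      simp [e, Q_add, polar_add_left, polar_add_right, b_self, *]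

end P5

theorem RM.U' {R' : Subgroup G} {p' : G → V6 × V6} {ν' : G → OrthE.O q6} (h : RM D Z R z1 z2 p ν)
    (h' : RM D Z R' z1 z2 p' ν') (hI : ∀ r ∈ R, r ∈ R' → r ∉ D) {d : G} (hd : d ∈ R') (hD : d ∈ D)
    (hn : d ∈ normalizer (R : Set G)) : False := by
  have dc := h'.cen hd
  have d2 := h'.sqD hd hD
  have dR : d ∉ R := fun k => hI d k hd hD
  obtain ⟨u, w, rk⟩ := inv6 (h.memE d hn dc) (by rw [← h.ν_mul hn dc hn dc, d2, h.ν_R (one_mem _)])
    fun e => dR (h.ker2 d hn dc e (h'.pow4 hd))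
  set B := h.sub ((Fix {ν d}).prod (Fix {ν d})) with hB
  have cB : Nat.card B = 1024 := by rw [h.card_sub, card_prod, rk.card6]
  have mB : ∀ r ∈ B, ⁅r, d⁆ ∈ Z := fun r hr => (h.cm_iff hn dc hr.1).2 ⟨hr.2.1 _ rfl, hr.2.2 _ rfl⟩
  have BN : B ≤ normalizer (R' : Set G) := fun r hr => h'.DN r (h.cen hr.1) d hd hD (by
    simpa only [commutatorElement_def, inv_mul_cancel_right] using mul_mem (h'.ZR (mB r hr)) hd)
  have BR : B ≤ R' := by
    obtain ⟨J, hJ, JE, J2, cJ, fx⟩ := h'.exists_ν BN (fun r hr => h.cen hr.1) fun r hr => h.sq_mem hr.1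
    by_contra k
    have h1 := bound6 JE J2 fun e => k fun r hr => h'.ker2 r (BN hr) (h.cen hr.1)
      (mem_bot.1 (e.le ((hJ _).2 ⟨r, hr, rfl⟩))) (h.pow4 hr.1)
    have nD : ∀ v ∈ h'.img (B ⊓ R'), ¬ (q6 v.1 = 1 ∧ q6 v.2 = 1 ∧ polar q6 v.1 v.2 = 1) := by
      rintro _ ⟨r, hr, -, rfl⟩ k
      exact hI r hr.1.1 hr.2 ((h'.memD r hr.2).2 k)
    have hp := fx d hd fun x hx => by rw [← commutatorElement_inv]; exact inv_mem (mB x hx)
    obtain ⟨a, b, c⟩ := (h'.memD d hd).1 hD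
    have h2 := four_mul_le (K := h'.img (B ⊓ R')) (u := p' d) (v := ((p' d).2, (p' d).1 + (p' d).2)) (by
      rintro _ ⟨r, hr, -, rfl⟩
      exact fx r hr.2 fun x hx => h.cm_mem hr.1.1 hx.1) hp ⟨hp.2, add_mem hp.1 hp.2⟩ (fun k => nD _ k ⟨a, b, c⟩)
      (fun k => nD _ k (tri a b c).1) fun k => nD _ k (by
        simpa only [Prod.fst_add, Prod.snd_add, add_assoc, add_self_zmod2, add_zero, add_comm (p' d).2]
          using (tri a b c).2)
    rw [← h'.card_img (P := B ⊓ R') (le_inf (h.Z_le_sub _) h'.ZR) inf_le_right, card_prod, ← pow_two] at h2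
    have := Nat.mul_le_mul_left (Nat.card J) h2
    omega
  rcases zmod2_cases (q6 w) with hw | hw
  swap
  · obtain ⟨a, b, h1, h2, h3⟩ := rk.aniso6 hw
    obtain ⟨r, hr, e⟩ := h.surj (a, b)
    exact hI r hr (BR ⟨hr, e ▸ ⟨by rintro _ rfl; exact h1, by rintro _ rfl; exact h2⟩⟩)
      ((h.memD r hr).2 (e ▸ h3))
  obtain ⟨S, c4, mS, hS⟩ := exists_S rk hw
  set I := h.sub (S.prod S) with hI'
  have IB : I ≤ B := fun r hr => ⟨hr.1, by rintro _ rfl; exact (hS _ hr.2.1).2.1,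
    by rintro _ rfl; exact (hS _ hr.2.2).2.1⟩
  have cI : ∀ r ∈ I, ∀ s ∈ B, r * s = s * r := fun r hr s hs => by
    rw [← commutatorElement_eq_one_iff_mul_comm, h.comm hr.1 hs.1, polar_comm q6 (p r).2,
      (hS _ hr.2.1).2.2 _ (hs.2.1 _ rfl), (hS _ hr.2.1).2.2 _ (hs.2.2 _ rfl), polar_comm q6 (p s).1,
      (hS _ hr.2.2).2.2 _ (hs.2.1 _ rfl), (hS _ hr.2.2).2.2 _ (hs.2.2 _ rfl)]
    simp
  have dI : ∀ r ∈ I, r * d = d * r := fun r hr => by
    obtain ⟨v, e⟩ := (mS _).1 hr.2.1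
    obtain ⟨v', e'⟩ := (mS _).1 hr.2.2
    obtain ⟨c, hc, e''⟩ := h.surj (v, v')
    have k : p ⁅c, d⁆ = p r := by rw [h.p_cm hn dc hc, e'']; exact Prod.ext e.symm e'.symm
    have cR := h.cm_R hn hc
    have s2 : ⁅c, d⁆ * ⁅c, d⁆ = 1 := by
      rw [h.sq _ cR, k, (hS _ hr.2.1).1, (hS _ hr.2.2).1, (hS _ hr.2.1).2.2 _ (hS _ hr.2.2).2.1]
      simp
    have i := Ti.inverts (c := c) (d := d) (by rw [d2, one_mul, mul_one])
    rw [inv_eq_of_mul_eq_one_right s2, mul_inv_eq_iff_eq_mul] at i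
    have z := dc _ ((h.p_eq hr.1 cR).1 k.symm)
    calc r * d = r * ⁅c, d⁆⁻¹ * (⁅c, d⁆ * d) := by group
      _ = d * r := by rw [← i, ← mul_assoc, z]; group
  have o := Ti.card_orth β_nd (h'.img I)
  have c1 := h'.card_img (P := I) (h.Z_le_sub _) (IB.trans BR)
  rw [show Nat.card I = _ from h.card_sub _, card_prod] at c1
  have c2 := Nat.mul_le_mul c4 c4
  have m : ∀ s ∈ R', (∀ r ∈ I, r * s = s * r) → s ∈ h'.sub (β.orthogonal (h'.img I)) := fun s hs k =>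
    ⟨hs, by rintro _ ⟨r, a, b, rfl⟩; exact h'.orth b hs (k r a)⟩
  refine dR ((eq_of_le_of_card_ge (fun s hs => m s (BR hs) fun r hr => cI r hr s hs) ?_).ge (m d hd dI)).1
  rw [h'.card_sub, cB]
  rw [card_VV] at o
  have := Nat.mul_le_mul_right (Nat.card (β.orthogonal (h'.img I))) (show 16 ≤ Nat.card (h'.img I) by omega)
  omega

theorem RM.noD (h : RM D Z R z1 z2 p ν) {g : G} (hg : g ∈ centralizer (Z : Set G))
    (hn : g ∉ normalizer (R : Set G)) : ∀ r ∈ R, r ∈ cj g R → r ∉ D := fun r hr hr' hD =>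
  hn (h.DN g hg _ (mem_cj.1 hr') (by simpa using h.Dconj r hD g⁻¹) (by simpa [mul_assoc] using hr))

theorem RM.U (h : RM D Z R z1 z2 p ν) {g d : G} (hg : g ∈ centralizer (Z : Set G))
    (hd : d ∈ cj g R) (hD : d ∈ D) (hn : d ∈ normalizer (R : Set G)) : g ∈ normalizer (R : Set G) :=
  by_contra fun k => h.U' (h.conj hg) (h.noD hg k) hd hD hn

end CfsgLib.G2C
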