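import Cfsg.Agent.Lib.G2C.QB
import Cfsg.Agent.Lib.G2C.LA
import Cfsg.Agent.Lib.G2C.TI

/-! Package P6a: involutions of a conjugate of Q do not normalise Q (plans/G2C2.md) -/

set_option autoImplicit false
set_option linter.unusedSectionVars false

namespace CfsgLib.G2C

open Subgroup Cfsg CfsgLib.Tech CfsgLib.StdR2 CfsgLib.Chev CfsgLib.OrthE CfsgLib.ExtraTwo
  CfsgLib.Co1Rec QuadraticMap
open scoped commutatorElement

variable {F : Type*} [Field F] [Fintype F] {G : Type*} [Group G] [Finite G] {ι : Γ F →* G}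

variable {Q O : Subgroup G} {z : G} {π : G → V8} {ρ : G → OrthE.O q8}

/-- the centraliser of a four-group `⟨u, z⟩ ≤ Q` normalises `Q` -/
def SN (Q : Subgroup G) (z : G) : Prop := ∀ u ∈ Q, u * u = 1 → u ≠ 1 → u ≠ z →
  ∀ g, Commute g z → g * u * g⁻¹ ∈ Q → g ∈ normalizer (Q : Set G)

theorem QX.sn (h : QX Q O z π ρ) {s : G} (hs : s ∈ Q) (s2 : s * s = 1) (s1 : s ≠ 1) (sz : s ≠ z)
    (hc : ∀ g, Commute g z → Commute g s → g ∈ normalizer (Q : Set G)) : SN Q z := by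
  intro u hu u2 u1 uz g hg hgu
  obtain ⟨m, hm, rfl⟩ := h.toQX0.exists_conj hs s2 s1 sz hu u2 u1 uz
  obtain ⟨n, hn, e⟩ := h.toQX0.exists_conj hgu (by
    rw [show ∀ a : G, g * a * g⁻¹ * (g * a * g⁻¹) = g * (a * a) * g⁻¹ from fun a => by group, u2]; group)
    (by simpa using s1) (fun k => uz (by
      rw [mul_inv_eq_iff_eq_mul, ← hg.eq] at k; exact mul_left_cancel k)) hs s2 s1 sz
  have := hc (n * g * m) (((h.toQX0.qa.N_z hn).mul_left hg).mul_left (h.toQX0.qa.N_z hm))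
    (mul_inv_eq_iff_eq_mul.1 (by rw [← e]; conv_lhs => rw [e]; ; group))
  exact (mul_mem_cancel_left hn).1 ((mul_mem_cancel_right hm).1 this)

namespace P6

variable {Q' O' : Subgroup G} {π' : G → V8} {ρ' : G → OrthE.O q8} {d y : G} {v : V8}

omit [Finite G] in
theorem cm_Q {g u : G} (hg : g ∈ normalizer (Q : Set G)) (hu : u ∈ Q) : ⁅u, g⁆ ∈ Q := by
  simpa only [commutatorElement_def, mul_assoc] using mul_mem hu (conj_mem_of_mem_normalizer hg (inv_mem hu))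

theorem π_cm (h : QX Q O z π ρ) {g u : G} (hg : g ∈ normalizer (Q : Set G)) (hu : u ∈ Q) :
    π ⁅u, g⁆ = (ρ g).1 (π u) + π u := by
  rw [show ⁅u, g⁆ = u * (g * u⁻¹ * g⁻¹) by simp only [commutatorElement_def, mul_assoc],
    h.co.map_mul u hu _ (conj_mem_of_mem_normalizer hg (inv_mem hu)), ← h.act g hg _ (inv_mem hu),
    h.co.map_inv hu, add_comm]

theorem cm_iff (h : QX Q O z π ρ) {g u : G} (hg : g ∈ normalizer (Q : Set G)) (hu : u ∈ Q) :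
    ⁅u, g⁆ ∈ zpowers z ↔ (ρ g).1 (π u) = π u := by
  rw [h.co.es.mem_zpowers, ← h.co.ker _ (cm_Q hg hu), π_cm h hg hu, add_eq_zero_zmod2]

theorem card_z (h : QX Q O z π ρ) : Nat.card (zpowers z) = 2 := by rw [Nat.card_zpowers, h.co.es.orderOf_eq]

theorem mem_Fix {g : OrthE.O q8} : v ∈ Fix {g} ↔ g.1 v = v :=
  ⟨fun h => h _ rfl, fun h => by rintro _ rfl; exact h⟩

theorem orth_fix {g : OrthE.O q8} (h : g.1 v = v) (x : V8) : polar q8 v (g.1 x + x) = 0 := by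
  rw [← sub_zmod2]; exact polar_fix_sub h x

theorem exists_sing (h : QX Q O z π ρ) {W : Submodule (ZMod 2) V8} (hW : 4 < Nat.card W) :
    ∃ u ∈ Q, π u ∈ W ∧ u * u = 1 ∧ u ∉ zpowers z := by
  by_contra k
  refine hW.not_ge (aniso_le (q := q8) W.toAddSubgroup fun w hw e => by_contra fun k' => k ?_)
  obtain ⟨u, hu, rfl⟩ := h.co.surj w
  exact ⟨u, hu, hw, (h.co.sq u hu).1 e, fun k => k' ((h.co.ker u hu).2 (h.co.es.mem_zpowers.1 k))⟩

theorem le_card_fix {g : OrthE.O q8} (hg : g ∈ OrthE.E q8) (g2 : g * g = 1) : 16 ≤ Nat.card (Fix {g}) := by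
  by_cases g1 : g = 1
  · rw [show Fix {g} = ⊤ from eq_top_iff.2 fun v _ => mem_Fix.2 (g1 ▸ rfl),
      Nat.card_congr Submodule.topEquiv.toEquiv]
    simp
  rcases inv8 hg g2 g1 with ⟨u, w, k⟩ | k
  · rw [k.card8]; norm_num
  · exact k.1.ge

/-- two conjugates of `Q` with the same centre -/
structure Pr (Q Q' O O' : Subgroup G) (z : G) (π π' : G → V8) (ρ ρ' : G → OrthE.O q8) : Prop where
  h : QX Q O z π ρ
  h' : QX Q' O' z π' ρ'
  sn : SN Q z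
  sn' : SN Q' z
  an : ∀ u ∈ Q, u ∈ Q' → u * u = 1 → u ∈ zpowers z

/-- singular elements of `Q' ∩ N(Q)` -/
structure Sg (Q Q' : Subgroup G) (z d : G) : Prop where
  m : d ∈ Q'
  n : d ∈ normalizer (Q : Set G)
  sq : d * d = 1
  ne : d ∉ zpowers z

namespace Pr

variable (t : Pr Q Q' O O' z π π' ρ ρ')
include t

theorem symm : Pr Q' Q O' O z π' π ρ' ρ := ⟨t.h', t.h, t.sn', t.sn, fun u a b => t.an u b a⟩

theorem aniso (hv : v ∈ t.h.co.img Q') (e : q8 v = 0) : v = 0 := by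
  obtain ⟨u, a, b, rfl⟩ := hv
  exact (t.h.co.ker u b).2 (t.h.co.es.mem_zpowers.1 (t.an u b a ((t.h.co.sq u b).1 e)))

theorem cardI : Nat.card ↥(Q ⊓ Q') ≤ 8 := by
  have := aniso_le (q := q8) (t.h.co.img (Q ⊓ Q')).toAddSubgroup fun _ ⟨u, a, b, e⟩ => t.aniso ⟨u, a.2, b, e⟩
  rw [t.h.co.card_img inf_le_left ⟨t.h.co.es.mem, t.h'.co.es.mem⟩]
  exact Nat.mul_le_mul_left 2 this

theorem mem_Q (hy : y ∈ Q') (hn : y ∈ normalizer (Q : Set G)) (e : ρ y = 1) : y ∈ Q :=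
  t.h.toQX0.ker2 hn e (j := 2) (t.h'.co.es.pow_four hy)

theorem sq1 (hy : y ∈ Q') (hn : y ∈ normalizer (Q : Set G)) : ρ y * ρ y = 1 := by
  rw [← t.h.toQX0.qa.ρ_mul hn hn]
  exact t.h.toQX0.qa.ρ_Q ((t.h'.co.es.sq hy).elim (· ▸ one_mem _) (· ▸ t.h.co.es.mem))

theorem fixB (s : Sg Q Q' z d) {u : G} (hu : u ∈ Q) (e : (ρ d).1 (π u) = π u) : u ∈ normalizer (Q' : Set G) :=
  t.sn' d s.m s.sq (fun k => s.ne (k ▸ one_mem _)) (fun k => s.ne (k ▸ mem_zpowers _)) u (t.h.co.es.comm_z u hu) (by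
    simpa only [commutatorElement_def, inv_mul_cancel_right] using
      mul_mem (zpowers_le.2 t.h'.co.es.mem ((cm_iff t.h s.n hu).2 e)) s.m)

theorem fixB' (s : Sg Q Q' z d) (e : (ρ d).1 v = v) : v ∈ t.h.co.img (normalizer (Q' : Set G)) := by
  obtain ⟨u, hu, rfl⟩ := t.h.co.surj v
  exact ⟨u, t.fixB s hu e, hu, rfl⟩

theorem mov (hy : y ∈ Q') (hn : y ∈ normalizer (Q : Set G)) (hv : v ∈ t.h.co.img (normalizer (Q' : Set G)))
    (e : (ρ y).1 v ≠ v) : ∃ i ∈ t.h.co.img Q', i ≠ 0 ∧ (∀ j ∈ t.h.co.img Q', j = 0 ∨ j = i) ∧ (ρ y).1 i = i ∧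
      ∀ v ∈ t.h.co.img (normalizer (Q' : Set G)), (ρ y).1 v = v + polar q8 v i • i := by
  have m : ∀ v ∈ t.h.co.img (normalizer (Q' : Set G)), (ρ y).1 v + v ∈ t.h.co.img Q' := by
    rintro _ ⟨u, a, b, rfl⟩
    refine ⟨_, ?_, cm_Q hn b, π_cm t.h hn b⟩
    rw [← commutatorElement_inv]
    exact inv_mem (cm_Q a hy)
  have f : ∀ j ∈ t.h.co.img Q', (ρ y).1 j = j := by
    rintro _ ⟨u, a, b, rfl⟩
    exact (cm_iff t.h hn b).1 (t.h.co.es.mem_zpowers.2 (t.h'.co.es.commutator a hy))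
  have q1 : ∀ j ∈ t.h.co.img Q', j ≠ 0 → q8 j = 1 := fun j hj k => zmod2_ne_zero.1 fun e => k (t.aniso hj e)
  have i0 : (ρ y).1 v + v ≠ 0 := fun k => e (add_eq_zero_zmod2.1 k)
  have two : ∀ j ∈ t.h.co.img Q', j = 0 ∨ j = (ρ y).1 v + v := fun j hj => or_iff_not_imp_left.2 fun k =>
    add_eq_zero_zmod2.1 (t.aniso (add_mem hj (m v hv)) (by
      rw [Q_add, q1 j hj k, q1 _ (m v hv) i0, orth_fix (f j hj), add_zero, z11]))
  refine ⟨_, m v hv, i0, two, f _ (m v hv), fun x hx => ?_⟩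
  rcases two _ (m x hx) with k | k
  · rw [add_eq_zero_zmod2] at k
    rw [orth_fix k, zero_smul, add_zero, k]
  · have k' : (ρ y).1 x = x + ((ρ y).1 v + v) := by rw [← k, add_comm ((ρ y).1 x), aa']
    have := O_map (ρ y) x
    rw [k', Q_add, q1 _ (m v hv) i0, add_assoc, add_eq_left, add_eq_zero_zmod2] at this
    rw [← this, one_smul, k']

theorem big (s : Sg Q Q' z d) : 32 ≤ Nat.card ↥(Q ⊓ normalizer (Q' : Set G)) ∧ ∃ e, Sg Q' Q z e := by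
  have h1 := le_card_fix (t.h.memE d s.n) (t.sq1 s.m s.n)
  have h2 := card_le_of_le (show t.h.co.sub (Fix {ρ d}) ≤ Q ⊓ normalizer (Q' : Set G) from
    fun u hu => ⟨hu.1, t.fixB s hu.1 (mem_Fix.1 hu.2)⟩)
  rw [t.h.co.card_sub] at h2
  obtain ⟨u, a, b, c, e⟩ := exists_sing t.h (W := Fix {ρ d}) (by omega)
  exact ⟨by omega, u, a, t.fixB s a (mem_Fix.1 b), c, e⟩

theorem ne1 (s : Sg Q Q' z d) : ρ d ≠ 1 := fun k => s.ne (t.an d (t.mem_Q s.m s.n k) s.m s.sq)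

theorem rk4 (s : Sg Q Q' z d) : Nat.card (Fix {ρ d}) = 16 ∧ ∀ y, (ρ d).1 y = y → ∃ v, y = (ρ d).1 v + v := by
  refine (inv8 (t.h.memE d s.n) (t.sq1 s.m s.n) (t.ne1 s)).resolve_left fun ⟨u, w, rk⟩ => ?_
  obtain ⟨e, he⟩ := (t.big s).2
  have h1 := (t.symm.big he).1
  have qa := t.h.toQX0.qa
  let B : Subgroup G :=
    { carrier := {y | y ∈ Q' ⊓ normalizer (Q : Set G) ∧ ∀ v, (ρ d).1 v = v → (ρ y).1 v = v}
      one_mem' := ⟨one_mem _, fun v _ => by rw [qa.ρ_one]; rfl⟩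
      mul_mem' := fun ha hb => ⟨mul_mem ha.1 hb.1, fun v hv => by
        rw [qa.ρ_mul ha.1.2 hb.1.2, O_mul_apply, hb.2 v hv, ha.2 v hv]⟩
      inv_mem' := fun ha => ⟨inv_mem ha.1, fun v hv => by
        rw [qa.ρ_inv ha.1.2, O_inv_apply_eq _ (ha.2 v hv)]⟩ }
  have h2 : Nat.card B ≤ 2 * Nat.card ↥(Q ⊓ Q') := Ti.card_le_two (x := d) fun y hy => by
    by_cases k : ρ y = 1
    · exact .inl ⟨t.mem_Q hy.1.1 hy.1.2 k, hy.1.1⟩
    rcases inv8 (t.h.memE y hy.1.2) (t.sq1 hy.1.1 hy.1.2) k with ⟨u', w', rk'⟩ | k'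
    · exact .inr ⟨t.mem_Q (mul_mem hy.1.1 s.m) (mul_mem hy.1.2 s.n) (by
        rw [qa.ρ_mul hy.1.2 s.n, ← rk.eq8 rk' hy.2, t.sq1 s.m s.n]), mul_mem hy.1.1 s.m⟩
    · have := Ti.card_le_sub (show Fix {ρ d} ≤ Fix {ρ y} from fun v hv => mem_Fix.2 (hy.2 v (mem_Fix.1 hv)))
      rw [rk.card8, k'.1] at this
      omega
  by_cases k : Q' ⊓ normalizer (Q : Set G) ≤ B
  · have := card_le_of_le k
    have := t.cardI
    omega
  have mv : ∀ y ∈ Q' ⊓ normalizer (Q : Set G), y ∉ B → ∃ i ∈ t.h.co.img Q', i ≠ 0 ∧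
      (∀ j ∈ t.h.co.img Q', j = 0 ∨ j = i) ∧ (ρ y).1 i = i ∧
      ∀ v ∈ t.h.co.img (normalizer (Q' : Set G)), (ρ y).1 v = v + polar q8 v i • i := fun y hy hy' =>
    (not_forall.1 fun k => hy' ⟨hy, k⟩).elim fun v k =>
      t.mov hy.1 hy.2 (t.fixB' s (Classical.not_imp.1 k).1) (Classical.not_imp.1 k).2
  obtain ⟨y, hy, hy'⟩ := SetLike.not_le_iff_exists.1 k
  obtain ⟨i, ⟨x, x1, x2, rfl⟩, i0, two, -, f⟩ := mv y hy hy'
  have h3 : Nat.card ↥(Q ⊓ Q') ≤ 2 * Nat.card (zpowers z) := Ti.card_le_two (x := x) fun a ha =>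
    (two _ ⟨a, ha.2, ha.1, rfl⟩).imp (fun k => t.h.co.es.mem_zpowers.2 ((t.h.co.ker a ha.1).1 k)) fun k =>
      t.h.co.es.mem_zpowers.2 ((t.h.co.ker _ (mul_mem ha.1 x2)).1 (by rw [t.h.co.map_mul a ha.1 x x2, k, aa]))
  have h4 : Nat.card ↥(Q' ⊓ normalizer (Q : Set G)) ≤ 2 * Nat.card B := Ti.card_le_two (x := y) fun a ha =>
    or_iff_not_imp_left.2 fun k => ⟨mul_mem ha hy, fun v hv => by
      obtain ⟨j, j1, j0, -, f1, f'⟩ := mv a ha k
      obtain rfl := (two j j1).resolve_left j0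
      rw [qa.ρ_mul ha.2 hy.2, O_mul_apply, f v (t.fixB' s hv), map_add, map_smul, f1, f' v (t.fixB' s hv), aa'']⟩
  rw [card_z t.h] at h3
  omega

theorem iso (s : Sg Q Q' z d) {w : V8} (hv : (ρ d).1 v = v) (hw : (ρ d).1 w = w) : polar q8 v w = 0 := by
  obtain ⟨x, rfl⟩ := (t.rk4 s).2 w hw
  exact orth_fix hv x

theorem same {d' : G} (s : Sg Q Q' z d) (s' : Sg Q Q' z d') (hv : (ρ d).1 v = v) : (ρ d').1 v = v := by
  by_contra k
  obtain ⟨i, i1, i0, two, -, f⟩ := t.mov s'.m s'.n (t.fixB' s hv) k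
  by_cases k' : ∀ w ∈ t.h.co.img (normalizer (Q' : Set G)), (ρ d).1 w = w
  · exact k (mem_Fix.1 ((Ti.eq_of_card_sub (U := Fix {ρ d'}) (W := Fix {ρ d})
      (fun w hw => mem_Fix.2 (k' w (t.fixB' s' (mem_Fix.1 hw)))) (by rw [(t.rk4 s).1, (t.rk4 s').1])).ge
      (mem_Fix.2 hv)))
  push Not at k'
  obtain ⟨w, a, b⟩ := k'
  obtain ⟨j, j1, j0, -, -, f'⟩ := t.mov s.m s.n a b
  obtain rfl := (two j j1).resolve_left j0
  exact k ((f v (t.fixB' s hv)).trans ((f' v (t.fixB' s hv)).symm.trans hv))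

theorem inverts (s : Sg Q Q' z d) {w : G} (hw : w ∈ Q) (e : (ρ d).1 (π w) = π w) : d * w * d⁻¹ = w⁻¹ := by
  obtain ⟨x, k⟩ := (t.rk4 s).2 _ e
  obtain ⟨c, hc, rfl⟩ := t.h.co.surj x
  have i := Ti.inverts (c := c) (d := d) (by rw [s.sq, one_mul, mul_one])
  rcases (t.h.co.eq_iff (cm_Q s.n hc) hw).1 ((π_cm t.h s.n hc).trans k.symm) with rfl | rfl
  · exact i
  · rw [mul_inv_rev, ← i, t.h.co.es.inv_eq, ← t.h.co.es.comm_z _ (conj_mem_of_mem_normalizer s.n (cm_Q s.n hc)),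
      mul_assoc (d * _) d⁻¹, t.h'.co.es.comm_z _ (inv_mem s.m)]
    group

theorem tot (s : Sg Q Q' z d) {w : G} (hw : w ∈ Q) (e : (ρ d).1 (π w) = π w) : w * w = 1 := by
  obtain ⟨f, hf⟩ := (t.big s).2
  have c := t.h'.co
  have sq : ∀ a ∈ c.sub (Fix {ρ' f}), ∀ b ∈ c.sub (Fix {ρ' f}), q8 (π' (a * b)) = q8 (π' a) + q8 (π' b) :=
    fun a ha b hb => by
      rw [c.map_mul a ha.1 b hb.1, Q_add, t.symm.iso hf (mem_Fix.1 ha.2) (mem_Fix.1 hb.2), add_zero]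
  let N : Subgroup G :=
    { carrier := {a | a ∈ c.sub (Fix {ρ' f}) ∧ q8 (π' a) = 0}
      one_mem' := ⟨one_mem _, by rw [c.map_one, map_zero]⟩
      mul_mem' := fun ha hb => ⟨mul_mem ha.1 hb.1, by rw [sq _ ha.1 _ hb.1, ha.2, hb.2, add_zero]⟩
      inv_mem' := fun ha => ⟨inv_mem ha.1, by rw [c.map_inv ha.1.1, ha.2]⟩ }
  have h1 : Nat.card (c.sub (Fix {ρ' f})) ≤ 2 * Nat.card N := by
    by_cases k : c.sub (Fix {ρ' f}) ≤ N
    · exact Ti.card_le_two (x := 1) fun a ha => .inl (k ha)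
    obtain ⟨x, hx, hx'⟩ := SetLike.not_le_iff_exists.1 k
    exact Ti.card_le_two (x := x) fun a ha => or_iff_not_imp_left.2 fun k => ⟨mul_mem ha hx, by
      rw [sq a ha x hx, zmod2_ne_zero.1 fun e => k ⟨ha, e⟩, zmod2_ne_zero.1 fun e => hx' ⟨hx, e⟩, z11]⟩
  rw [c.card_sub, (t.symm.rk4 hf).1] at h1
  have ex : ∀ x, ∃ a ∈ N, a ∉ zpowers z ∧ a * x ∉ zpowers z := fun x => by
    by_contra k
    have := Ti.card_le_two (U := N) (N := zpowers z) (x := x) fun a ha => by_contra fun k' => k ⟨a, ha, not_or.1 k'⟩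
    rw [card_z t.h] at this
    omega
  obtain ⟨a, ha, a1, -⟩ := ex 1
  obtain ⟨b, hb, b1, b2⟩ := ex a
  have i : ∀ a ∈ N, a ∉ zpowers z → a * w * a⁻¹ = w⁻¹ := fun a ha a1 => by
    have s' : Sg Q Q' z a := ⟨ha.1.1, t.symm.fixB hf ha.1.1 (mem_Fix.1 ha.1.2), (c.sq a ha.1.1).1 ha.2, a1⟩
    exact t.inverts s' hw (t.same s s' e)
  have := i _ (mul_mem hb ha) b2
  rw [show b * a * w * (b * a)⁻¹ = (b * (a * w * a⁻¹)⁻¹ * b⁻¹)⁻¹ by group, i a ha a1, inv_inv, i b hb b1,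
    inv_inv] at this
  exact mul_eq_one_iff_eq_inv.2 this

theorem false (s : Sg Q Q' z d) : False := by
  obtain ⟨f, hf⟩ := (t.big s).2
  obtain ⟨w, hw, w1, -, w0⟩ := exists_sing t.h (W := Fix {ρ d}) (by rw [(t.rk4 s).1]; norm_num)
  obtain ⟨x, hx⟩ := nd8.exists_eq (fun k => w0 (t.h.co.es.mem_zpowers.2 ((t.h.co.ker w hw).1 k))) 1
  obtain ⟨c, hc, rfl⟩ := t.h.co.surj x
  have sg : ∀ a ∈ t.h'.co.sub (Fix {ρ' f}), a ∉ zpowers z → Sg Q Q' z a := fun a ha a1 =>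
    ⟨ha.1, t.symm.fixB hf ha.1 (mem_Fix.1 ha.2), t.symm.tot hf ha.1 (mem_Fix.1 ha.2), a1⟩
  have h1 := RuG.idx (K := t.h'.co.sub (Fix {ρ' f})) (N := zpowers z) (t := c)
    (N' := t.h.co.sub (Fix {ρ d} ⊓ LinearMap.ker (polarBilin q8 (π c))))
    (zpowers_le.2 ⟨t.h.co.es.mem, by rw [t.h.co.map_z]; exact zero_mem _⟩)
    (fun a ha => centralizer_le_normalizer _ (by
      rintro _ ⟨i, rfl⟩; exact (Commute.zpow_right (t.h'.co.es.comm_z a ha.1) i).eq.symm)) fun a ha => by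
      rw [← commutatorElement_inv]
      refine inv_mem ?_
      by_cases k : a ∈ zpowers z
      · rw [commutatorElement_eq_one_iff_mul_comm.2 ((t.h.co.es.mem_zpowers.1 k).elim (fun e => by simp [e])
          fun e => e ▸ t.h.co.es.comm_z c hc)]
        exact one_mem _
      have s' := sg a ha k
      have e : (ρ a).1 (π ⁅c, a⁆) = π ⁅c, a⁆ := by
        rw [π_cm t.h s'.n hc, map_add, ← O_mul_apply, t.sq1 s'.m s'.n, O_one_apply, add_comm]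
      refine ⟨cm_Q s'.n hc, mem_Fix.2 (t.same s' s e), ?_⟩
      have h2 := O_map (ρ a) (π c)
      rw [show (ρ a).1 (π c) = π c + π ⁅c, a⁆ by rw [π_cm t.h s'.n hc, add_comm ((ρ a).1 _), aa'], Q_add,
        (t.h.co.sq _ (cm_Q s'.n hc)).2 (t.tot s' (cm_Q s'.n hc) e), add_zero, add_eq_left] at h2
      exact h2
  have h2 := card_le_of_le (show t.h'.co.sub (Fix {ρ' f}) ⊓ RuG.mc {c} (zpowers z) ≤ zpowers z from
    fun a ha => by_contra fun k => by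
      have s' := sg a ha.1 k
      have := t.iso s (t.same s' s ((cm_iff t.h s'.n hc).1 (by
        rw [← commutatorElement_inv]; exact inv_mem (ha.2.2 c rfl)))) (mem_Fix.1 w1)
      exact zero_ne_one (this.symm.trans hx))
  have h3 := Ti.two_mul_le_sub (U := Fix {ρ d} ⊓ LinearMap.ker (polarBilin q8 (π c))) (W := Fix {ρ d})
    (lt_of_le_not_ge inf_le_left fun k => zero_ne_one ((k w1).2.symm.trans hx))
  rw [t.h'.co.card_sub, t.h.co.card_sub, (t.symm.rk4 hf).1, card_z t.h] at h1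
  rw [card_z t.h] at h2
  rw [(t.rk4 s).1] at h3
  have := Nat.mul_le_mul h2 h3
  omega

end Pr

theorem conj' (h : QX Q O z π ρ) {g : G} (hg : Commute g z) :
    QX (cj g Q) (cj g O) z (fun y => π (g⁻¹ * y * g)) (fun y => ρ (g⁻¹ * y * g)) := by
  have := h.conj g
  rwa [hg.eq, mul_inv_cancel_right] at this

theorem sn_conj (sn : SN Q z) {g : G} (hg : Commute g z) : SN (cj g Q) z := fun u hu u2 u1 uz k hk e => by
  rw [← cj_normalizer, mem_cj]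
  refine sn _ (mem_cj.1 hu) ?_ (by simpa [mul_assoc, inv_mul_eq_iff_eq_mul] using u1) (fun k => uz ?_) _
    ((hg.inv_left.mul_left hk).mul_left hg) (by simpa [mul_assoc] using mem_cj.1 e)
  · rw [show g⁻¹ * u * g * (g⁻¹ * u * g) = g⁻¹ * (u * u) * g by group, u2]; group
  · rw [mul_assoc, inv_mul_eq_iff_eq_mul, hg.eq] at k
    exact mul_right_cancel k

end P6

open P6

theorem QX.lemA (h : QX Q O z π ρ) (sn : SN Q z) {g d : G} (hg : Commute g z) (hd : d ∈ cj g Q)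
    (d2 : d * d = 1) (d1 : d ≠ 1) (dz : d ≠ z) (hn : d ∈ normalizer (Q : Set G)) :
    g ∈ normalizer (Q : Set G) := by
  refine by_contra fun k => Pr.false ⟨h, conj' h hg, sn, sn_conj sn hg, fun u a b c => by_contra fun k' => k ?_⟩
    ⟨hd, hn, d2, fun k => (h.co.es.mem_zpowers.1 k).elim d1 dz⟩
  refine inv_mem_iff.1 (sn u a c (fun e => k' (e ▸ one_mem _)) (fun e => k' (e ▸ mem_zpowers _)) g⁻¹ hg.inv_left ?_)
  simpa using mem_cj.1 b

end CfsgLib.G2C
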