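import Cfsg.Agent.Lib.G2C.Defs
import Cfsg.Agent.S1026
import Cfsg.Agent.S1027
import Cfsg.Agent.S1037

/-! Package REL: relations between the root elements (plans/G2C2.md) -/

set_option autoImplicit false
set_option linter.unusedSectionVars false

namespace CfsgLib.G2C

open Subgroup Cfsg CfsgLib.Tech CfsgLib.StdR2 CfsgLib.Chev CfsgLib.OrthE CfsgLib.ExtraTwo
  CfsgLib.Co1Rec QuadraticMap
open scoped commutatorElement

variable {F : Type*} [Field F] [Fintype F] {G : Type*} [Group G] [Finite G] {ι : Γ F →* G}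

/-- the normal form of the elements of `R_A` -/
noncomputable def rr (ι : Γ F →* G) (a b c d e : F) : G :=
  x ι 6 a * x ι 8 b * x ι 9 c * x ι 10 d * x ι 11 e

theorem neg_eq_sub : ∀ r < 12, Lie.chevG2.neg r = 11 - r := by decide

theorem word_val (w : List (ℕ × F)) : (((w.map fun p => xg p.1 p.2).prod : Γ F) : GL _ F) =
    wordU Lie.chevG2 F w := by
  induction w with
  | nil => rfl
  | cons a w ih => simp only [List.map_cons, List.prod_cons, wordU] at ih ⊢; rw [← ih]; rfl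

theorem word_map (ι : Γ F →* G) (w : List (ℕ × F)) :
    ι (w.map fun p => xg p.1 p.2).prod = (w.map fun p => x ι p.1 p.2).prod := by
  rw [map_list_prod, List.map_map]; rfl

theorem x_comm (ι : Γ F →* G) {r s : ℕ} (hr : r < 12) (hs : s < 12) (hn : r + s ≠ 11) (t u : F) :
    (x ι s u)⁻¹ * (x ι r t)⁻¹ * x ι s u * x ι r t =
      ((Lie.chevG2.commWord F r s t u).map fun p => x ι p.1 p.2).prod := by
  rw [← word_map, x, x, ← map_inv, ← map_inv, ← map_mul, ← map_mul, ← map_mul]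
  refine congrArg ι (Subtype.ext ?_)
  rw [word_val]
  exact xU_comm hr hs (by rw [neg_eq_sub r hr]; omega) t u

theorem hg_conj (ι : Γ F →* G) {r : ℕ} (hr : r < 12) {c : F} (hc : c ≠ 0) (s : ℕ) (t : F) :
    ι (hg r c) * x ι s t * (ι (hg r c))⁻¹ = x ι s (c ^ Lie.chevG2.pairing r s * t) := by
  rw [x, x, ← map_inv, ← map_mul, ← map_mul]
  exact congrArg ι (Subtype.ext (hU_conj_xU hr hc s t))

theorem ng_eq (ι : Γ F →* G) {r : ℕ} (hr : r < 12) (t : F) :
    ι (ng r t) = x ι r t * x ι (11 - r) (-t⁻¹) * x ι r t := by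
  rw [x, x, ← map_mul, ← map_mul, ← neg_eq_sub r hr]; rfl

theorem hg_mem (ι : Γ F →* G) {r : ℕ} (hr : r < 12) (t : F) : ι (hg r t) ∈ XX ι r ⊔ XX ι (11 - r) := by
  have e : ι (hg r t) = ι (ng r t) * ι (ng r (-1)) := by rw [← map_mul]; rfl
  have k : ∀ t, ι (ng r t) ∈ XX ι r ⊔ XX ι (11 - r) := fun t => by
    rw [ng_eq ι hr]
    exact mul_mem (mul_mem (mem_sup_left (x_mem _ _ _)) (mem_sup_right (x_mem _ _ _)))
      (mem_sup_left (x_mem _ _ _))
  exact e ▸ mul_mem (k _) (k _)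

theorem AA_le {M : Subgroup G} (h : ∀ r < 12, XX ι r ≤ M) : AA ι ≤ M := by
  rintro _ ⟨⟨g, hg⟩, rfl⟩
  have hg' := hg
  rw [group_eq] at hg'
  induction hg' using closure_induction with
  | mem y hy => obtain ⟨r, hr, t, rfl⟩ := hy; exact h r hr (x_mem ι r t)
  | one => exact (map_one ι).symm ▸ one_mem M
  | mul a b ha hb iha ihb =>
    rw [← group_eq] at ha hb
    exact (map_mul ι ⟨a, ha⟩ ⟨b, hb⟩).symm ▸ mul_mem (iha ha) (ihb hb)
  | inv a ha iha =>
    rw [← group_eq] at ha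
    exact (map_inv ι ⟨a, ha⟩).symm ▸ inv_mem (iha ha)

namespace Emb

variable (h : Emb ι)
include h

theorem charP : CharP F 2 := by
  obtain ⟨p, hp⟩ := CharP.exists F
  obtain ⟨n, h1, h2⟩ := FiniteField.card F p
  rw [h.hF] at h2
  have : p ∣ 2 ^ 2 := (show 2 ^ 2 = 4 from rfl) ▸ h2 ▸ dvd_pow_self p n.ne_zero
  obtain rfl : p = 2 := (Nat.prime_dvd_prime_iff_eq h1 Nat.prime_two).1 (h1.dvd_of_dvd_pow this)
  exact hp

theorem add_self (t : F) : t + t = 0 := by
  have := h.charP; exact CharTwo.add_self_eq_zero t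

theorem neg_eq (t : F) : -t = t := by
  have := h.charP; exact CharTwo.neg_eq t

theorem cube {t : F} (ht : t ≠ 0) : t ^ 3 = 1 := by
  have := FiniteField.pow_card_sub_one_eq_one t ht
  rwa [h.hF] at this

theorem exists_ω : ∃ ω : F, ω ^ 2 + ω + 1 = 0 ∧ ∀ t : F, t = 0 ∨ t = 1 ∨ t = ω ∨ t = ω + 1 := by
  classical
  have := h.charP
  obtain ⟨ω, h0, h1⟩ : ∃ ω : F, ω ≠ 0 ∧ ω ≠ 1 := by
    by_contra! k
    have : (Finset.univ : Finset F) ⊆ {0, 1} := fun a _ => by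
      by_cases e : a = 0 <;> simp [e, k a]
    have := (Finset.card_le_card this).trans Finset.card_le_two
    rw [Finset.card_univ, h.hF] at this; omega
  have e : ω ^ 2 + ω + 1 = 0 := by
    have := h.cube h0
    refine mul_left_cancel₀ (sub_ne_zero.2 h1) ?_
    linear_combination this
  refine ⟨ω, e, fun t => ?_⟩
  by_cases t0 : t = 0
  · exact .inl t0
  have two : (2 : F) = 0 := CharTwo.two_eq_zero
  have : (t - 1) * ((t - ω) * (t - (ω + 1))) = 0 := by
    linear_combination h.cube t0 + (t - 1) * e - (t - 1) * (t * ω + t + 1) * two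
  rcases mul_eq_zero.1 this with e1 | e1
  · exact .inr (.inl (sub_eq_zero.1 e1))
  · exact .inr (.inr ((mul_eq_zero.1 e1).imp sub_eq_zero.1 sub_eq_zero.1))

theorem x_sq (r : ℕ) (t : F) : x ι r t * x ι r t = 1 := by rw [← x_add, h.add_self, x_zero]

theorem x_inv' (r : ℕ) (t : F) : (x ι r t)⁻¹ = x ι r t := by rw [x_inv, h.neg_eq]

theorem x_eq_one {r : ℕ} (hr : r < 12) {t : F} : x ι r t = 1 ↔ t = 0 := by
  rw [x, map_eq_one_iff ι h.inj, Subtype.ext_iff]; exact xU_eq_one_iff hr t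

theorem card_XX {r : ℕ} (hr : r < 12) : Nat.card (XX ι r) = 4 := by
  rw [← h.hF, ← Nat.card_eq_fintype_card]
  refine (Nat.card_congr (Equiv.ofBijective (fun t : F => (⟨x ι r t, x_mem ι r t⟩ : XX ι r))
    ⟨fun t u e => ?_, fun ⟨_, t, e⟩ => ⟨t, Subtype.ext e.symm⟩⟩)).symm
  exact xU_injective hr (congrArg Subtype.val (h.inj (congrArg Subtype.val e)))

/-- use `by decide` for the last argument -/
theorem x_commute {r s : ℕ} (t u : F)
    (hc : r < 12 ∧ s < 12 ∧ r + s ≠ 11 ∧ ∀ c ∈ Lie.chevG2.commTerms r s, c.2.1 % 2 = 0) :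
    Commute (x ι r t) (x ι s u) := by
  have := h.charP
  have e := x_comm ι hc.1 hc.2.1 hc.2.2.1 t u
  rw [List.prod_eq_one fun y hy => ?_] at e
  · have : x ι s u * x ι r t = x ι r t * x ι s u * ((x ι s u)⁻¹ * (x ι r t)⁻¹ * x ι s u * x ι r t) := by
      group
    rw [e, mul_one] at this
    exact this.symm
  · simp only [Lie.ChevalleyDatum.commWord, List.map_map, List.mem_map, Function.comp] at hy
    obtain ⟨c, h1, rfl⟩ := hy
    rw [(CharP.intCast_eq_zero_iff F 2 _).2 (Int.dvd_of_emod_eq_zero (hc.2.2.2 c h1)), zero_mul,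
      zero_mul, x_zero]

theorem ng_conj {r s : ℕ} (hr : r < 12) (hs : s < 12) (u : F) :
    ι (ng r 1) * x ι s u * (ι (ng r 1))⁻¹ = x ι (Chev.refl Lie.chevG2 r s) u := by
  rw [x, x, ← map_inv, ← map_mul, ← map_mul]
  refine congrArg ι (Subtype.ext ((nU_conj_xU hr hs one_ne_zero u).trans ?_))
  rcases eta_eq (D := Lie.chevG2) hr hs with e | e <;> simp [e, h.neg_eq, xg]

theorem cardZ : Nat.card (ZZ ι) = 4 := h.card_XX (by decide)

theorem sqZ {ζ : G} (hζ : ζ ∈ ZZ ι) : ζ * ζ = 1 := by obtain ⟨t, rfl⟩ := hζ; exact h.x_sq _ t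

theorem commZ {ζ ξ : G} (hζ : ζ ∈ ZZ ι) (hξ : ξ ∈ ZZ ι) : Commute ζ ξ := by
  obtain ⟨t, rfl⟩ := hζ; obtain ⟨u, rfl⟩ := hξ
  rw [Commute, SemiconjBy, ← x_add, ← x_add, add_comm]

theorem zz_ne : zz ι ≠ 1 := fun e => one_ne_zero ((h.x_eq_one (by decide)).1 e)

theorem orderOf_zz : orderOf (zz ι) = 2 := orderOf_eq_two h.zz_ne (h.sqZ zz_mem)

/-- the four elements of `Z` -/
theorem mem_ZZ {s : G} (hs : s ∈ ZZ ι) (h1 : s ≠ 1) (h2 : s ≠ zz ι) {ζ : G} :
    ζ ∈ ZZ ι ↔ ζ = 1 ∨ ζ = zz ι ∨ ζ = s ∨ ζ = zz ι * s := by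
  refine ⟨?_, ?_⟩
  · obtain ⟨u, rfl⟩ := hs
    rintro ⟨t, rfl⟩
    obtain ⟨ω, -, k⟩ := h.exists_ω
    have u0 : u ≠ 0 := fun e => h1 (e ▸ x_zero ι 11)
    have u1 : u ≠ 1 := fun e => h2 (e ▸ rfl)
    have e1 : 1 + (ω + 1) = ω := by linear_combination h.add_self 1
    rw [zz, ← x_add]
    rcases k u with e | e | rfl | rfl
    · exact absurd e u0
    · exact absurd e u1
    · rcases k t with rfl | rfl | rfl | rfl <;> simp [x_zero, add_comm]
    · rw [e1]; rcases k t with rfl | rfl | rfl | rfl <;> simp [x_zero]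
  · rintro (rfl | rfl | rfl | rfl)
    exacts [one_mem _, zz_mem, hs, mul_mem zz_mem hs]

theorem swap {r s : ℕ} (hr : r < 12) (hs : s < 12) (hn : r + s ≠ 11) (t u : F) :
    x ι s u * x ι r t = x ι r t * x ι s u *
      ((Lie.chevG2.commWord F r s t u).map fun p => x ι p.1 p.2).prod := by
  rw [← x_comm ι hr hs hn]; group

theorem two_eq : (2 : F) = 0 := by have := h.charP; exact CharTwo.two_eq_zero

theorem three_eq : (3 : F) = 1 := by linear_combination h.two_eq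

theorem c10_6 (t u : F) : x ι 10 u * x ι 6 t = x ι 6 t * x ι 10 u * x ι 11 (t * u) := by
  rw [h.swap (by decide) (by decide) (by decide), Lie.ChevalleyDatum.commWord,
    show Lie.chevG2.commTerms 6 10 = [(11, 1, 1, 1)] by decide]
  simp [h.neg_eq]

theorem c9_8 (t u : F) : x ι 9 u * x ι 8 t = x ι 8 t * x ι 9 u * x ι 11 (t * u) := by
  rw [h.swap (by decide) (by decide) (by decide), Lie.ChevalleyDatum.commWord,
    show Lie.chevG2.commTerms 8 9 = [(11, 3, 1, 1)] by decide]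
  simp [h.neg_eq, h.three_eq]

theorem x11_comm {r : ℕ} (e t : F) (hr : r ∈ [4, 6, 7, 8, 9, 10, 11] := by decide) :
    Commute (x ι 11 e) (x ι r t) := by
  simp only [List.mem_cons, List.not_mem_nil, or_false] at hr
  rcases hr with rfl | rfl | rfl | rfl | rfl | rfl | rfl
  iterate 6 exact h.x_commute _ _ (by decide)
  exact h.commZ (x_mem _ _ _) (x_mem _ _ _)

omit h in
theorem lift {a b c d e : G} (k : a * b = c * d * e) (y : G) : a * (b * y) = c * (d * (e * y)) := by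
  rw [← mul_assoc, k]; group

omit h in
theorem x_add' (r : ℕ) (t u : F) (y : G) : x ι r t * (x ι r u * y) = x ι r (t + u) * y := by
  rw [x_add, mul_assoc]

theorem rr_mul (a b c d e a' b' c' d' e' : F) : rr ι a b c d e * rr ι a' b' c' d' e' =
    rr ι (a + a') (b + b') (c + c') (d + d') (e + e' + c * b' + d * a') := by
  have k : ∀ {r s : ℕ}, (r < 12 ∧ s < 12 ∧ r + s ≠ 11 ∧ ∀ c ∈ Lie.chevG2.commTerms r s, c.2.1 % 2 = 0) →
      ∀ t u y, x ι r t * (x ι s u * y) = x ι s u * (x ι r t * y) := fun hc t u y =>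
    (h.x_commute t u hc).left_comm y
  have e1 : ∀ g : G, g = g * 1 := fun g => (mul_one g).symm
  rw [e1 (_ * _), e1 (rr ι (a + a') _ _ _ _)]
  simp only [rr, mul_assoc, k (r := 11) (s := 6) (by decide), k (r := 11) (s := 8) (by decide),
    k (r := 11) (s := 9) (by decide), k (r := 11) (s := 10) (by decide), k (r := 10) (s := 8) (by decide),
    k (r := 10) (s := 9) (by decide), k (r := 9) (s := 6) (by decide), k (r := 8) (s := 6) (by decide),
    lift (h.c10_6 _ _), lift (h.c9_8 _ _), x_add']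
  congr 6
  ring

omit h in
theorem rr_zero : rr ι 0 0 0 0 0 = 1 := by simp [rr, x_zero]

omit h in
theorem x6_eq (a : F) : x ι 6 a = rr ι a 0 0 0 0 := by simp [rr, x_zero]

omit h in
theorem x8_eq (a : F) : x ι 8 a = rr ι 0 a 0 0 0 := by simp [rr, x_zero]

omit h in
theorem x9_eq (a : F) : x ι 9 a = rr ι 0 0 a 0 0 := by simp [rr, x_zero]

omit h in
theorem x10_eq (a : F) : x ι 10 a = rr ι 0 0 0 a 0 := by simp [rr, x_zero]

omit h in
theorem x11_eq (a : F) : x ι 11 a = rr ι 0 0 0 0 a := by simp [rr, x_zero]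

theorem rr_inv (a b c d e : F) : (rr ι a b c d e)⁻¹ = rr ι a b c d (e + c * b + d * a) := by
  rw [inv_eq_iff_mul_eq_one, h.rr_mul, h.add_self, h.add_self, h.add_self, h.add_self, ← rr_zero (ι := ι)]
  congr 1
  linear_combination (e + c * b + d * a) * h.two_eq

theorem rr_eq_one {a b c d e : F} (he : rr ι a b c d e = 1) :
    a = 0 ∧ b = 0 ∧ c = 0 ∧ d = 0 ∧ e = 0 := by
  obtain ⟨t, -, ht⟩ := (Cfsg.Agent.S1026.result (F := F) Lie.chevG2 (by simp)).1 1 (one_mem _)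
  have p : Lie.chevG2.posRoots = [6, 7, 8, 9, 10, 11] := by decide
  have k : ∀ r, ¬ Lie.chevG2.IsPosRoot r → r ∉ [6, 7, 8, 9, 10, 11] := fun r hr e =>
    hr ((by decide : ∀ r ∈ [6, 7, 8, 9, 10, 11], Lie.chevG2.IsPosRoot r) r e)
  have e1 := ht (fun _ => 0) ⟨fun _ _ => rfl, eq_wordU_iff.2 (by simp [p, wordU, xU_zero])⟩
  have e2 := ht (fun r => if r = 6 then a else if r = 8 then b else if r = 9 then c else
      if r = 10 then d else if r = 11 then e else 0) ⟨fun r hr => by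
    have := k r hr
    simp only [List.mem_cons, List.not_mem_nil, or_false, not_or] at this
    simp [this], eq_wordU_iff.2 (by
    rw [rr, x, x, x, x, x, ← map_mul, ← map_mul, ← map_mul, ← map_mul, map_eq_one_iff ι h.inj] at he
    have := congrArg Subtype.val he
    simpa [p, wordU, xU_zero, xg, mul_assoc] using this.symm)⟩
  have e3 := e2.trans e1.symm
  exact ⟨by simpa using congrFun e3 6, by simpa using congrFun e3 8, by simpa using congrFun e3 9,
    by simpa using congrFun e3 10, by simpa using congrFun e3 11⟩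

theorem rr_inj {a b c d e a' b' c' d' e' : F} (he : rr ι a b c d e = rr ι a' b' c' d' e') :
    a = a' ∧ b = b' ∧ c = c' ∧ d = d' ∧ e = e' := by
  have k : ∀ {t u : F}, t + u = 0 → t = u := fun {t u} e => by linear_combination e - h.add_self u
  have := mul_inv_eq_one.2 he
  rw [h.rr_inv, h.rr_mul] at this
  obtain ⟨h1, h2, h3, h4, h5⟩ := h.rr_eq_one this
  obtain rfl := k h1; obtain rfl := k h2; obtain rfl := k h3; obtain rfl := k h4
  exact ⟨rfl, rfl, rfl, rfl, k (by linear_combination h5 - (c * b + d * a) * h.two_eq)⟩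

theorem mem_RA {r : G} : r ∈ RA ι ↔ ∃ a b c d e, r = rr ι a b c d e := by
  refine ⟨fun hr => ?_, ?_⟩
  · let M : Subgroup G :=
      { carrier := {r | ∃ a b c d e, r = rr ι a b c d e}
        one_mem' := ⟨0, 0, 0, 0, 0, rr_zero.symm⟩
        mul_mem' := by
          rintro _ _ ⟨_, _, _, _, _, rfl⟩ ⟨_, _, _, _, _, rfl⟩
          exact ⟨_, _, _, _, _, h.rr_mul ..⟩
        inv_mem' := by rintro _ ⟨_, _, _, _, _, rfl⟩; exact ⟨_, _, _, _, _, h.rr_inv ..⟩ }
    refine (show RA ι ≤ M from sup_le (sup_le (sup_le (sup_le ?_ ?_) ?_) ?_) ?_) hr <;>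
      rintro _ ⟨t, rfl⟩
    exacts [⟨_, _, _, _, _, x6_eq t⟩, ⟨_, _, _, _, _, x8_eq t⟩, ⟨_, _, _, _, _, x9_eq t⟩,
      ⟨_, _, _, _, _, x10_eq t⟩, ⟨_, _, _, _, _, x11_eq t⟩]
  · rintro ⟨a, b, c, d, e, rfl⟩
    exact mul_mem_sup (mul_mem_sup (mul_mem_sup (mul_mem_sup (x_mem _ _ _) (x_mem _ _ _)) (x_mem _ _ _))
      (x_mem _ _ _)) (x_mem _ _ _)

theorem rr_mem_ZZ {a b c d e : F} : rr ι a b c d e ∈ ZZ ι ↔ a = 0 ∧ b = 0 ∧ c = 0 ∧ d = 0 := by
  refine ⟨fun ⟨t, e1⟩ => ?_, ?_⟩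
  · obtain ⟨h1, h2, h3, h4, -⟩ := h.rr_inj (e1.trans (x11_eq t))
    exact ⟨h1, h2, h3, h4⟩
  · rintro ⟨rfl, rfl, rfl, rfl⟩; exact ⟨e, (x11_eq e).symm⟩

theorem rr_comm (a b c d e a' b' c' d' e' : F) : ⁅rr ι a b c d e, rr ι a' b' c' d' e'⁆ =
    x ι 11 (a * d' + d * a' + b * c' + c * b') := by
  rw [commutatorElement_def, h.rr_inv, h.rr_inv, h.rr_mul, h.rr_mul, h.rr_mul, x11_eq]
  congr 1
  · linear_combination (a + a') * h.two_eq
  · linear_combination (b + b') * h.two_eq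
  · linear_combination (c + c') * h.two_eq
  · linear_combination (d + d') * h.two_eq
  · linear_combination (e + e' + c * b + d * a + c' * b' + d' * a' + c * b' + d * a') * h.two_eq

theorem conj_x {r s : ℕ} (hr : r < 12) (hs : s < 12) (hn : r + s ≠ 11) (t u : F) :
    x ι r t * x ι s u * (x ι r t)⁻¹ = x ι s u *
      ((Lie.chevG2.commWord F r s t u).map fun p => x ι p.1 p.2).prod := by
  rw [← x_comm ι hr hs hn, h.x_inv', h.x_inv', ← mul_assoc, ← mul_assoc, ← mul_assoc, h.x_sq, one_mul]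

omit h in
theorem conj_rr (g : G) (a b c d e : F) : g * rr ι a b c d e * g⁻¹ = g * x ι 6 a * g⁻¹ *
    (g * x ι 8 b * g⁻¹) * (g * x ι 9 c * g⁻¹) * (g * x ι 10 d * g⁻¹) * (g * x ι 11 e * g⁻¹) := by
  rw [rr]; group

theorem x7_rr (s a b c d e : F) : ∃ e', x ι 7 s * rr ι a b c d e * (x ι 7 s)⁻¹ =
    rr ι a (b + s * a) (c + s ^ 2 * a) (d + s ^ 3 * a + s ^ 2 * b + s * c) e' := by
  rw [conj_rr, (h.x_commute (r := 7) (s := 10) s d (by decide)).mul_inv_cancel,
    (h.x_commute (r := 7) (s := 11) s e (by decide)).mul_inv_cancel,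
    h.conj_x (by decide) (by decide) (by decide), h.conj_x (by decide) (by decide) (by decide),
    h.conj_x (by decide) (by decide) (by decide)]
  simp only [Lie.ChevalleyDatum.commWord,
    show Lie.chevG2.commTerms 7 6 = [(8, -1, 1, 1), (9, 1, 2, 1), (10, 1, 3, 1), (11, 1, 3, 2)] by decide,
    show Lie.chevG2.commTerms 7 8 = [(9, -2, 1, 1), (10, -3, 2, 1), (11, 3, 1, 2)] by decide,
    show Lie.chevG2.commTerms 7 9 = [(10, 3, 1, 1)] by decide, List.map_cons, List.map_nil,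
    List.prod_cons, List.prod_nil, mul_one, x6_eq, x8_eq, x9_eq, x10_eq, x11_eq, h.rr_mul]
  refine ⟨_, congrArg₂ (fun (p : F × F) (q : F × F) => rr ι p.1 p.2 q.1 q.2 _)
    (Prod.ext ?_ ?_ : (_, _) = (_, _)) (Prod.ext ?_ ?_ : (_, _) = (_, _))⟩ <;>
  simp [h.neg_eq, h.two_eq, h.three_eq] <;> ring

theorem x4_rr (s a b c d e : F) : ∃ e', x ι 4 s * rr ι a b c d e * (x ι 4 s)⁻¹ =
    rr ι (a + s * b + s ^ 2 * c + s ^ 3 * d) (b + s ^ 2 * d) (c + s * d) d e' := by
  rw [conj_rr, (h.x_commute (r := 4) (s := 6) s a (by decide)).mul_inv_cancel,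
    (h.x_commute (r := 4) (s := 11) s e (by decide)).mul_inv_cancel,
    h.conj_x (by decide) (by decide) (by decide), h.conj_x (by decide) (by decide) (by decide),
    h.conj_x (by decide) (by decide) (by decide)]
  simp only [Lie.ChevalleyDatum.commWord,
    show Lie.chevG2.commTerms 4 10 = [(9, 1, 1, 1), (8, -1, 2, 1), (6, 1, 3, 1), (11, -1, 3, 2)] by decide,
    show Lie.chevG2.commTerms 4 9 = [(8, -2, 1, 1), (6, 3, 2, 1), (11, -3, 1, 2)] by decide,
    show Lie.chevG2.commTerms 4 8 = [(6, -3, 1, 1)] by decide, List.map_cons, List.map_nil,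
    List.prod_cons, List.prod_nil, mul_one, x6_eq, x8_eq, x9_eq, x10_eq, x11_eq, h.rr_mul]
  refine ⟨_, congrArg₂ (fun (p : F × F) (q : F × F) => rr ι p.1 p.2 q.1 q.2 _)
    (Prod.ext ?_ ?_ : (_, _) = (_, _)) (Prod.ext ?_ ?_ : (_, _) = (_, _))⟩ <;>
  simp [h.neg_eq, h.two_eq, h.three_eq]

omit h in
theorem XX_eq (r : ℕ) : XX ι r = ((Lie.chevG2.rootSubgroup F r).subgroupOf (Lie.chevG2.group F)).map ι := by
  ext y
  refine ⟨fun ⟨t, e⟩ => ⟨xg r t, mem_rootSubgroup_iff.2 ⟨t, rfl⟩, e.symm⟩, fun ⟨g, h1, e⟩ => ?_⟩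
  obtain ⟨t, e1⟩ := mem_rootSubgroup_iff.1 h1
  exact ⟨t, e ▸ congrArg ι (Subtype.ext e1)⟩

omit h in
theorem U_eq : RA ι ⊔ XX ι 7 = ((Lie.chevG2.posUnipotent F).subgroupOf (Lie.chevG2.group F)).map ι := by
  have k : ∀ r, Lie.chevG2.IsPosRoot r →
      XX ι r ≤ ((Lie.chevG2.posUnipotent F).subgroupOf (Lie.chevG2.group F)).map ι :=
    fun r hr _ ⟨t, e⟩ => ⟨xg r t, xU_mem_posUnipotent hr t, e.symm⟩
  refine le_antisymm (sup_le (sup_le (sup_le (sup_le (sup_le (k _ (by decide)) (k _ (by decide)))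
    (k _ (by decide))) (k _ (by decide))) (k _ (by decide))) (k _ (by decide))) ?_
  rintro _ ⟨⟨g, hg⟩, h1, rfl⟩
  have h2 : g ∈ Lie.chevG2.posUnipotent F := h1
  clear h1
  rw [posUnipotent_eq] at h2
  induction h2 using closure_induction with
  | mem y hy =>
    obtain ⟨r, t, hr, rfl⟩ := hy
    have : r ∈ [6, 7, 8, 9, 10, 11] :=
      (by decide : ∀ r < 12, Lie.chevG2.IsPosRoot r → r ∈ [6, 7, 8, 9, 10, 11]) r hr.1 hr
    simp only [List.mem_cons, List.not_mem_nil, or_false] at this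
    have m := x_mem ι r t
    rcases this with rfl | rfl | rfl | rfl | rfl | rfl
    exacts [mem_sup_left (mem_sup_left (mem_sup_left (mem_sup_left (mem_sup_left m)))), mem_sup_right m,
      mem_sup_left (mem_sup_left (mem_sup_left (mem_sup_left (mem_sup_right m)))),
      mem_sup_left (mem_sup_left (mem_sup_left (mem_sup_right m))),
      mem_sup_left (mem_sup_left (mem_sup_right m)), mem_sup_left (mem_sup_right m)]
  | one => exact (map_one ι).symm ▸ one_mem _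
  | mul a b ha hb iha ihb =>
    have k : ∀ {a}, a ∈ closure {g | ∃ r t, Lie.chevG2.IsPosRoot r ∧ g = xU Lie.chevG2 F r t} →
        a ∈ Lie.chevG2.group F := fun h =>
      (closure_le _).2 (by rintro _ ⟨r, t, _, rfl⟩; exact xU_mem_group r t) h
    exact (map_mul ι ⟨a, k ha⟩ ⟨b, k hb⟩).symm ▸ mul_mem (iha _) (ihb _)
  | inv a ha iha => exact (map_inv ι ⟨a, inv_mem_iff.1 hg⟩).symm ▸ inv_mem (iha _)

/-- `U ∩ V = 1` -/
theorem eq_one_of_pos_neg {g : G} (h1 : g ∈ RA ι ⊔ XX ι 7)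
    (h2 : g ∈ XX ι 0 ⊔ XX ι 1 ⊔ XX ι 2 ⊔ XX ι 3 ⊔ XX ι 4 ⊔ XX ι 5) : g = 1 := by
  have k : ∀ r, Lie.chevG2.IsNegRoot r →
      XX ι r ≤ ((Lie.chevG2.negUnipotent F).subgroupOf (Lie.chevG2.group F)).map ι :=
    fun r hr _ ⟨t, e⟩ => ⟨xg r t, xU_mem_negUnipotent hr t, e.symm⟩
  obtain ⟨a, a1, rfl⟩ := sup_le (sup_le (sup_le (sup_le (sup_le (k _ (by decide)) (k _ (by decide)))
    (k _ (by decide))) (k _ (by decide))) (k _ (by decide))) (k _ (by decide)) h2
  rw [U_eq] at h1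
  obtain ⟨b, b1, e⟩ := h1
  obtain rfl := h.inj e
  have : (b : GL _ F) ∈ Lie.chevG2.borelSubgroup F ⊓ Lie.chevG2.negUnipotent F :=
    ⟨mem_sup_left b1, a1⟩
  rw [(Cfsg.Agent.S1037.result Lie.chevG2 (by simp)).1, mem_bot] at this
  rw [show b = 1 from Subtype.ext this, map_one]

/-- `U` is a Sylow 2-subgroup -/
theorem cardU : Nat.card (RA ι ⊔ XX ι 7 : Subgroup G) = 4096 := by
  have le : Lie.chevG2.posUnipotent F ≤ Lie.chevG2.group F := by
    rw [posUnipotent_eq, closure_le]; exact fun _ ⟨r, t, _, e⟩ => e ▸ xU_mem_group r t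
  rw [U_eq, card_map_of_injective h.inj, Nat.card_congr (subgroupOfEquivOfLe le).toEquiv,
    Cfsg.Agent.S1027.result Lie.chevG2 (by simp), h.hF]
  decide

end Emb

end CfsgLib.G2C
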