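import Cfsg.Agent.Lib.G2C.FC
import Cfsg.Agent.Lib.G2C.FD
import Cfsg.Agent.Lib.Alt4.R1

/-! Package SB: first consequences of standardness, an involution of long type (plans/G2C2.md) -/

set_option autoImplicit false
set_option linter.unusedSectionVars false

namespace CfsgLib.G2C

open Subgroup Cfsg CfsgLib.Tech CfsgLib.StdR2 CfsgLib.Chev CfsgLib.OrthE CfsgLib.ExtraTwo
  CfsgLib.Co1Rec QuadraticMap
open scoped commutatorElement

variable {F : Type*} [Field F] [Fintype F] {G : Type*} [Group G] [Finite G] {ι : Γ F →* G}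

namespace Std

variable (h : Std ι)
include h

theorem A_le_H : AA ι ≤ HH ι := h.norm ▸ le_normalizer

theorem KA_le_H : KK ι ⊔ AA ι ≤ HH ι := sup_le le_normalizer h.A_le_H

theorem mem_H {v c : G} (hv : v ∈ KK ι) (o : orderOf v = 2) (hc : c * v * c⁻¹ ∈ KK ι) : c ∈ HH ι :=
  mem_norm_of_conj h.ti hv o hc

theorem mem_H_of_comm {v c : G} (hv : v ∈ KK ι) (o : orderOf v = 2) (hc : Commute c v) :
    c ∈ HH ι := h.mem_H hv o (by rwa [hc.eq, mul_inv_cancel_right])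

theorem mem_cj_H {g t c : G} (ht : t ∈ cj g (KK ι)) (o : orderOf t = 2) (hc : Commute c t) :
    c ∈ cj g (HH ι) := by
  rw [← HH_cι]; rw [← KK_cι] at ht; exact (h.cι g).mem_H_of_comm ht o hc

theorem conj_A {g a : G} (hg : g ∈ HH ι) (ha : a ∈ AA ι) : g * a * g⁻¹ ∈ AA ι :=
  conj_mem_of_mem_normalizer (h.norm ▸ hg) ha

theorem conj_mem_cj_K {g c y : G} (hc : c ∈ cj g (HH ι)) (hy : y ∈ cj g (KK ι)) :
    c * y * c⁻¹ ∈ cj g (KK ι) := conj_mem_of_mem_normalizer (by rwa [← cj_normalizer]) hy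

theorem eq_one {g y : G} (hg : g ∉ HH ι) (h1 : y ∈ KK ι) (h2 : y ∈ cj g (KK ι)) (y2 : y * y = 1) :
    y = 1 := eq_one_of_two h.ti hg h1 h2 (j := 1) (by rw [pow_one, pow_two, y2])

theorem not_le_H {g t : G} (hg : g ∉ HH ι) (ht : t ∈ cj g (KK ι)) (htH : t ∈ HH ι)
    (o : orderOf t = 2) : ¬ AA ι ≤ cj g (HH ι) := fun hA => by
  have hn : ((cj g (KK ι)).subgroupOf (AA ι)).Normal :=
    ⟨fun b hb a => h.conj_mem_cj_K (hA a.2) hb⟩
  have := h.toEmb.simpleA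
  rcases hn.eq_bot_or_eq_top with e | e
  · have h3 : t ∈ KK ι := mem_KK.2 fun a ha => by
      have h4 : (⟨a * (t * a⁻¹ * t⁻¹), mul_mem ha (h.conj_A htH (inv_mem ha))⟩ : AA ι) ∈
          (cj g (KK ι)).subgroupOf (AA ι) := by
        rw [mem_subgroupOf]
        simpa only [mul_assoc] using mul_mem (h.conj_mem_cj_K (hA ha) ht) (inv_mem ht)
      rw [e, mem_bot, Subtype.ext_iff] at h4
      exact (commutatorElement_eq_one_iff_commute.1 (by
        simpa only [commutatorElement_def, mul_assoc, coe_one] using h4)).symm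
    exact ne_one_of_orderOf o (h.eq_one hg h3 ht (mul_self_of_orderOf o))
  · exact h.nc g hg (subgroupOf_eq_top.1 e)

theorem exists_two_inv {R : Subgroup G} (hR : IsSylowIn 2 R (KK ι)) :
    ∃ v ∈ R, ∃ w ∈ R, orderOf v = 2 ∧ orderOf w = 2 ∧ v ≠ w ∧ Commute v w := by
  obtain ⟨v, hv, w, hw, v2, w2, ne, c⟩ := h.four
  obtain ⟨k, -, hk⟩ := hR.exists_cj_le (Alt4.two_four (mul_self_of_orderOf v2)
    (mul_self_of_orderOf w2) c) ((closure_le _).2 (by rintro _ (rfl | rfl) <;> assumption))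
  exact ⟨_, hk (conj_mem_cj.2 (subset_closure (by simp))), _, hk (conj_mem_cj.2 (subset_closure
    (show w ∈ _ by simp))), (orderOf_conj_eq k v).trans v2, (orderOf_conj_eq k w).trans w2,
    by simpa using ne, c.map (MulAut.conj k).toMonoidHom⟩

/-- the two parts of an element of order at most 2 of `K × A` -/
theorem exists_k {t : G} (t2 : t * t = 1) (hi : t ∈ KK ι ⊔ AA ι) :
    ∃ k ∈ KK ι, ∃ a ∈ AA ι, k * k = 1 ∧ a * a = 1 ∧ t = k * a := by
  obtain ⟨k, hk, a, ha, rfl⟩ := mem_KA.1 hi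
  rw [← pow_two, (comm_KA hk ha).mul_pow, pow_two, pow_two, mul_eq_one_iff_eq_inv] at t2
  have := h.toEmb.eq_one_KA (mul_mem hk hk) (t2 ▸ inv_mem (mul_mem ha ha))
  exact ⟨k, hk, a, ha, this, inv_eq_one.1 (t2 ▸ this), rfl⟩

omit h in
theorem k_mem {R : Subgroup G} (hR : IsSylowIn 2 R (KK ι)) {a k : G} (hk : k ∈ KK ι) (ha : a ∈ AA ι)
    (k2 : k * k = 1) (hn : k * a ∈ normalizer (R : Set G)) : k ∈ R :=
  hR.le_of_normalizes (isPGroup_two_zpowers k2) (zpowers_le.2 hk) (zpowers_le.2 (by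
    have : a ∈ normalizer (R : Set G) := centralizer_le_normalizer _
      (mem_centralizer_iff.2 fun r hr => (comm_KA (hR.le hr) ha).eq)
    exact (mul_mem_cancel_right this).1 hn)) (mem_zpowers k)

omit h in
theorem comm_iff {a k r : G} (hr : r ∈ KK ι) (ha : a ∈ AA ι) :
    r * (k * a) = k * a * r ↔ r * k = k * r := by
  rw [mul_assoc, ← (comm_KA hr ha).eq, ← mul_assoc, ← mul_assoc, mul_left_inj]

/-- an inner involution of `K^g ∩ H` lies in a four-group of `K^g ∩ H` -/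
theorem four_of_inner {g t : G} (hg : g ∉ HH ι) (ht : t ∈ cj g (KK ι)) (o : orderOf t = 2)
    (hi : t ∈ KK ι ⊔ AA ι) :
    ∃ y ∈ cj g (KK ι), y ∈ HH ι ∧ orderOf y = 2 ∧ y ≠ t ∧ Commute y t := by
  by_contra! hne
  have t2 := mul_self_of_orderOf o
  obtain ⟨T, hT, hle⟩ := exists_isSylowIn_ge (H := cj g (KK ι) ⊓ HH ι) (isPGroup_two_zpowers t2)
    (zpowers_le.2 ⟨ht, h.KA_le_H hi⟩)
  have m := hle (mem_zpowers t)
  have h1 := Alt4.eq_of_no_four hT.pgroup m o fun y hy o' c =>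
    by_contra fun ne => hne y (hT.le hy).1 (hT.le hy).2 o' ne c
  have T1 : T ≠ ⊥ := fun e => ne_one_of_orderOf o (mem_bot.1 (e ▸ m))
  obtain ⟨R, R0, hR, -, hn, -, ⟨e⟩, -, hc⟩ := Alt4.exists_R0_iso h.ti hg hT T1 IsPGroup.of_bot bot_le
    (by rw [normalizer_eq_top]; exact le_top)
  have h2 : ∀ r ∈ R0, ∀ r' ∈ R0, orderOf r = 2 → orderOf r' = 2 → r = r' := fun r hr r' hr' o1 o2 =>
    congrArg Subtype.val (e.injective (a₁ := ⟨r, hr⟩) (a₂ := ⟨r', hr'⟩) (Subtype.ext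
      ((h1 _ (e _).2 (by rw [orderOf_coe, e.orderOf_eq, orderOf_mk, o1])).trans
        (h1 _ (e _).2 (by rw [orderOf_coe, e.orderOf_eq, orderOf_mk, o2])).symm)))
  obtain ⟨k, hk, a, ha, k2, -, rfl⟩ := h.exists_k t2 hi
  have kR := k_mem hR hk ha k2 (hn m)
  have h3 : ∀ r ∈ R, r * k = k * r → r ∈ R0 := fun r hr c =>
    hc _ m o r hr ((comm_iff (hR.le hr) ha).2 c)
  obtain ⟨v, hv, w, hw, v2, w2, ne, -⟩ := h.exists_two_inv hR
  obtain ⟨z, hz, z2, zc⟩ := exists_mem_center_of_normalized hR.pgroup le_rfl le_normalizer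
    fun e => ne_one_of_orderOf v2 (mem_bot.1 (e ▸ hv))
  have h4 : ∀ r ∈ R, r * k = k * r := fun r hr => by
    by_cases k1 : k = 1
    · rw [k1, mul_one, one_mul]
    · rw [h2 k (h3 k kR rfl) z (h3 z hz (zc k kR).symm) (orderOf_eq_two k1 k2) z2]
      exact zc r hr
  exact ne (h2 v (h3 v hv (h4 v hv)) w (h3 w hw (h4 w hw)) v2 w2)

theorem le_ncl : AA ι ≤ normalClosure (KK ι : Set G) := by
  obtain ⟨X, Xn, Xs, Xc, le⟩ := h.lay
  rcases (inferInstance : ((normalClosure (KK ι : Set G)).subgroupOf X).Normal).eq_bot_or_eq_top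
    with e | e
  · obtain ⟨v, hv, -, -, v2, -⟩ := h.four
    refine absurd (mem_bot.1 (Xc.le (mem_centralizer_iff.2 fun x hx => ?_))) (ne_one_of_orderOf v2)
    have h1 : x * v * x⁻¹ * v⁻¹ ∈ X := by
      simpa only [mul_assoc] using mul_mem hx (Xn.conj_mem _ (inv_mem hx) v)
    have h2 : (⟨_, h1⟩ : X) ∈ (normalClosure (KK ι : Set G)).subgroupOf X :=
      mul_mem (normalClosure_normal.conj_mem _ (subset_normalClosure hv) x)
        (inv_mem (subset_normalClosure hv))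
    rw [e, mem_bot, Subtype.ext_iff] at h2
    exact mul_inv_eq_iff_eq_mul.1 (mul_inv_eq_one.1 h2)
  · exact le.trans (subgroupOf_eq_top.1 e)

omit h in
theorem long_spec (e : Emb ι) {b : G} (hb : Long ι b) : b ∈ AA ι ∧ b * b = 1 ∧ b ≠ 1 := by
  obtain ⟨c, hc, rfl⟩ := hb
  exact ⟨mul_mem (mul_mem hc (LL_le (ZZ_le_LL zz_mem))) (inv_mem hc),
    by rw [conj_mul, e.sqZ zz_mem]; simp, by simpa using e.zz_ne⟩

theorem exists_inner : ∃ g, g ∉ HH ι ∧ ∃ t ∈ cj g (KK ι), orderOf t = 2 ∧ t ∈ KK ι ⊔ AA ι := by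
  by_contra hni
  have inn : ∀ {c k b : G}, k ∈ KK ι → b ∈ AA ι → k * b ∈ cj c (KK ι) → k * b * (k * b) = 1 →
      b = 1 := fun {c k b} hk hb hd d2 => by_contra fun b1 => by
    have hK : k * b ∉ KK ι := fun e => b1 (h.toEmb.eq_one_KA ((mul_mem_cancel_left hk).1 e) hb)
    exact hni ⟨c, fun hc => hK (mem_normalizer_iff_cj.1 hc ▸ hd), _, hd,
      orderOf_eq_two (fun e => hK (e ▸ one_mem _)) d2, mul_mem_sup hk hb⟩
  have hne : ¬ ∃ g, g ∉ HH ι ∧ ∃ t ∈ cj g (KK ι), ∃ y ∈ cj g (KK ι),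
      t ∈ HH ι ∧ y ∈ HH ι ∧ orderOf t = 2 ∧ orderOf y = 2 ∧ y ≠ t ∧ Commute y t := by
    rintro ⟨g, hg, t, ht, y, hy, tH, yH, ot, oy, ne, c⟩
    rcases h.toEmb.index_two (h.norm ▸ yH) (h.norm ▸ tH) with e | e | e
    · exact hni ⟨g, hg, y, hy, oy, e⟩
    · exact hni ⟨g, hg, t, ht, ot, e⟩
    · refine hni ⟨g, hg, _, mul_mem hy ht, orderOf_eq_two (fun e1 => ne ?_) (by
        rw [← pow_two, c.mul_pow, pow_two, pow_two, mul_self_of_orderOf oy, mul_self_of_orderOf ot, one_mul]), e⟩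
      rw [eq_inv_of_mul_eq_one_left e1, inv_eq_of_mul_eq_one_right (mul_self_of_orderOf ot)]
  have zA : zz ι ∈ AA ι := LL_le (ZZ_le_LL zz_mem)
  obtain ⟨g, hg, t, o, ht, htH⟩ := exists_conj_inv h.ti
    (fun e => h.nn (normalizer_eq_top_iff.2 e)) h.toEmb.orderOf_zz (h.A_le_H zA) (h.le_ncl zA)
    fun e => h.toEmb.zz_ne (h.toEmb.eq_one_KA e zA)
  have t2 := mul_self_of_orderOf o
  have t1 := ne_one_of_orderOf o
  have ni : t ∉ KK ι ⊔ AA ι := fun e => hni ⟨g, hg, t, ht, o, e⟩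
  have two : ∀ Q : Subgroup G, IsPGroup 2 Q → Q ≤ cj g (KK ι) ⊓ HH ι → t ∈ Q →
      ∀ x ∈ Q, x = 1 ∨ x = t := fun Q hQ hle m x hx => by
    have h1 := Alt4.eq_of_no_four hQ m o fun y hy o' c => by_contra fun ne =>
      hne ⟨g, hg, t, ht, y, (hle hy).1, htH, (hle hy).2, o, o', ne, c⟩
    obtain ⟨k, hk⟩ := isPGroup_iff_mem.1 hQ x hx
    induction k generalizing x with
    | zero => exact .inl (by simpa using hk)
    | succ k ih =>
      rcases ih _ (mul_mem hx hx) (by rw [← pow_two, ← pow_mul, ← pow_succ', hk]) with e | e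
      · exact or_iff_not_imp_left.2 fun x1 => h1 x hx (orderOf_eq_two x1 e)
      · rcases h.toEmb.index_two (h.norm ▸ (hle hx).2) (h.norm ▸ (hle hx).2) with e1 | e1 | e1
        exacts [absurd (e ▸ mul_mem e1 e1) ni, absurd (e ▸ mul_mem e1 e1) ni, absurd (e ▸ e1) ni]
  obtain ⟨T, hT, hle⟩ := exists_isSylowIn_ge (H := cj g (KK ι) ⊓ HH ι) (isPGroup_two_zpowers t2)
    (zpowers_le.2 ⟨ht, htH⟩)
  have m := hle (mem_zpowers t)
  obtain ⟨R, R0, hR, -, -, h0, ⟨e⟩, hc, -⟩ := Alt4.exists_R0_iso h.ti hg hT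
    (fun e => t1 (mem_bot.1 (e ▸ m))) IsPGroup.of_bot bot_le (by rw [normalizer_eq_top]; exact le_top)
  obtain ⟨r, rK, ro, rt⟩ : ∃ r ∈ KK ι, orderOf r = 2 ∧ Commute t r :=
    ⟨_, hR.le (h0 (e.symm ⟨t, m⟩).2), by rw [orderOf_coe, e.symm.orderOf_eq, orderOf_mk, o],
      (hc _ (e.symm ⟨t, m⟩).2 t m).symm⟩
  have r2 := mul_self_of_orderOf ro
  obtain ⟨a, ha, b, hb, eb⟩ := h.toEmb.exists_comm_long (h.norm ▸ htH) t2 ni
  obtain ⟨bA, u2, b1⟩ := long_spec h.toEmb hb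
  have ut : Commute b t := by
    have : b * t * (b * t) = 1 := by rw [eb, conj_mul, t2]; simp
    rw [Commute, SemiconjBy, ← inv_eq_of_mul_eq_one_right this, mul_inv_rev,
      inv_eq_of_mul_eq_one_right t2, inv_eq_of_mul_eq_one_right u2]
  have ur := (comm_KA rK bA).symm
  have q2 := Alt4.two_four t2 r2 rt
  have mq := @Alt4.mem_four _ _ _ _ _ t2 r2 rt
  have uq : b ∈ centralizer (closure ({t, r} : Set G) : Set G) := by
    rw [centralizer_closure]
    rintro _ (rfl | rfl)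
    exacts [ut.symm.eq, ur.symm.eq]
  have nK : ∀ x, Commute x t → x ∈ normalizer (cj g (KK ι) : Set G) := fun x hx =>
    mem_norm_cj h.ti ht o hx
  obtain ⟨R', hR', n', le'⟩ := Alt4.exists_syl_norm (K := cj g (KK ι))
    (q2.to_sup_of_normal_left' (isPGroup_two_zpowers u2)
      (zpowers_le.2 (centralizer_le_normalizer _ uq)))
    (sup_le ((closure_le _).2 (by
      rintro _ (rfl | rfl)
      exacts [nK _ (Commute.refl _), nK _ rt.symm])) (zpowers_le.2 (nK _ ut)))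
  have tR : t ∈ R' := le' ⟨mem_sup_left (mq.2 (by simp)), ht⟩
  have cr : ∀ x ∈ R', x * r = r * x → x = 1 ∨ x = t := fun x hx c =>
    two (R' ⊓ centralizer {r}) hR'.pgroup.to_inf_left (fun y hy => ⟨hR'.le hy.1,
      mem_norm_of_comm h.ti rK ro (mem_centralizer_singleton_iff.1 hy.2)⟩)
      ⟨tR, mem_centralizer_singleton_iff.2 rt⟩ x ⟨hx, mem_centralizer_singleton_iff.2 c⟩
  have cq : ∀ x ∈ R', x ∈ closure ({t, r} : Set G) → x = 1 ∨ x = t := fun x hx hq => cr x hx (by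
    rcases mq.1 hq with rfl | rfl | rfl | rfl
    exacts [by simp, rt, rfl, (rt.mul_left (Commute.refl r)).eq])
  obtain ⟨y, hy, hy', yn⟩ := exists_mem_normalizer_of_lt (Q := closure ({t, r} : Set G))
    (hR'.pgroup.to_sup_of_normal_left' q2 (le_sup_left.trans n')) (lt_of_le_of_ne le_sup_right
      fun e => by
        obtain ⟨v, hv, w, hw, v2, w2, ne, -⟩ := (h.cι g).exists_two_inv (by rwa [KK_cι])
        exact ne (((cq v hv (e.ge (mem_sup_left hv))).resolve_left (ne_one_of_orderOf v2)).trans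
          ((cq w hw (e.ge (mem_sup_left hw))).resolve_left (ne_one_of_orderOf w2)).symm))
  obtain ⟨x, hx, q, hq, rfl⟩ :=
    (LAE.mem_sup_iff_of_right_le_normalizer (le_sup_left.trans n')).1 hy
  replace yn := (mul_mem_cancel_right (le_normalizer hq)).1 yn
  replace hy' : x ∉ closure ({t, r} : Set G) := fun e => hy' (mul_mem e hq)
  have xt : x * t * x⁻¹ = t := (cq _ (mul_mem (mul_mem hx tR) (inv_mem hx))
    (conj_mem_of_mem_normalizer yn (mq.2 (by simp)))).resolve_left (by simpa using t1)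
  have xr : x * r * x⁻¹ = t * r := by
    rcases mq.1 (conj_mem_of_mem_normalizer yn (mq.2 (.inr (.inr (.inl rfl))))) with e | e | e | e
    · exact absurd (by simpa using e) (ne_one_of_orderOf ro)
    · rw [← xt, mul_left_inj, mul_right_inj] at e
      exact absurd (h.eq_one hg (e ▸ rK) ht t2) t1
    · rcases cr x hx (mul_inv_eq_iff_eq_mul.1 e) with rfl | rfl
      exacts [absurd (one_mem _) hy', absurd (mq.2 (by simp)) hy']
    · exact e
  have hx' := conj_mem_of_mem_normalizer (n' (mem_sup_right (mem_zpowers _))) hx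
  have xr' : b * x * b⁻¹ * r = t * r * (b * x * b⁻¹) := by
    calc _ = b * (x * r * x⁻¹) * x * b⁻¹ := by
          rw [mul_assoc _ _ r, ur.inv_left.eq]; group
      _ = _ := by rw [xr, (ut.mul_right ur).eq]; group
  rcases cr _ (mul_mem (inv_mem hx) hx') (by rw [mul_assoc, xr', ← xr]; group) with e | e
  · refine b1 (inn (c := x⁻¹ * a * x) rK bA ?_ (by
      rw [← pow_two, ur.symm.mul_pow, pow_two, pow_two, r2, u2, one_mul]))
    have e1 : x * b * x⁻¹ = b := by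
      rw [inv_mul_eq_one, eq_mul_inv_iff_mul_eq] at e; rw [e, mul_inv_cancel_right]
    have e2 : r * b = x⁻¹ * a * x * r * (x⁻¹ * a * x)⁻¹ := by
      calc r * b = x⁻¹ * (x * r * x⁻¹ * (x * b * x⁻¹)) * x := by group
        _ = x⁻¹ * (b * t * r) * x := by rw [xr, e1, ← (ut.mul_right ur).eq, mul_assoc b]
        _ = x⁻¹ * (a * (t * r) * a⁻¹) * x := by
          rw [eb, mul_assoc _ _ r, ← (comm_KA rK ha).inv_right.eq]; group
        _ = _ := by rw [← xr]; group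
    rw [e2]
    exact conj_mem_cj.2 rK
  · refine b1 (inn (c := x * a * g) (one_mem _) bA ?_ (by rw [one_mul, u2]))
    have e2 : b = x * a * t * (x * a)⁻¹ := by
      calc b = x * (x⁻¹ * (b * x * b⁻¹) * b) * x⁻¹ := by group
        _ = _ := by rw [e, ← ut.eq, eb]; group
    rw [one_mul, e2, cj_mul]
    exact conj_mem_cj.2 ht

/-- conjugation of the long type into the standard position -/
theorem long_std {g k b : G} (hk : k ∈ KK ι) (k2 : k * k = 1) (hb : Long ι b)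
    (hd : k * b ∈ cj g (KK ι)) :
    ∃ g, g ∉ HH ι ∧ ∃ k ∈ KK ι, k * k = 1 ∧ k * zz ι ∈ cj g (KK ι) := by
  obtain ⟨c, hc, rfl⟩ := hb
  have e : k * zz ι = c⁻¹ * (k * (c * zz ι * c⁻¹)) * c⁻¹⁻¹ := by
    rw [← mul_assoc k, ← mul_assoc k, (comm_KA hk hc).eq]; group
  have m : k * zz ι ∈ cj (c⁻¹ * g) (KK ι) := by rw [e, cj_mul]; exact conj_mem_cj.2 hd
  refine ⟨_, fun hH => ?_, k, hk, k2, m⟩
  rw [mem_normalizer_iff_cj.1 hH, mul_mem_cancel_left hk] at m
  exact h.toEmb.zz_ne (h.toEmb.eq_one_KA m (LL_le (ZZ_le_LL zz_mem)))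

/-- an involution of long type -/
theorem exists_long : ∃ g, g ∉ HH ι ∧ ∃ k ∈ KK ι, k * k = 1 ∧ k * zz ι ∈ cj g (KK ι) := by
  obtain ⟨g, hg, t, ht, o, hi⟩ := h.exists_inner
  obtain ⟨k, hk, a, ha, k2, a2, rfl⟩ := h.exists_k (mul_self_of_orderOf o) hi
  have a1 : a ≠ 1 := fun e => ne_one_of_orderOf o
    (h.eq_one hg (by rw [e, mul_one]; exact hk) ht (mul_self_of_orderOf o))
  rcases h.toEmb.classes ha (orderOf_eq_two a1 a2) with hl | ⟨c, hc, rfl⟩
  · exact h.long_std hk k2 hl ht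
  -- short type: move `a` to `x₉(1)`
  have e0 : k * x ι 9 1 = c⁻¹ * (k * (c * x ι 9 1 * c⁻¹)) * c⁻¹⁻¹ := by
    rw [← mul_assoc k, ← mul_assoc k, (comm_KA hk hc).eq]; group
  replace o : orderOf (k * x ι 9 1) = 2 := by rw [e0, orderOf_conj_eq, o]
  replace ht : k * x ι 9 1 ∈ cj (c⁻¹ * g) (KK ι) := by rw [e0, cj_mul]; exact conj_mem_cj.2 ht
  generalize c⁻¹ * g = g at ht
  obtain ⟨Λ, ΛA, Λp, Λc, a, ha, b, hb, az, bz, e⟩ := h.toEmb.short_data
  have k' := h.cι g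
  have ct : ∀ l ∈ Λ, Commute l (k * x ι 9 1) := fun l hl =>
    (comm_KA hk (ΛA hl)).symm.mul_right (Λc l hl)
  have le : Λ ≤ KK (G2C.cι g ι) ⊔ AA (G2C.cι g ι) := k'.toEmb.perf_le
    (fun l hl => by rw [k'.norm, HH_cι]; exact h.mem_cj_H ht o (ct l hl)) Λp
  obtain ⟨pK, pA, hp⟩ := k'.toEmb.exists_proj
  rw [← KK_cι] at ht
  have zΛ : zz ι ∈ Λ := e ▸ mul_mem (mul_mem (mul_mem ha hb) (inv_mem ha)) (inv_mem hb)
  set z' : (KK (G2C.cι g ι) ⊔ AA (G2C.cι g ι) : Subgroup G) := ⟨_, le zΛ⟩ with hz'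
  have z2 : z' * z' = 1 := Subtype.ext (h.toEmb.sqZ zz_mem)
  obtain ⟨zK, zA, ez⟩ := hp z'
  by_cases z1 : pA z' = 1
  · refine h.long_std (g := g) (one_mem _) (mul_one _) (h.toEmb.long_Z zz_mem h.toEmb.zz_ne) ?_
    rw [z1, mul_one] at ez
    rw [one_mul, ← KK_cι, show zz ι = pK z' from ez]; exact zK
  have hl : Long (G2C.cι g ι) (pA z') := (k'.toEmb.classes zA (orderOf_eq_two z1 (by
      rw [← map_mul, z2, map_one]))).resolve_right fun hs =>
    k'.toEmb.short_not_comm hs (hp ⟨a, le ha⟩).2.1 (hp ⟨b, le hb⟩).2.1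
      (Commute.map (Subtype.ext az.eq : Commute (⟨a, le ha⟩ : (KK _ ⊔ AA _ : Subgroup G)) z') pA)
      (Commute.map (Subtype.ext bz.eq : Commute (⟨b, le hb⟩ : (KK _ ⊔ AA _ : Subgroup G)) z') pA)
      (by rw [← map_commutatorElement]; exact congrArg pA (Subtype.ext e))
  obtain ⟨d, hd, ed⟩ := h.toEmb.short_mul
  have ctK : Commute (k * x ι 9 1) (pK z') := by
    have h1 : Commute (k * x ι 9 1) (pK z' * pA z') := ez ▸ (ct _ zΛ).symm
    simpa using h1.mul_right (comm_KA ht zA).inv_right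
  have e1 : k * x ι 9 1 * pK z' * pA z' = d * (k * x ι 9 1) * d⁻¹ := by
    rw [mul_assoc, ← ez, mul_assoc, ed, ← mul_assoc d, ← (comm_KA hk hd).eq]; group
  obtain ⟨g', g1, k1, k1K, k12, m⟩ := k'.long_std (g := d) (mul_mem ht zK) (by
    rw [← pow_two, ctK.mul_pow, pow_two, pow_two, mul_self_of_orderOf o, ← map_mul, z2, map_one, one_mul]) hl
    (e1 ▸ conj_mem_cj.2 ht)
  rw [HH_cι, mem_cj] at g1
  rw [KK_cι, mem_cj] at k1K
  refine ⟨_, g1, _, k1K, by simpa [mul_assoc] using congrArg (fun y => g⁻¹ * y * g) k12, ?_⟩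
  rw [KK_cι, zz_cι, ← cj_mul, mem_cj] at m
  rw [mem_cj]
  simpa [mul_assoc] using m

end Std

end CfsgLib.G2C
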