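import Cfsg.Agent.Lib.G2C.P0

/-! Package ZERO: consequences of stage 0 (plans/G2C2.md) -/

set_option autoImplicit false
set_option linter.unusedSectionVars false

namespace CfsgLib.G2C

open Subgroup Cfsg CfsgLib.Tech CfsgLib.StdR2 CfsgLib.Chev CfsgLib.OrthE CfsgLib.ExtraTwo
  CfsgLib.Co1Rec QuadraticMap
open scoped commutatorElement CfsgLib.BG

variable {F : Type*} [Field F] [Fintype F] {G : Type*} [Group G] [Finite G] {ι : Γ F →* G}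

variable {V O : Subgroup G} {n : G}

theorem Os_le_cj {g : G} (hg : g ∈ normalizer (EE ι V : Set G)) : Os ι V ≤ cj g (KK ι) := iInf₂_le g hg

theorem Os_le : Os ι V ≤ KK ι := (Os_le_cj (one_mem _)).trans (cj_one _).le

theorem mem_Os {y : G} : y ∈ Os ι V ↔ ∀ g ∈ normalizer (EE ι V : Set G), y ∈ cj g (KK ι) := by
  simp only [Os, mem_iInf]

theorem NE_Os : normalizer (EE ι V : Set G) ≤ normalizer (Os ι V : Set G) := fun m hm =>
  mem_normalizer_of_forall fun y hy => mem_Os.2 fun g hg => by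
    have := conj_mem_cj (g := m).2 (mem_Os.1 hy _ (mul_mem (inv_mem hm) hg))
    rwa [← cj_mul, mul_inv_cancel_left] at this

namespace S0

variable (h : S0 ι V O n)
include h

theorem VK : V ≤ KK ι := h.syl.le

theorem orderOf_V {v : G} (hv : v ∈ V) (h1 : v ≠ 1) : orderOf v = 2 := orderOf_two_of_mul_self (h.sqV v hv) h1

theorem commV {v w : G} (hv : v ∈ V) (hw : w ∈ V) : Commute v w := Alt4.commute_of_sq h.sqV hv hw

theorem V_cent_Z : V ≤ 𝒞(ZZ ι) := h.VK.trans (BG.centS ZA)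

theorem V_inf_Z : V ⊓ ZZ ι = ⊥ := le_bot_iff.1 ((inf_le_inf h.VK ZA).trans h.toEmb.K_inf_A.le)

theorem mem_E {e : G} : e ∈ EE ι V ↔ ∃ v ∈ V, ∃ ζ ∈ ZZ ι, e = v * ζ := by
  simp only [BG.mem_sup_norm_r (BG.cents_norm h.V_cent_Z), eq_comm]

theorem cardE : Nat.card (EE ι V) = 16 := by
  rw [BG.TI_cardMg (.inl (BG.cents_norm h.V_cent_Z)) h.V_inf_Z, h.cardV, h.toEmb.cardZ]

theorem sqE {e : G} (he : e ∈ EE ι V) : e * e = 1 := sq_sup h.sqV (fun _ => h.toEmb.sqZ) h.V_cent_Z e he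

theorem commE {e e' : G} (he : e ∈ EE ι V) (he' : e' ∈ EE ι V) : Commute e e' :=
  Alt4.commute_of_sq (fun _ => h.sqE) he he'

theorem E_inf_K {e : G} (he : e ∈ EE ι V) (hk : e ∈ KK ι) : e ∈ V := by
  obtain ⟨v, hv, ζ, hζ, rfl⟩ := h.mem_E.1 he
  rwa [h.toEmb.eq_one_KA ((mul_mem_cancel_left (h.VK hv)).1 hk) (ZA hζ), mul_one]

theorem E_inf_A {e : G} (he : e ∈ EE ι V) (ha : e ∈ AA ι) : e ∈ ZZ ι := by
  obtain ⟨v, hv, ζ, hζ, rfl⟩ := h.mem_E.1 he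
  rwa [h.toEmb.eq_one_KA (h.VK hv) ((mul_mem_cancel_right (ZA hζ)).1 ha), one_mul]

/-- 2-elements of `K` that normalise `V` -/
theorem mem_V {k : G} (hk : k ∈ KK ι) (hn : k ∈ normalizer (V : Set G)) {j : ℕ} (h2 : k ^ 2 ^ j = 1) :
    k ∈ V :=
  zpowers_le.1 (h.syl.le_of_normalizes (isPGroup_zpowers_of_pow h2) (zpowers_le.2 hk) (zpowers_le.2 hn))

theorem exists_v : ∃ v ∈ V, v ≠ 1 := BG.exists_ne_one_of_ne_bot (BG.cardG_gt1.1 (by rw [h.cardV]; norm_num))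

theorem cE {c : G} : (∀ e ∈ EE ι V, Commute c e) ↔ ∃ v ∈ V, ∃ o ∈ O, ∃ l ∈ LL ι, c = v * o * l := by
  constructor
  · intro hc
    obtain ⟨v, hv, v1⟩ := h.exists_v
    have hH := h.toStd.mem_H_of_comm (h.VK hv) (h.orderOf_V hv v1) (hc v (mem_sup_left hv))
    obtain ⟨k, hk, a, ha, rfl⟩ := mem_KA.1 (h.toEmb.inner_of_Z (h.norm.ge hH) fun ζ hζ => hc ζ (mem_sup_right hζ))
    obtain ⟨w, hw, o, ho, rfl⟩ := h.cV k hk fun w hw => by
      simpa using (hc w (mem_sup_left hw)).mul_left (comm_KA (h.VK hw) ha).symm.inv_left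
    refine ⟨w, hw, o, ho, a, h.toEmb.cent_Z ha zz_mem h.toEmb.zz_ne ?_, rfl⟩
    simpa only [inv_mul_cancel_left] using (comm_KA hk (ZA zz_mem)).inv_left.mul_left (hc _ (mem_sup_right zz_mem))
  · rintro ⟨v, hv, o, ho, l, hl, rfl⟩ e he
    obtain ⟨w, hw, ζ, hζ, rfl⟩ := h.mem_E.1 he
    exact ((h.commE (mem_sup_left hv) he).mul_left ((h.OV o ho w hw).mul_right (comm_KA (h.OK ho) (ZA hζ)))).mul_left
      ((comm_KA (h.VK hw) (LL_le hl)).symm.mul_right (h.toEmb.LZ hl hζ))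

theorem notD {y : G} (hy : IsConj (zz ι) y) : y ∉ DD ι := by
  obtain ⟨c, rfl⟩ := isConj_iff.1 hy
  rintro ⟨-, g, hg⟩
  exact h.nD (c⁻¹ * g) (by rw [cj_mul]; exact mem_cj.2 (by simpa using hg))

theorem notD_Z {ζ : G} (hζ : ζ ∈ ZZ ι) : ζ ∉ DD ι := fun ⟨o, _, hg⟩ =>
  ne_one_of_orderOf_two o (h.toEmb.eq_one_of_nD h.nD hζ hg)

theorem graph' {g : G} (h1 : g ∈ normalizer (EE ι V : Set G)) {v : G} (hv : v ∈ V) :
    ∃ ζ ∈ ZZ ι, v * ζ ∈ cj g V := by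
  have h2 : cj g V ≤ EE ι V := (cj_mono g le_sup_left).trans (mem_normalizer_iff_cj.1 h1).le
  have h3 : cj g V ≤ 𝒩(ZZ ι) := BG.cents_norm (BG.centSS h2 le_sup_right (cents_of_sq fun _ => h.sqE))
  have h4 : cj g V ⊔ ZZ ι = EE ι V := BG.eq_of_le_card (sup_le h2 le_sup_right) (by
    rw [BG.TI_cardMg (.inl h3) (le_bot_iff.1 fun u hu => h.toEmb.eq_one_of_nD h.nD hu.2 (cj_mono g h.VK hu.1)),
      card_cj, h.cardV, h.cardE, h.toEmb.cardZ])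
  obtain ⟨w, hw, ζ, hζ, rfl⟩ := (BG.mem_sup_norm_r h3).1 (h4.ge (mem_sup_left hv))
  exact ⟨ζ⁻¹, inv_mem hζ, by simpa using hw⟩

/-- a conjugate of `V` in `E` is `V` or the graph of an isomorphism `V → Z` -/
theorem graph {g : G} (h1 : g ∈ normalizer (EE ι V : Set G)) (h2 : g ∉ HH ι) {v : G} (hv : v ∈ V)
    (v1 : v ≠ 1) : ∃ ζ ∈ ZZ ι, ζ ≠ 1 ∧ v * ζ ∈ cj g V := by
  obtain ⟨ζ, hζ, h3⟩ := h.graph' h1 hv
  refine ⟨ζ, hζ, fun e => v1 (eq_one_of_two h.ti h2 (h.VK hv) (cj_mono g h.VK ?_) (j := 1) ?_), h3⟩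
  · simpa [e] using h3
  · simpa [pow_two] using h.sqV v hv

theorem memD {e : G} (he : e ∈ EE ι V) (hZ : e ∉ ZZ ι) : e ∈ DD ι := by
  have o : orderOf e = 2 := orderOf_two_of_mul_self (h.sqE he) fun e1 => hZ (e1 ▸ one_mem _)
  obtain ⟨v, hv, ζ, hζ, rfl⟩ := h.mem_E.1 he
  by_cases h1 : ζ = 1
  · exact ⟨o, 1, by rw [cj_one, h1, mul_one]; exact h.VK hv⟩
  obtain ⟨ξ, hξ, ξ1, h2⟩ := h.graph h.nE h.nH hv fun e1 => hZ (by rwa [e1, one_mul])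
  obtain ⟨τ, hτ⟩ := h.toEmb.exists_tau
  obtain ⟨i, rfl⟩ := hτ.trans h.toEmb hξ ξ1 hζ h1
  refine ⟨o, τ ^ i * n, ?_⟩
  rw [cj_mul, ← mul_assoc, ← mul_assoc, comm_KA (h.VK hv) (pow_mem hτ.memA i), mul_assoc (τ ^ i)]
  exact conj_mem_cj.2 (cj_mono n h.VK h2)

/-- every element of `D` is conjugate into `V` -/
theorem exists_conj_V {d : G} (hd : d ∈ DD ι) : ∃ g, ∃ v ∈ V, v ≠ 1 ∧ d = g * v * g⁻¹ := by
  obtain ⟨o, g, hg⟩ := hd
  obtain ⟨c, -, hc⟩ := (h.syl.cj g).exists_conj_mem hg (isPGroup_two_zpowers (mul_self_of_orderOf_two o))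
  refine ⟨c⁻¹ * g, _, mem_cj.1 hc, fun e => ne_one_of_orderOf_two o ?_, by group⟩
  rw [show d = (c⁻¹ * g) * (g⁻¹ * (c * d * c⁻¹) * g) * (c⁻¹ * g)⁻¹ by group, e]; group

theorem NE_Z : normalizer (EE ι V : Set G) ≤ normalizer (ZZ ι : Set G) := fun g hg =>
  mem_normalizer_of_forall fun ζ hζ => by
    by_contra hn
    have := DD_conj (h.memD (conj_mem_of_mem_normalizer hg (mem_sup_right hζ)) hn) g⁻¹
    exact h.notD_Z hζ (by simpa [mul_assoc] using this)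

theorem mem_CE {c : G} : c ∈ 𝒞(EE ι V) ↔ ∃ v ∈ V, ∃ o ∈ O, ∃ l ∈ LL ι, c = v * o * l :=
  Iff.trans ⟨fun hc e he => (hc e he).symm, fun hc e he => (hc e he).symm⟩ h.cE

theorem O_le_CE : O ≤ 𝒞(EE ι V) := fun o ho => h.mem_CE.2 ⟨1, one_mem _, o, ho, 1, one_mem _, by simp⟩

theorem L_le_CE : LL ι ≤ 𝒞(EE ι V) := fun l hl => h.mem_CE.2 ⟨1, one_mem _, 1, one_mem _, l, hl, by simp⟩

theorem CE_le : 𝒞(EE ι V) ≤ KK ι ⊔ AA ι := fun c hc => by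
  obtain ⟨v, hv, o, ho, l, hl, rfl⟩ := h.mem_CE.1 hc
  exact mul_mem (mem_sup_left (mul_mem (h.VK hv) (h.OK ho))) (mem_sup_right (LL_le hl))

theorem CE_norm_O : 𝒞(EE ι V) ≤ 𝒩(O) := fun c hc => by
  obtain ⟨v, hv, o, ho, l, hl, rfl⟩ := h.mem_CE.1 hc
  exact mul_mem (mul_mem (BG.cent_sub _ fun o ho => h.OV o ho v hv) (le_normalizer ho))
    (BG.cent_sub _ fun o ho => comm_KA (h.OK ho) (LL_le hl))

theorem cj_CE {g : G} (hg : g ∈ normalizer (EE ι V : Set G)) : cj g 𝒞(EE ι V) = 𝒞(EE ι V) := by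
  rw [cj_centralizer, mem_normalizer_iff_cj.1 hg]

theorem v_eq_one {v o : G} (hv : v ∈ V) (ho : o ∈ O) {m : ℕ} (hm : Odd m) (h1 : (v * o) ^ m = 1) : v = 1 := by
  have h2 : (v * o) ^ (m * Nat.card O) = 1 := by rw [pow_mul, h1, one_pow]
  obtain ⟨j, hj⟩ := hm.mul h.odd
  have h3 : o ^ Nat.card O = 1 := orderOf_dvd_iff_pow_eq_one.1 (BG.order_dvdG ho)
  rw [(h.OV o ho v hv).symm.mul_pow, mul_comm m, pow_mul o, h3, one_pow, mul_one, mul_comm, hj, pow_succ, pow_mul,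
    pow_two, h.sqV v hv] at h2
  simpa using h2

theorem NE_O : normalizer (EE ι V : Set G) ≤ normalizer (O : Set G) := fun g hg => by
  have h1 : cj g O ≤ 𝒞(EE ι V) := (cj_mono g h.O_le_CE).trans (h.cj_CE hg).le
  have h2 : 𝒞(EE ι V) ≤ 𝒩(cj g O) := by rw [← h.cj_CE hg, ← cj_normalizer]; exact cj_mono g h.CE_norm_O
  have h3 : AA ι ⊓ (cj g O ⊔ KK ι) = ⊥ := by
    refine h.toEmb.oddL (fun a ha => h.toEmb.cent_Z ha.1 zz_mem h.toEmb.zz_ne ?_)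
      (BG.normsI (BG.norm_of_le LL_le) (BG.normsY (h.L_le_CE.trans h2) (BG.cents_norm (LL_le.trans AA_le_cent)))) ?_
    · exact (BG.cents_iff.1 (sup_le (h1.trans (BG.centS le_sup_right)) (BG.centS ZA)) a ha.2 _ zz_mem)
    · exact (card_cj g O ▸ h.odd).of_dvd_nat (card_inf_sup_dvd (BG.cents_norm AA_le_cent)
        (h1.trans (h.CE_le.trans KA_norm_K)) (inf_comm (KK ι) _ ▸ h.toEmb.K_inf_A))
  refine mem_normalizer_of_cj_le fun b hb => ?_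
  obtain ⟨v, hv, o, ho, l, hl, rfl⟩ := h.mem_CE.1 (h1 hb)
  obtain rfl : l = 1 := h3.le <| mem_inf.2 ⟨LL_le hl, by
    simpa only [inv_mul_cancel_left] using
      mul_mem (inv_mem (mem_sup_right (mul_mem (h.VK hv) (h.OK ho)))) (mem_sup_left hb : _ ∈ _ ⊔ KK ι)⟩
  rw [mul_one] at hb ⊢
  rwa [h.v_eq_one hv ho (card_cj g O ▸ h.odd) (orderOf_dvd_iff_pow_eq_one.1 (BG.order_dvdG hb)), one_mul]

theorem NE_L : normalizer (EE ι V : Set G) ≤ normalizer (LL ι : Set G) := fun g hg => by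
  have h1 : cj g (LL ι) ≤ 𝒞(EE ι V) := (cj_mono g h.L_le_CE).trans (h.cj_CE hg).le
  have e := h.toEmb.cι g
  have h2 : cj g (LL ι) ≤ AA ι :=
    h.toEmb.le_A_of_gen (h1.trans h.CE_le) (LL_cι (ι := ι) g ▸ e.perfL) (LL_cι (ι := ι) g ▸ e.genL) h.VK
      (cents_of_sq h.sqV) fun k hk a ha k2 hm => h.mem_V hk (BG.cent_sub _ fun v hv => by
        simpa using ((show Commute v (k * a) from h1 hm v (mem_sup_left hv)).mul_right
          (comm_KA (h.VK hv) ha).inv_right).eq) (j := 1) (by simpa [pow_two] using k2)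
  exact mem_normalizer_of_cj_le fun l hl =>
    h.toEmb.cent_Z (h2 hl) zz_mem h.toEmb.zz_ne (h1 hl _ (mem_sup_right zz_mem)).symm

theorem NE_RA : normalizer (EE ι V : Set G) ≤ normalizer (RA ι : Set G) := fun g hg => by
  have h1 := mem_normalizer_iff_cj.1 (h.NE_L hg)
  refine mem_normalizer_of_cj_le (h.toEmb.twoL ((cj_mono g RA_le_LL).trans h1.le) ?_ (isPGroup_cj g h.toEmb.twoR))
  rw [← h1, ← cj_normalizer]
  exact cj_mono g h.toEmb.LR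

theorem HE_V {g : G} (h1 : g ∈ HH ι) (h2 : g ∈ normalizer (EE ι V : Set G)) :
    g ∈ normalizer (V : Set G) :=
  mem_normalizer_of_forall fun _ hv => h.E_inf_K (conj_mem_of_mem_normalizer h2 (mem_sup_left hv))
    (conj_mem_of_mem_normalizer h1 (h.VK hv))

theorem tau_NE {τ : G} (hτ : Tau ι τ) : τ ∈ normalizer (EE ι V : Set G) :=
  zpowers_le.1 (BG.normsY (zpowers_le.2 (BG.cent_sub _ fun _ hv => comm_KA (h.VK hv) hτ.memA)) (zpowers_le.2 hτ.nZ))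

theorem relIndex_le {Y : Subgroup G} (hY : Y ≤ normalizer (EE ι V : Set G)) :
    (HH ι).relIndex Y ≤ 4 := by
  obtain ⟨v, hv, v1⟩ := h.exists_v
  choose f f1 f2 using fun q : Y ⧸ (HH ι).subgroupOf Y => h.graph' (hY q.out.2) hv
  rw [← h.toEmb.cardZ]
  refine Nat.card_le_card_of_injective (fun q => (⟨f q, f1 q⟩ : ZZ ι)) fun q q' e => ?_
  have e1 : f q = f q' := congrArg Subtype.val e
  rw [← q.out_eq', ← q'.out_eq', QuotientGroup.eq, mem_subgroupOf]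
  by_contra hn
  have h1 := mem_cj.1 (f2 q)
  have h2 := eq_one_of_two h.ti hn (h.VK h1) (j := 1) (by
    rw [coe_mul, coe_inv, cj_mul]
    exact mem_cj.2 (by simpa [mul_assoc, e1] using cj_mono _ h.VK (f2 q'))) (by simpa [pow_two] using h.sqV _ h1)
  have h3 : v * f q = 1 := by
    rw [show v * f q = q.out.1 * (q.out.1⁻¹ * (v * f q) * q.out.1) * q.out.1⁻¹ by group, h2]; group
  exact v1 (h.V_inf_Z.le (mem_inf.2 ⟨hv, by rw [eq_inv_of_mul_eq_one_left h3]; exact inv_mem (f1 q)⟩))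

theorem odd_Os : Odd (Nat.card (Os ι V)) := (h.ti.2 n h.nH).of_dvd_nat (BG.cardSg (le_inf Os_le (Os_le_cj h.nE)))

theorem O_le_Os : O ≤ Os ι V := fun _ ho => mem_Os.2 fun g hg =>
  cj_mono g h.OK ((mem_normalizer_iff_cj.1 (h.NE_O hg)).ge ho)

theorem comm_Os {v k w : G} (hv : v ∈ V) (v1 : v ≠ 1) (hk : k ∈ KK ι) (hc : Commute k v)
    (hw : w ∈ V) : ⁅k, w⁆ ∈ Os ι V := mem_Os.2 fun g hg => by
  by_cases hH : g ∈ HH ι
  · rw [mem_normalizer_iff_cj.1 hH]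
    exact BG.der_sub _ (commutator_mem_commutator hk (h.VK hw))
  obtain ⟨ζ, hζ, ζ1, h1⟩ := h.graph hg hH hv v1
  have hZ : ZZ (G2C.cι g ι) = ZZ ι := by rw [ZZ_cι, mem_normalizer_iff_cj.1 (h.NE_Z hg)]
  have h2 : v * ζ ∈ cj g (KK ι) := cj_mono g h.VK h1
  have o := h.toEmb.orderOf_mul (h.VK hv) (h.sqV v hv) hζ ζ1
  have h3 := (h.toStd.cι g).lt (g := g⁻¹) (k := v * ζ) (ζ := ζ)
    (fun e => hH (by rw [HH_cι, mem_cj] at e; simpa using e)) (KK_cι (ι := ι) g ▸ h2)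
    (mul_self_of_orderOf_two o) (hZ ▸ hζ) ζ1
    (by rw [KK_cι, cj_inv_cj, mul_assoc, h.toEmb.sqZ hζ, mul_one]; exact h.VK hv)
  have h4 := commg_le_K ZA (h.toEmb.cι g).Z_cents h3
  rw [KK_cι, cj_inv_cj, HH_cι] at h4
  exact h4 (commutator_mem_commutator ⟨hk, h.toStd.mem_cj_H h2 o (hc.mul_right (comm_KA hk (ZA hζ)))⟩
    ⟨h.VK hw, h.toStd.mem_cj_H h2 o ((h.commV hw hv).mul_right (comm_KA (h.VK hw) (ZA hζ)))⟩)

theorem centHA2 {g : G} (hg : g ∈ HH ι) (hc : ∀ a ∈ A2 ι, Commute g a) :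
    ∃ k ∈ KK ι, ∃ a ∈ A1 ι, g = k * a := by
  obtain ⟨k, hk, a, ha, rfl⟩ := mem_KA.1 (h.toEmb.inner_of_7 (h.norm.ge hg) fun ζ hζ => hc ζ (mem_sup_left hζ))
  refine ⟨k, hk, a, h.toEmb.centA2 ha fun b hb => ?_, rfl⟩
  simpa using (comm_KA hk (LL_le (A2_le_LL hb))).inv_left.mul_left (hc b hb)

theorem not_dvd_H : ¬ 2 ^ 16 ∣ Nat.card (HH ι) := fun hd => by
  have h1 := hd.trans (h.norm ▸ h.toEmb.card_N_dvd)
  rw [← card_mul_relIndex' h.VK, h.cardV,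
    show 2 * (4 * V.relIndex (KK ι)) * 251596800 = 2 ^ 15 * (V.relIndex (KK ι) * 61425) by ring, pow_succ] at h1
  rcases (Nat.Prime.dvd_mul Nat.prime_two).1 (Nat.dvd_of_mul_dvd_mul_left (by norm_num) h1) with h2 | h2
  · exact h.syl.not_dvd h2
  · norm_num at h2

theorem not_dvd_cent {d : G} (hd : d ∈ DD ι) : ¬ 2 ^ 16 ∣ Nat.card (centralizer ({d} : Set G)) := fun h1 => by
  obtain ⟨o, g, hg⟩ := hd
  refine h.not_dvd_H (card_cj g (HH ι) ▸ h1.trans (BG.cardSg fun c hc => ?_))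
  exact h.toStd.mem_cj_H hg o (mem_centralizer_singleton_iff.1 hc)

end S0

end CfsgLib.G2C
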